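import Cfsg.Agent.SuzukiRankOne.Assembly
set_option linter.all false

/-!
# The order of `Q` in a simple rank-one set-up

`card_Q` : in a simple faithful rank-one set-up of `2`-rank at least two, with `q - 1` the number of
involutions of `G_a`, `q = 2 ^ k`, `k ≥ 2`, and `|Q| = q ^ i`, `i ≤ 3`.
-/

set_option autoImplicit false

open Cfsg

namespace Cfsg.Agent.AschCrit.RankOneCard

open MulAction Cfsg.Agent Cfsg.Agent.SuzukiRankOne Cfsg.Agent.SuzukiRankOne.Assembly

variable {G Ω : Type*} [Group G] [Finite G] [MulAction G Ω] {a : Ω} {t : G} {Q : Subgroup G}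

theorem card_Q [FaithfulSMul G Ω] [IsSimpleGroup G] (hS : IsRankOneSetup G Ω a t Q)
    (h2 : ∃ x y : G, x ≠ 1 ∧ y ≠ 1 ∧ x ≠ y ∧ x * x = 1 ∧ y * y = 1 ∧ x * y = y * x) :
    ∃ k i : ℕ, 2 ≤ k ∧ 1 ≤ i ∧ i ≤ 3 ∧
      Nat.card (involutionsIn (stabilizer G a : Set G)) + 1 = 2 ^ k ∧
      Nat.card Q = (2 ^ k) ^ i := by
  obtain ⟨hcen, hclosed⟩ := S1130.result hS h2
  have hK := S1131.result hS h2
  obtain ⟨C, hC, hCc, -⟩ := id hK
  obtain ⟨⟨s, r⟩, ⟨hs, hr, hsr⟩, -⟩ := S1123.result hS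
  simp only at hs hr hsr
  have hQ2 := M1.isPGroup_Q hS h2
  have : Fact (Nat.Prime 2) := ⟨Nat.prime_two⟩
  obtain ⟨F, iF, iFt, iFc, κ, iA, δ, T, hδ1⟩ :=
    SingerField.exists_torus hS hcen C hC hCc s hs
  have hF2 : 2 < Nat.card F := TranslationMain.two_lt_card hS h2 T
  have hFc := UThreeMain.card_field hS T
  have hFp : ∃ k, Nat.card F = 2 ^ k := by
    obtain ⟨n, hn, hn'⟩ := FiniteField.card F 2
    exact ⟨n, by rw [Nat.card_eq_fintype_card, hn']⟩
  obtain ⟨k, hk⟩ := hFp
  have hk2 : 2 ≤ k := by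
    by_contra hlt
    have hlt' : k ≤ 1 := by omega
    have h1 : 2 ^ k ≤ 2 ^ 1 := Nat.pow_le_pow_right (by norm_num) hlt'
    rw [← hk] at h1
    omega
  rw [hk] at hFc
  have hcQ : ∃ i : ℕ, 1 ≤ i ∧ i ≤ 3 ∧ Nat.card Q = (2 ^ k) ^ i := by
    by_cases hall : ∀ x ∈ Q, x * x = 1
    · refine ⟨1, le_rfl, by norm_num, ?_⟩
      rw [pow_one, hFc]
      -- `Q` is the set of involutions of `G_a` with `1`
      have h1 : (Q : Set G) = insert 1 (involutionsIn (stabilizer G a : Set G)) := by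
        ext g
        constructor
        · intro hg
          by_cases hg1 : g = 1
          · left; exact hg1
          · right; exact ⟨hS.le hg, hg1, hall g hg⟩
        · rintro (rfl | hg)
          · exact Q.one_mem
          · exact (hcen g hg).1
      have h3 : Nat.card Q = (Q : Set G).ncard := Nat.card_coe_set_eq _
      rw [h3, h1, Set.ncard_insert_of_notMem, ← Nat.card_coe_set_eq]
      rintro ⟨-, h, -⟩
      exact h rfl
    by_cases hrs : r = s
    · subst hrs
      have hinv : r⁻¹ = r := inv_eq_of_mul_eq_one_left hs.2.2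
      rw [hinv] at hsr
      obtain ⟨-, -, hcard⟩ := TranslationMain.main hS h2 T (by rw [hδ1]; exact hsr)
      have hcard' := hcard.resolve_left hall
      exact ⟨3, by norm_num, le_rfl, by rw [hcard', hk]⟩
    · have hnab : ¬ ∀ x ∈ Q, ∀ y ∈ Q, x * y = y * x := fun h =>
        hrs (AbelianCase.r_eq_s hS h2 C hC hQ2 h s r hs hr hsr)
      let S : Sylow 2 Q := default
      have hST : (S : Subgroup Q) = ⊤ :=
        (S.is_maximal' (hQ2.of_equiv Subgroup.topEquiv.symm) le_top).symm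
      have hSuz : IsSuzukiTwoGroup ↥(S : Subgroup Q) := by
        rcases S1132.result hS h2 S with h | h
        · exfalso
          apply hnab
          intro x hx y hy
          have hmem : ∀ x : Q, x ∈ (S : Subgroup Q) := fun x => by
            rw [hST]
            exact Subgroup.mem_top x
          have h3 := h.is_comm.comm (⟨⟨x, hx⟩, hmem _⟩ : (S : Subgroup Q)) ⟨⟨y, hy⟩, hmem _⟩
          exact congrArg (fun z : (S : Subgroup Q) => ((z : Q) : G)) h3
        · exact h
      obtain ⟨h4, hcard, n, hn⟩ := of_suzuki hS hcen S hST hSuz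
      rw [← hFc] at hcard
      rcases hcard with h | h
      · exact ⟨2, by norm_num, by norm_num, h⟩
      · exact ⟨3, by norm_num, le_rfl, h⟩
  obtain ⟨i, hi1, hi3, hi⟩ := hcQ
  exact ⟨k, i, hk2, hi1, hi3, hFc.symm, hi⟩

end Cfsg.Agent.AschCrit.RankOneCard
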