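import Mathlib
import Cfsg.Agent.AschCrit.CommFour.Orbits_m3
import Cfsg.Agent.OddOrderCharacters.ClassSum
import Cfsg.Agent.AschCrit.CommuteFinal_mg_m3
import Cfsg.Agent.FastGrp
import Cfsg.Agent.Prune
set_option linter.all false
prune_inst 0x7ffcfef9afb8addfffff7e7ffff9dffe39d4dfffffdffb4bfffdfbffefdf236f3be5fbaf1de458ffcef7e2b630b87813fd7eeeffaf6bdc7ffffd5ff45ffbec1f976fbfa951d698340ffc6ffffbf17fbffffffffffffffffffffffffffffffffffffdffbfffff
open scoped Cfsg.Agent.FastGrp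

-- part: AschCrit/CommTwo
section
/-!
# Aschbacher's criterion, commutative case (C2)

`V = D_a ∪ 1` a subgroup of order `q ^ 2`, `|Ω| = 1 + q ^ 4 ((q - 1) ^ 2 + 1)`, no bad involution
fixing `a` centralises `V`, and for one bad involution `u` fixing `a` the centraliser of `u` acts on
its fixed points like `PSU₃(q)` (`LocalU`): impossible.
-/

set_option autoImplicit false

namespace Cfsg.Agent.AschCrit.CommTwo

open Cfsg.Agent.TwoFusion.StronglyEmbeddedBasic Cfsg.Agent.AschCrit.Basic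
open Cfsg.Agent.AschCrit.Basic.Setup Cfsg.Agent.AschCrit.Closed
open scoped Pointwise

section General

variable {G : Type*} [Group G]

/-- a nontrivial element of a 2-group has a power of order two -/
theorem exists_pow_orderOf_two {S : Subgroup G} (hS : IsPGroup 2 S) {s : G} (hs : s ∈ S)
    (hs1 : s ≠ 1) : ∃ k : ℕ, orderOf (s ^ k) = 2 := by
  obtain ⟨n, hn⟩ := (IsPGroup.iff_orderOf.mp hS) ⟨s, hs⟩
  have hn' : orderOf s = 2 ^ n := by rw [← hn]; exact (Subgroup.orderOf_mk s hs).symm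
  cases n with
  | zero =>
    rw [pow_zero, orderOf_eq_one_iff] at hn'
    exact absurd hn' hs1
  | succ j =>
    refine ⟨2 ^ j, ?_⟩
    have h2 : orderOf s = 2 ^ j * 2 := by rw [hn', pow_succ]
    rw [orderOf_pow' s (pow_ne_zero j two_ne_zero), h2, Nat.gcd_eq_right (Dvd.intro 2 rfl)]
    exact Nat.mul_div_cancel_left 2 (by positivity)

/-- Frattini argument for a subgroup `W` and an element `g` normalising it -/
theorem exists_mul_mem_normalizer [Finite G] {W : Subgroup G} {p : ℕ} [Fact p.Prime]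
    (Q : Sylow p W) {g : G} (hg : ∀ w : G, w ∈ W ↔ g * w * g⁻¹ ∈ W) :
    ∃ w ∈ W, ∀ x, x ∈ (Q : Subgroup W).map W.subtype ↔
      (w * g) * x * (w * g)⁻¹ ∈ (Q : Subgroup W).map W.subtype := by
  let φ : MulAut W :=
    { toFun := fun w => ⟨g * w * g⁻¹, (hg w).mp w.2⟩
      invFun := fun w => ⟨g⁻¹ * w * g, by
        rw [hg]
        have e : g * (g⁻¹ * (w : G) * g) * g⁻¹ = w := by group
        rw [e]; exact w.2⟩
      left_inv := fun w => Subtype.ext (by simp [mul_assoc])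
      right_inv := fun w => Subtype.ext (by simp [mul_assoc])
      map_mul' := fun w w' => Subtype.ext (by simp only [mul_assoc, _root_.Subgroup.coe_mul, _root_.MulMemClass.mk_mul_mk, _root_.inv_mul_cancel_left]) }
  obtain ⟨n, hn⟩ := MulAction.exists_smul_eq W (φ • Q) Q
  refine ⟨n, n.2, ?_⟩
  have key : ∀ x : W, x ∈ (Q : Subgroup W) ↔ n * φ x * n⁻¹ ∈ (Q : Subgroup W) := by
    intro x
    have h1 : (n • (φ • Q) : Sylow p W) = Q := hn
    have h2 : n * φ x * n⁻¹ ∈ (n • (φ • Q) : Sylow p W) ↔ x ∈ Q := by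
      have e : n * φ x * n⁻¹ = MulAut.conj n • (φ • x) := rfl
      rw [e, Sylow.smul_def]
      change MulAut.conj n • (φ • x) ∈ MulAut.conj n • (φ • (Q : Subgroup W)) ↔ _
      rw [Subgroup.smul_mem_pointwise_smul_iff, Subgroup.smul_mem_pointwise_smul_iff]
      rfl
    rw [h1] at h2
    exact h2.symm
  intro x
  constructor
  · rintro ⟨y, hy, rfl⟩
    refine ⟨n * φ y * n⁻¹, (key y).mp hy, ?_⟩
    show (n : G) * (g * y * g⁻¹) * (n : G)⁻¹ = _
    simp only [mul_assoc, _root_.Subgroup.subtype_apply, _root_.mul_inv_rev]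
  · rintro ⟨y, hy, hyx⟩
    have hxW : x ∈ W := by
      rw [hg]
      have e : g * x * g⁻¹ = (n : G)⁻¹ * y * n := by
        have : (y : G) = n * g * x * (n * g)⁻¹ := hyx
        rw [this]; group
      rw [e]; exact mul_mem (mul_mem (inv_mem n.2) y.2) n.2
    refine ⟨⟨x, hxW⟩, (key ⟨x, hxW⟩).mpr ?_, rfl⟩
    have e : n * φ ⟨x, hxW⟩ * n⁻¹ = y := by
      apply Subtype.ext
      have : (y : G) = n * g * x * (n * g)⁻¹ := hyx
      rw [this]
      show (n : G) * (g * x * g⁻¹) * (n : G)⁻¹ = _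
      group
    rw [e]; exact hy

/-- A finite group `N` acts on a group `V` by automorphisms, transitively on the elements `≠ 1`, and
on a group `S`; `r` is a prime dividing `|V| - 1` and whenever a subgroup `R` of `N` fixes a
nontrivial element of `S`, it fixes a nontrivial element of `V`.  Then `|S| ≡ |V| ≡ 1` modulo `r`. -/
theorem card_modEq_one {N V S : Type*} [Group N] [Finite N] [Group V] [Finite V] [Group S] [Finite S]
    [MulDistribMulAction N V] [MulDistribMulAction N S] {r : ℕ} [Fact r.Prime]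
    (ht : ∀ v w : V, v ≠ 1 → w ≠ 1 → ∃ g : N, g • v = w) (hr : r ∣ Nat.card V - 1)
    (hS : ∀ R : Subgroup N, ∀ s : S, s ≠ 1 → (∀ g ∈ R, g • s = s) →
      ∃ v : V, v ≠ 1 ∧ ∀ g ∈ R, g • v = v) :
    Nat.card S ≡ 1 [MOD r] ∧ Nat.card V ≡ 1 [MOD r] := by
  obtain ⟨R⟩ : Nonempty (Sylow r N) := inferInstance
  have hno : ∀ v : V, v ≠ 1 → ¬ ∀ g ∈ (R : Subgroup N), g • v = v := by
    intro v hv hfix
    have hle : (R : Subgroup N) ≤ MulAction.stabilizer N v := fun g hg => hfix g hg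
    have h1 : (MulAction.stabilizer N v).index = Nat.card V - 1 := by
      rw [MulAction.index_stabilizer]
      have horb : MulAction.orbit N v = (({1} : Set V)ᶜ) := by
        ext w
        constructor
        · rintro ⟨g, rfl⟩ hw
          apply hv
          have h2 : g • v = 1 := hw
          rw [← inv_smul_smul g v, h2, smul_one]
        · intro hw
          obtain ⟨g, hg⟩ := ht v w hv hw
          exact ⟨g, hg⟩
      rw [horb, Set.ncard_compl, Set.ncard_singleton]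
    have h2 : r ∣ (R : Subgroup N).index := by
      refine dvd_trans ?_ (Subgroup.index_dvd_of_le hle)
      rw [h1]; exact hr
    exact R.not_dvd_index h2
  have hV1 : ∀ v : V, v ∈ MulAction.fixedPoints R V ↔ v = 1 := by
    intro v
    constructor
    · intro h
      by_contra hv
      exact hno v hv fun g hg => h ⟨g, hg⟩
    · rintro rfl g
      exact smul_one (g : N)
  have hS1 : ∀ s : S, s ∈ MulAction.fixedPoints R S ↔ s = 1 := by
    intro s
    constructor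
    · intro h
      by_contra hs
      obtain ⟨v, hv, hfix⟩ := hS R s hs fun g hg => h ⟨g, hg⟩
      exact hno v hv hfix
    · rintro rfl g
      exact smul_one (g : N)
  have hcV : Nat.card (MulAction.fixedPoints R V) = 1 := by
    rw [Nat.card_eq_one_iff_unique]
    exact ⟨⟨fun x y => Subtype.ext (by rw [(hV1 _).mp x.2, (hV1 _).mp y.2])⟩, ⟨⟨1, (hV1 1).mpr rfl⟩⟩⟩
  have hcS : Nat.card (MulAction.fixedPoints R S) = 1 := by
    rw [Nat.card_eq_one_iff_unique]
    exact ⟨⟨fun x y => Subtype.ext (by rw [(hS1 _).mp x.2, (hS1 _).mp y.2])⟩, ⟨⟨1, (hS1 1).mpr rfl⟩⟩⟩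
  have h1 := R.2.card_modEq_card_fixedPoints (α := S)
  have h2 := R.2.card_modEq_card_fixedPoints (α := V)
  rw [hcS] at h1
  rw [hcV] at h2
  exact ⟨h1, h2⟩

/-- the conjugation action of a subgroup `N` on a subgroup `V` normalised by it -/
@[reducible] def conjAct (N V : Subgroup G) (h : ∀ g ∈ N, ∀ v ∈ V, g * v * g⁻¹ ∈ V) :
    MulDistribMulAction N V where
  smul g v := ⟨g * v * (g : G)⁻¹, h g g.2 v v.2⟩
  one_smul v := Subtype.ext (by show (1 : G) * v * (1 : G)⁻¹ = v; simp)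
  mul_smul g g' v := Subtype.ext (by
    show ((g : G) * g') * v * ((g : G) * g')⁻¹ = g * (g' * v * (g' : G)⁻¹) * (g : G)⁻¹
    group)
  smul_one g := Subtype.ext (by show (g : G) * 1 * (g : G)⁻¹ = 1; simp)
  smul_mul g v w := Subtype.ext (by
    show (g : G) * (v * w) * (g : G)⁻¹ = (g * v * (g : G)⁻¹) * (g * w * (g : G)⁻¹)
    group)

/-- Subgroup form of `card_modEq_one`. -/
theorem modEq_one_subgroup [Finite G] (N V S : Subgroup G)
    (hNV : ∀ g ∈ N, ∀ v ∈ V, g * v * g⁻¹ ∈ V) (hNS : ∀ g ∈ N, ∀ v ∈ S, g * v * g⁻¹ ∈ S) {r : ℕ}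
    [Fact r.Prime] (ht : ∀ v ∈ V, ∀ w ∈ V, v ≠ 1 → w ≠ 1 → ∃ g ∈ N, g * v * g⁻¹ = w)
    (hr : r ∣ Nat.card V - 1)
    (hS : ∀ R : Subgroup G, R ≤ N → ∀ s ∈ S, s ≠ 1 → (∀ g ∈ R, Commute g s) →
      ∃ v ∈ V, v ≠ 1 ∧ ∀ g ∈ R, Commute g v) :
    Nat.card S ≡ 1 [MOD r] ∧ Nat.card V ≡ 1 [MOD r] := by
  let iV := conjAct N V hNV
  let iS := conjAct N S hNS
  have hcomm : ∀ g x : G, g * x * g⁻¹ = x ↔ Commute g x := by
    intro g x
    rw [mul_inv_eq_iff_eq_mul]
    exact Iff.rfl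
  refine card_modEq_one (N := N) (V := V) (S := S) ?_ hr ?_
  · intro v w hv hw
    obtain ⟨g, hg, hgv⟩ := ht v v.2 w w.2 (fun h => hv (Subtype.ext h)) (fun h => hw (Subtype.ext h))
    exact ⟨⟨g, hg⟩, Subtype.ext hgv⟩
  · intro R s hs hfix
    obtain ⟨v, hv, hv1, hfv⟩ := hS (R.map N.subtype) (by
      rintro _ ⟨g, -, rfl⟩; exact g.2) s s.2 (fun h => hs (Subtype.ext h)) (by
      rintro _ ⟨g, hg, rfl⟩
      exact (hcomm _ _).mp (congrArg Subtype.val (hfix g hg)))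
    refine ⟨⟨v, hv⟩, fun h => hv1 (congrArg Subtype.val h), fun g hg => Subtype.ext ?_⟩
    exact (hcomm _ _).mpr (hfv g ⟨g, hg, rfl⟩)

/-- an element `y` of odd order commuting with `u` and with every element of `V` (elementary abelian)
commuting with `u` centralises `V`, if `v * (u v u⁻¹)` always commutes with `u` -/
theorem commute_of_odd {V : Subgroup G} (hV : ∀ v ∈ V, ∀ w ∈ V, Commute v w)
    (hV2 : ∀ v ∈ V, v * v = 1) {u y : G} (hu2 : u * u = 1) (huV : ∀ v ∈ V, u * v * u⁻¹ ∈ V)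
    (hyV : ∀ v ∈ V, y * v * y⁻¹ ∈ V) (hy : Odd (orderOf y)) (hyu : Commute y u)
    (hyc : ∀ v ∈ V, Commute v u → Commute y v) : ∀ v ∈ V, Commute y v := by
  intro v hv
  have hinv : ∀ w ∈ V, w⁻¹ = w := fun w hw => inv_eq_of_mul_eq_one_right (hV2 w hw)
  have hui : u⁻¹ = u := inv_eq_of_mul_eq_one_right hu2
  have hconj : ∀ g x : G, g * x * g⁻¹ = x → Commute g x := by
    intro g x hgx
    exact mul_inv_eq_iff_eq_mul.mp hgx
  -- `[v, u]` commutes with `u`
  have hb : Commute (v * (u * v * u⁻¹)) u := by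
    refine (hconj u _ ?_).symm
    calc u * (v * (u * v * u⁻¹)) * u⁻¹ = (u * v * u⁻¹) * ((u * u) * v * (u * u)⁻¹) := by group
      _ = (u * v * u⁻¹) * v := by rw [hu2]; group
      _ = v * (u * v * u⁻¹) := (hV _ (huV v hv) v hv).eq
  set v' := y * v * y⁻¹ with hv'
  have hv'V : v' ∈ V := hyV v hv
  have hyb : Commute y (v * (u * v * u⁻¹)) := hyc _ (mul_mem hv (huV v hv)) hb
  have h1 : v' * (u * v' * u⁻¹) = v * (u * v * u⁻¹) := by
    have h2 : y * (v * (u * v * u⁻¹)) * y⁻¹ = v * (u * v * u⁻¹) := by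
      rw [hyb.eq]; group
    rw [← h2]
    have h3 : y * u = u * y := hyu.eq
    have h4 : u⁻¹ * y⁻¹ = y⁻¹ * u⁻¹ := by rw [← mul_inv_rev, ← mul_inv_rev, h3]
    calc v' * (u * v' * u⁻¹) = y * v * y⁻¹ * ((u * y) * v * (y⁻¹ * u⁻¹)) := by rw [hv']; group
      _ = y * v * y⁻¹ * ((y * u) * v * (u⁻¹ * y⁻¹)) := by rw [h3, h4]
      _ = y * (v * (u * v * u⁻¹)) * y⁻¹ := by group
  -- `c = v * v'` commutes with `u`
  set c := v * v' with hc
  have hcV : c ∈ V := mul_mem hv hv'V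
  have hcu : Commute c u := by
    refine (hconj u c ?_).symm
    have h2 : (u * v' * u⁻¹) = v' * (v * (u * v * u⁻¹)) := by
      rw [← h1, ← mul_assoc v' v', hV2 v' hv'V, one_mul]
    calc u * (v * v') * u⁻¹ = (u * v * u⁻¹) * (u * v' * u⁻¹) := by group
      _ = (u * v * u⁻¹) * (v' * (v * (u * v * u⁻¹))) := by rw [h2]
      _ = (u * v * u⁻¹) * ((v' * v) * (u * v * u⁻¹)) := by rw [mul_assoc v']
      _ = (v' * v) * (u * v * u⁻¹) * (u * v * u⁻¹) := by
          rw [← mul_assoc, (hV _ (huV v hv) _ (mul_mem hv'V hv)).eq]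
      _ = v' * v := by rw [mul_assoc, hV2 _ (huV v hv), mul_one]
      _ = v * v' := (hV _ hv'V _ hv).eq
  have hyc' : Commute y c := hyc c hcV hcu
  have hv'c : v' = v * c := by rw [hc, ← mul_assoc, hV2 v hv, one_mul]
  have hpow : ∀ n : ℕ, y ^ n * v * (y ^ n)⁻¹ = v * c ^ n := by
    intro n
    induction n with
    | zero => simp
    | succ n ih =>
      calc y ^ (n + 1) * v * (y ^ (n + 1))⁻¹ = y * (y ^ n * v * (y ^ n)⁻¹) * y⁻¹ := by
            rw [pow_succ']; group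
        _ = y * (v * c ^ n) * y⁻¹ := by rw [ih]
        _ = (y * v * y⁻¹) * (y * c ^ n * y⁻¹) := by group
        _ = v * c * c ^ n := by
            rw [← hv', hv'c, (hyc'.pow_right n).eq]; group
        _ = v * c ^ (n + 1) := by rw [pow_succ']; group
  obtain ⟨m, hm⟩ := hy
  have h2 := hpow (orderOf y)
  rw [pow_orderOf_eq_one] at h2
  have h3 : c ^ orderOf y = c := by
    rw [hm, pow_succ, pow_mul, pow_two, hV2 c hcV, one_pow, one_mul]
  rw [h3] at h2
  have hc1 : c = 1 := by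
    have : v * c = v * 1 := by rw [← h2]; group
    exact mul_left_cancel this
  refine hconj y v ?_
  rw [← hv', hv'c, hc1, mul_one]

end General

section Main

variable {G Ω : Type*} [Group G] [MulAction G Ω] {z : G} {a : Ω} {V : Subgroup G}

/-- The centraliser of the bad involution `u` acts on the fixed points of `u` like `PSU₃(q)`: `P` is
(over) a Sylow 2-subgroup at `a`, `K` the kernel, `y` an element of order dividing `q + 1` of a torus. -/
def LocalU (V : Subgroup G) (a : Ω) (u : G) (q : ℕ) : Prop :=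
  ∃ (P K : Subgroup G) (y : G), IsPGroup 2 P ∧ (∀ x ∈ P, x • a = a ∧ Commute x u) ∧
    (∀ v ∈ V, Commute v u → v ∈ P) ∧ (∃ b : Ω, b ≠ a ∧ ∀ k ∈ K, k • a = a ∧ k • b = b) ∧
    (∀ x ∈ P, ∀ k ∈ K, x * k * x⁻¹ ∈ K) ∧ q ^ 3 * Nat.card (P ⊓ K : Subgroup G) ≤ Nat.card P ∧
    Odd (orderOf y) ∧ Commute y u ∧ y • a = a ∧ (∀ x ∈ P, y⁻¹ * x * y ∈ P) ∧
    (∀ v ∈ V, Commute v u → Commute y v) ∧
    (∀ p ∈ P, ∃ p' ∈ P, ∃ v ∈ V, ∃ k ∈ K, Commute v u ∧ p = (p'⁻¹ * (y⁻¹ * p' * y)) * v * k) ∧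
    (∀ x ∈ P, ∃ v ∈ V, ∃ k ∈ K, Commute v u ∧ x * x = v * k) ∧ ∃ x ∈ P, x * x ∉ K

theorem conj_mem_V (hV : ∀ d : G, d ∈ V ↔ d = 1 ∨ d ∈ At z a) {g : G} (hg : g • a = a) {v : G}
    (hv : v ∈ V) : g * v * g⁻¹ ∈ V := by
  rw [hV] at hv ⊢
  rcases hv with rfl | hv
  · left; simp
  · right; have := conj_mem_At g hv; rwa [hg] at this

theorem cent_smul (h : Setup G Ω z) (hV : ∀ d : G, d ∈ V ↔ d = 1 ∨ d ∈ At z a) {w : G}
    (hw : w ∈ Subgroup.centralizer (V : Set G)) : w • a = a := by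
  obtain ⟨d, hd⟩ := h.nonempty_At a
  refine h.fix_of_commute hd.1 ?_ hd.2
  exact (Subgroup.mem_centralizer_iff.mp hw d ((hV d).mpr (Or.inr hd))).symm

theorem inv_mem_V [Finite G] (h : Setup G Ω z) (hf : ∀ g : G, (∀ a : Ω, g • a = a) → g = 1)
    (hV : ∀ d : G, d ∈ V ↔ d = 1 ∨ d ∈ At z a)
    (hbad : ∀ w : G, Bad Ω w → w • a = a → w ∉ Subgroup.centralizer (V : Set G)) {t : G}
    (ht : t ∈ Subgroup.centralizer (V : Set G)) (ht2 : orderOf t = 2) : t ∈ V := by
  have hta := cent_smul h hV ht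
  rcases isConj_or_bad h hf ht2 with hc | hc
  · exact (hV t).mpr (Or.inr ⟨hc, hta⟩)
  · exact absurd ht (hbad t hc hta)

theorem eq_one_of_fix [Finite G] (h : Setup G Ω z) (hV : ∀ d : G, d ∈ V ↔ d = 1 ∨ d ∈ At z a)
    (hbad : ∀ w : G, Bad Ω w → w • a = a → w ∉ Subgroup.centralizer (V : Set G)) {S : Subgroup G}
    (hS : IsPGroup 2 S) (hSW : S ≤ Subgroup.centralizer (V : Set G)) {s : G} (hs : s ∈ S) {b : Ω}
    (hb : b ≠ a) (hsb : s • b = b) : s = 1 := by
  by_contra hs1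
  obtain ⟨k, hk⟩ := exists_pow_orderOf_two hS hs hs1
  have hmem : s ^ k ∈ Subgroup.centralizer (V : Set G) := pow_mem (hSW hs) k
  have hfa : s ^ k • a = a := cent_smul h hV hmem
  have hfb : s ^ k • b = b := by
    have h1 : s ∈ MulAction.stabilizer G b := hsb
    exact pow_mem h1 k
  exact hbad _ ⟨hk, b, a, hb, hfb, hfa⟩ hfa hmem

/-- the order of a 2-subgroup of `C(V)` divides `|Ω| - 1` -/
theorem card_dvd [Finite G] (h : Setup G Ω z) (hV : ∀ d : G, d ∈ V ↔ d = 1 ∨ d ∈ At z a)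
    (hbad : ∀ w : G, Bad Ω w → w • a = a → w ∉ Subgroup.centralizer (V : Set G)) {S : Subgroup G}
    (hS : IsPGroup 2 S) (hSW : S ≤ Subgroup.centralizer (V : Set G)) :
    Nat.card S ∣ Nat.card Ω - 1 := by
  classical
  have hfin : Finite Ω := h.finite_points
  have := Fintype.ofFinite Ω
  have h1 := Cfsg.Agent.OddOrderCharacters.ClassSum.card_dvd_of_free (H := S) (X := Ω)
    (Finset.univ.erase a) (by
      intro s x hx
      rw [Finset.mem_erase] at hx ⊢
      refine ⟨fun hc => hx.1 ?_, Finset.mem_univ _⟩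
      have h2 : (s : G) • a = a := cent_smul h hV (hSW s.2)
      have h3 : (s : G) • x = (s : G) • a := by rw [h2]; exact hc
      exact smul_left_cancel (s : G) h3) (by
      intro s x hx h1
      rw [Finset.mem_erase] at hx
      exact Subtype.ext (eq_one_of_fix h hV hbad hS hSW s.2 hx.1 h1))
  rw [Finset.card_erase_of_mem (Finset.mem_univ _), Finset.card_univ, ← Nat.card_eq_fintype_card]
    at h1
  exact h1

theorem mul_self_V (h : Setup G Ω z) (hV : ∀ d : G, d ∈ V ↔ d = 1 ∨ d ∈ At z a) {v : G}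
    (hv : v ∈ V) : v * v = 1 := by
  rcases (hV v).mp hv with rfl | hv
  · simp
  · exact h.mul_self hv.1

theorem comm_V (h : Setup G Ω z) (hV : ∀ d : G, d ∈ V ↔ d = 1 ∨ d ∈ At z a) {v w : G}
    (hv : v ∈ V) (hw : w ∈ V) : Commute v w := by
  have h1 := mul_self_V h hV (mul_mem hv hw)
  have h2 := mul_self_V h hV hv
  have h3 := mul_self_V h hV hw
  have h4 : v⁻¹ = v := inv_eq_of_mul_eq_one_right h2
  have h5 : w⁻¹ = w := inv_eq_of_mul_eq_one_right h3
  have h6 : (v * w)⁻¹ = v * w := inv_eq_of_mul_eq_one_right h1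
  rw [mul_inv_rev, h4, h5] at h6
  exact h6.symm

theorem V_le_cent (h : Setup G Ω z) (hV : ∀ d : G, d ∈ V ↔ d = 1 ∨ d ∈ At z a) :
    V ≤ Subgroup.centralizer (V : Set G) := fun _ hv =>
  Subgroup.mem_centralizer_iff.mpr fun _ hw => (comm_V h hV hw hv).eq

theorem mem_cent_conj (hV : ∀ d : G, d ∈ V ↔ d = 1 ∨ d ∈ At z a) {g : G} (hg : g • a = a)
    {w : G} (hw : w ∈ Subgroup.centralizer (V : Set G)) :
    g * w * g⁻¹ ∈ Subgroup.centralizer (V : Set G) := by
  rw [Subgroup.mem_centralizer_iff] at hw ⊢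
  intro v hv
  have hg' : g⁻¹ • a = a := by rw [inv_smul_eq_iff, hg]
  have h1 := hw _ (conj_mem_V hV hg' hv)
  rw [inv_inv] at h1
  calc v * (g * w * g⁻¹) = g * ((g⁻¹ * v * g) * w) * g⁻¹ := by group
    _ = g * (w * (g⁻¹ * v * g)) * g⁻¹ := by rw [h1]
    _ = g * w * g⁻¹ * v := by group

/-- Frattini: the normaliser of a Sylow 2-subgroup `S` of `C(V)` is transitive on `V` minus `1` -/
theorem frattini [Finite G] (h : Setup G Ω z) (hV : ∀ d : G, d ∈ V ↔ d = 1 ∨ d ∈ At z a)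
    (Q : Sylow 2 (Subgroup.centralizer (V : Set G))) {S : Subgroup G}
    (hSQ : S = (Q : Subgroup (Subgroup.centralizer (V : Set G))).map (Subgroup.subtype _)) {v w : G}
    (hv : v ∈ V) (hw : w ∈ V) (hv1 : v ≠ 1) (hw1 : w ≠ 1) :
    ∃ g : G, g • a = a ∧ (∀ x, x ∈ S ↔ g * x * g⁻¹ ∈ S) ∧ g * v * g⁻¹ = w := by
  obtain ⟨g, hg, hgv⟩ := h.exists_conj_at (((hV v).mp hv).resolve_left hv1)
    (((hV w).mp hw).resolve_left hw1)
  obtain ⟨n, hn, hnS⟩ := exists_mul_mem_normalizer Q (g := g) (by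
    intro x
    refine ⟨mem_cent_conj hV hg, fun hx => ?_⟩
    have hg' : g⁻¹ • a = a := by rw [inv_smul_eq_iff, hg]
    have := mem_cent_conj hV hg' hx
    have e : g⁻¹ * (g * x * g⁻¹) * g⁻¹⁻¹ = x := by group
    rwa [e] at this)
  refine ⟨n * g, ?_, ?_, ?_⟩
  · rw [mul_smul, hg]; exact cent_smul h hV hn
  · rw [hSQ]; exact hnS
  · calc n * g * v * (n * g)⁻¹ = n * (g * v * g⁻¹) * n⁻¹ := by group
      _ = n * w * n⁻¹ := by rw [hgv]
      _ = w := by
        have := Subgroup.mem_centralizer_iff.mp hn w hw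
        rw [← this]; group

/-- The order of a Sylow 2-subgroup `S` of `C(V)` is `1` modulo each prime dividing `|V| - 1`. -/
theorem modEq_one [Finite G] (h : Setup G Ω z) (hf : ∀ g : G, (∀ a : Ω, g • a = a) → g = 1)
    (hV : ∀ d : G, d ∈ V ↔ d = 1 ∨ d ∈ At z a)
    (hbad : ∀ w : G, Bad Ω w → w • a = a → w ∉ Subgroup.centralizer (V : Set G))
    (Q : Sylow 2 (Subgroup.centralizer (V : Set G))) {S : Subgroup G}
    (hSQ : S = (Q : Subgroup (Subgroup.centralizer (V : Set G))).map (Subgroup.subtype _))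
    {r : ℕ} [Fact r.Prime] (hr : r ∣ Nat.card V - 1) :
    Nat.card S ≡ 1 [MOD r] ∧ Nat.card V ≡ 1 [MOD r] := by
  have hSp : IsPGroup 2 S := by rw [hSQ]; exact Q.2.map _
  have hSW : S ≤ Subgroup.centralizer (V : Set G) := by
    rw [hSQ]; rintro _ ⟨x, -, rfl⟩; exact x.2
  refine modEq_one_subgroup (MulAction.stabilizer G a ⊓ Subgroup.normalizer (S : Set G)) V S ?_ ?_ ?_ hr ?_
  · intro g hg v hv
    exact conj_mem_V hV hg.1 hv
  · intro g hg s hs
    exact (Subgroup.mem_normalizer_iff.mp hg.2 s).mp hs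
  · intro v hv w hw hv1 hw1
    obtain ⟨g, hg, hgS, hgv⟩ := frattini h hV Q hSQ hv hw hv1 hw1
    exact ⟨g, ⟨hg, Subgroup.mem_normalizer_iff.mpr hgS⟩, hgv⟩
  · intro R hR s hs hs1 hRs
    obtain ⟨k, hk⟩ := exists_pow_orderOf_two hSp hs hs1
    refine ⟨s ^ k, inv_mem_V h hf hV hbad (pow_mem (hSW hs) k) hk, ?_, ?_⟩
    · intro h1
      rw [h1, orderOf_one] at hk
      exact absurd hk (by norm_num)
    · intro g hg
      exact (hRs g hg).pow_right k

/-- arithmetic: a power of two dividing `q ^ 4 ((q - 1) ^ 2 + 1)` divides `2 q ^ 4` -/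
theorem arith {k q s : ℕ} (hk : 2 ≤ k) (hq : q = 2 ^ k)
    (hs : 2 ^ s ∣ q ^ 4 * ((q - 1) ^ 2 + 1)) : s ≤ 4 * k + 1 := by
  obtain ⟨m, rfl⟩ : ∃ m, k = m + 2 := ⟨k - 2, by omega⟩
  have h1 : (q - 1) ^ 2 + 1 = 2 * (2 * (2 ^ (2 * m + 2) - 2 ^ m * 2) + 1) := by
    have h2 : 2 ^ m * 2 ≤ 2 ^ (2 * m + 2) := by
      rw [← pow_succ]
      exact Nat.pow_le_pow_right (by norm_num) (by omega)
    have h3 : 1 ≤ q := by rw [hq]; exact Nat.one_le_two_pow
    zify [h2, h3]
    rw [hq]; push_cast; ring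
  have h4 : q ^ 4 * ((q - 1) ^ 2 + 1) =
      2 ^ (4 * (m + 2) + 1) * (2 * (2 ^ (2 * m + 2) - 2 ^ m * 2) + 1) := by
    rw [h1, hq, ← pow_mul, pow_succ]; ring
  rw [h4] at hs
  have hcop : Nat.Coprime (2 ^ s) (2 * (2 ^ (2 * m + 2) - 2 ^ m * 2) + 1) := by
    apply Nat.Coprime.pow_left
    rw [Nat.coprime_two_left]
    exact ⟨_, rfl⟩
  have h5 := hcop.dvd_of_dvd_mul_right hs
  exact (Nat.pow_dvd_pow_iff_le_right (by norm_num)).mp h5

/-- a Sylow 2-subgroup of `C(V)` has order at most `q ^ 4` -/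
theorem card_le [Finite G] (h : Setup G Ω z) (hf : ∀ g : G, (∀ a : Ω, g • a = a) → g = 1)
    (hV : ∀ d : G, d ∈ V ↔ d = 1 ∨ d ∈ At z a)
    (hbad : ∀ w : G, Bad Ω w → w • a = a → w ∉ Subgroup.centralizer (V : Set G)) {k q : ℕ}
    (hk : 2 ≤ k) (hq : q = 2 ^ k) (hcV : Nat.card V = q ^ 2)
    (hn : Nat.card Ω = q ^ 4 * ((q - 1) ^ 2 + 1) + 1)
    (Q : Sylow 2 (Subgroup.centralizer (V : Set G))) {S : Subgroup G}
    (hSQ : S = (Q : Subgroup (Subgroup.centralizer (V : Set G))).map (Subgroup.subtype _)) :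
    Nat.card S ≤ q ^ 4 := by
  have hSp : IsPGroup 2 S := by rw [hSQ]; exact Q.2.map _
  have hSW : S ≤ Subgroup.centralizer (V : Set G) := by
    rw [hSQ]; rintro _ ⟨x, -, rfl⟩; exact x.2
  obtain ⟨s, hs⟩ := IsPGroup.iff_card.mp hSp
  have h1 := card_dvd h hV hbad hSp hSW
  rw [hn, Nat.add_sub_cancel, hs] at h1
  have h2 := arith hk hq h1
  rcases Nat.lt_or_ge s (4 * k + 1) with h3 | h3
  · rw [hs, hq, ← pow_mul]
    exact Nat.pow_le_pow_right (by norm_num) (by omega)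
  · exfalso
    have h4 : s = 4 * k + 1 := le_antisymm h2 h3
    have hq4 : 4 ≤ q := by
      rw [hq]
      calc 4 = 2 ^ 2 := by norm_num
        _ ≤ 2 ^ k := Nat.pow_le_pow_right (by norm_num) hk
    have h5 : q ^ 2 - 1 ≠ 1 := by
      have : 4 ^ 2 ≤ q ^ 2 := Nat.pow_le_pow_left hq4 2
      omega
    obtain ⟨r, hr, hrd⟩ := Nat.exists_prime_and_dvd h5
    have : Fact r.Prime := ⟨hr⟩
    obtain ⟨h6, h7⟩ := modEq_one h hf hV hbad Q hSQ (r := r) (by rw [hcV]; exact hrd)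
    rw [hcV] at h7
    have h8 : Nat.card S = 2 * (q ^ 2) ^ 2 := by
      rw [hs, h4, hq]; ring
    rw [h8] at h6
    have h9 : 2 * (q ^ 2) ^ 2 ≡ 2 * 1 ^ 2 [MOD r] := (h7.pow 2).mul_left 2
    have h10 : 2 * 1 ^ 2 ≡ 1 [MOD r] := h9.symm.trans h6
    have h11 : r ∣ 2 * 1 ^ 2 - 1 := (Nat.modEq_iff_dvd' (by norm_num)).mp h10.symm
    have h12 : r = 1 := Nat.dvd_one.mp (by simpa using h11)
    exact hr.one_lt.ne' h12

/-- two commuting 2-subgroups: their product -/
theorem exists_prod {G : Type*} [Group G] [Finite G] {A B : Subgroup G} (hA : IsPGroup 2 A)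
    (hB : IsPGroup 2 B) (hAB : ∀ x ∈ A, ∀ y ∈ B, Commute x y) {W : Subgroup G} (hAW : A ≤ W)
    (hBW : B ≤ W) :
    ∃ C : Subgroup G, IsPGroup 2 C ∧ C ≤ W ∧ (∀ x, x ∈ C ↔ ∃ y ∈ A, ∃ w ∈ B, x = y * w) ∧
      Nat.card A * Nat.card B ≤ Nat.card C * Nat.card (A ⊓ B : Subgroup G) := by
  let f : A × B →* G := MonoidHom.noncommCoprod A.subtype B.subtype fun x y => hAB x x.2 y y.2
  have hfa : ∀ p : A × B, f p = p.1 * p.2 := fun p => rfl
  have hmem : ∀ x, x ∈ f.range ↔ ∃ y ∈ A, ∃ w ∈ B, x = y * w := by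
    intro x
    constructor
    · rintro ⟨p, rfl⟩
      exact ⟨p.1, p.1.2, p.2, p.2.2, rfl⟩
    · rintro ⟨y, hy, w, hw, rfl⟩
      exact ⟨(⟨y, hy⟩, ⟨w, hw⟩), rfl⟩
  refine ⟨f.range, ?_, ?_, hmem, ?_⟩
  · rintro ⟨x, hx⟩
    obtain ⟨y, hy, w, hw, rfl⟩ := (hmem x).mp hx
    obtain ⟨m, hm⟩ := hA ⟨y, hy⟩
    obtain ⟨n, hn⟩ := hB ⟨w, hw⟩
    have hm' : y ^ 2 ^ m = 1 := congrArg Subtype.val hm
    have hn' : w ^ 2 ^ n = 1 := congrArg Subtype.val hn
    refine ⟨m + n, Subtype.ext ?_⟩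
    show (y * w) ^ 2 ^ (m + n) = 1
    rw [(hAB y hy w hw).mul_pow, pow_add, pow_mul, hm', one_pow, one_mul, mul_comm, pow_mul, hn',
      one_pow]
  · intro x hx
    obtain ⟨y, hy, w, hw, rfl⟩ := (hmem x).mp hx
    exact mul_mem (hAW hy) (hBW hw)
  · have h1 : Nat.card (A × B) = Nat.card ((A × B) ⧸ f.ker) * Nat.card f.ker :=
      Subgroup.card_eq_card_quotient_mul_card_subgroup _
    have h2 : Nat.card ((A × B) ⧸ f.ker) = Nat.card f.range :=
      Nat.card_congr (QuotientGroup.quotientKerEquivRange f).toEquiv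
    have h3 : Nat.card f.ker ≤ Nat.card (A ⊓ B : Subgroup G) := by
      refine Nat.card_le_card_of_injective
        (fun p => ⟨p.1.1, Subgroup.mem_inf.mpr ⟨p.1.1.2, ?_⟩⟩) ?_
      · have h4 : (p.1.1 : G) * p.1.2 = 1 := p.2
        rw [eq_inv_of_mul_eq_one_left h4]
        exact inv_mem p.1.2.2
      · rintro ⟨⟨x, y⟩, hp⟩ ⟨⟨x', y'⟩, hp'⟩ hxx
        have h4 : (x : G) * y = 1 := hp
        have h5 : (x' : G) * y' = 1 := hp'
        have h6 : (x : G) = x' := (Subtype.mk.injEq _ _ _ _).mp hxx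
        have h7 : (y : G) = y' := by
          rw [eq_inv_of_mul_eq_one_right h4, eq_inv_of_mul_eq_one_right h5, h6]
        exact Subtype.ext (Prod.ext (Subtype.ext h6) (Subtype.ext h7))
    rw [Nat.card_prod, h2] at h1
    rw [h1]
    exact Nat.mul_le_mul_left _ h3

/-- **Case (C2).** -/
theorem main [Finite G] (h : Setup G Ω z) (hf : ∀ g : G, (∀ a : Ω, g • a = a) → g = 1)
    (hV : ∀ d : G, d ∈ V ↔ d = 1 ∨ d ∈ At z a)
    (hbad : ∀ w : G, Bad Ω w → w • a = a → w ∉ Subgroup.centralizer (V : Set G)) {k q : ℕ}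
    (hk : 2 ≤ k) (hq : q = 2 ^ k) (hcV : Nat.card V = q ^ 2)
    (hn : Nat.card Ω = q ^ 4 * ((q - 1) ^ 2 + 1) + 1) {u : G} (hu : Bad Ω u) (hua : u • a = a)
    (hCu : Nat.card (V ⊓ Subgroup.centralizer ({u} : Set G) : Subgroup G) = q)
    (hL : LocalU V a u q) : False := by
  obtain ⟨P, K, y, hP, hPu, hVP, ⟨b, hba, hK⟩, hKn, hcard, hyodd, hyu, hya, hyP, hyV, hgen, hsq, x₀, hx₀,
    hx₀K⟩ := hL
  set W := Subgroup.centralizer (V : Set G) with hW
  have hVW : V ≤ W := V_le_cent h hV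
  -- `y` centralises `V`
  have hyW : y ∈ W := by
    rw [hW, Subgroup.mem_centralizer_iff]
    intro v hv
    refine (commute_of_odd (fun v hv w hw => comm_V h hV hv hw) (fun v hv => mul_self_V h hV hv)
      hu.mul_self (fun v hv => conj_mem_V hV hua hv) (fun v hv => conj_mem_V hV hya hv) hyodd hyu
      hyV v hv).eq.symm
  -- `P₁ = P ∩ W`
  set P₁ := P ⊓ W with hP₁
  have hP₁p : IsPGroup 2 P₁ := hP.to_le inf_le_left
  have hdec : ∀ p ∈ P, ∃ x ∈ P₁, ∃ k ∈ P ⊓ K, p = x * k := by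
    intro p hp
    obtain ⟨p', hp', v, hv, k, hk, hvu, hpe⟩ := hgen p hp
    have h1 : p'⁻¹ * (y⁻¹ * p' * y) * v ∈ P₁ := by
      refine Subgroup.mem_inf.mpr
        ⟨mul_mem (mul_mem (inv_mem hp') (hyP p' hp')) (hVP v hv hvu), ?_⟩
      have h2 : p'⁻¹ * y⁻¹ * p'⁻¹⁻¹ ∈ W := mem_cent_conj hV
        (by rw [inv_smul_eq_iff]; exact ((hPu p' hp').1).symm) (inv_mem hyW)
      have h3 : p'⁻¹ * (y⁻¹ * p' * y) * v = (p'⁻¹ * y⁻¹ * p'⁻¹⁻¹) * y * v := by group
      rw [h3]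
      exact mul_mem (mul_mem h2 hyW) (hVW hv)
    refine ⟨_, h1, k, Subgroup.mem_inf.mpr ⟨?_, hk⟩, hpe⟩
    have h4 : k = (p'⁻¹ * (y⁻¹ * p' * y) * v)⁻¹ * p := by rw [hpe]; group
    rw [h4]
    exact mul_mem (inv_mem (Subgroup.mem_inf.mp h1).1) hp
  have hcardP₁ : q ^ 3 ≤ Nat.card P₁ := by
    have h1 : Nat.card P ≤ Nat.card P₁ * Nat.card (P ⊓ K : Subgroup G) := by
      rw [← Nat.card_prod]
      refine Nat.card_le_card_of_surjective
        (fun p : P₁ × (P ⊓ K : Subgroup G) => (⟨p.1.1 * p.2.1, mul_mem p.1.2.1 p.2.2.1⟩ : P)) ?_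
      rintro ⟨p, hp⟩
      obtain ⟨x, hx, k, hk, hpe⟩ := hdec p hp
      exact ⟨(⟨x, hx⟩, ⟨k, hk⟩), Subtype.ext hpe.symm⟩
    have h2 : 0 < Nat.card (P ⊓ K : Subgroup G) := Nat.card_pos
    exact Nat.le_of_mul_le_mul_right (hcard.trans h1) h2
  -- `P₁ ∩ K = 1`
  have hP₁K : ∀ x ∈ P₁, x ∈ K → x = 1 := by
    intro x hx hxK
    exact eq_one_of_fix h hV hbad hP₁p inf_le_right hx hba (hK x hxK).2
  -- `C = V P₁`
  have hVp : IsPGroup 2 V := by
    rintro ⟨v, hv⟩
    exact ⟨1, Subtype.ext (by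
      show v ^ 2 ^ 1 = 1
      rw [pow_one, pow_two]; exact mul_self_V h hV hv)⟩
  obtain ⟨C, hCp, hCW, hCmem, hCcard⟩ := exists_prod hVp hP₁p (fun v hv x hx =>
    Subgroup.mem_centralizer_iff.mp hx.2 v hv) hVW inf_le_right
  have hVP₁ : Nat.card (V ⊓ P₁ : Subgroup G) ≤ q := by
    rw [← hCu]
    refine Subgroup.card_le_of_le ?_
    intro v hv
    exact ⟨hv.1, Subgroup.mem_centralizer_singleton_iff.mpr (hPu v hv.2.1).2.eq⟩
  have hq0 : 0 < q := by rw [hq]; positivity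
  have hcC : q ^ 4 ≤ Nat.card C := by
    rw [hcV] at hCcard
    have h1 : q ^ 2 * q ^ 3 ≤ Nat.card C * q :=
      (Nat.mul_le_mul_left _ hcardP₁).trans (hCcard.trans (Nat.mul_le_mul_left _ hVP₁))
    have h2 : q ^ 4 * q ≤ Nat.card C * q := by
      calc q ^ 4 * q = q ^ 2 * q ^ 3 := by ring
        _ ≤ _ := h1
    exact Nat.le_of_mul_le_mul_right h2 hq0
  -- `C` is contained in a Sylow 2-subgroup of `W`, hence equal to it
  obtain ⟨Q, hQ⟩ := IsPGroup.exists_le_sylow (G := W) (P := C.subgroupOf W) (by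
    exact hCp.comap_of_injective W.subtype W.subtype_injective)
  set S := (Q : Subgroup W).map W.subtype with hS
  have hCS : C ≤ S := by
    intro x hx
    exact ⟨⟨x, hCW hx⟩, hQ (Subgroup.mem_subgroupOf.mpr hx), rfl⟩
  have hcS : Nat.card S ≤ q ^ 4 := card_le h hf hV hbad hk hq hcV hn Q hS
  have hSC : C = S := Subgroup.eq_of_le_of_card_ge hCS (hcS.trans hcC)
  -- squares
  have hsqC : ∀ x ∈ C, x * x ∈ V ∧ Commute (x * x) u := by
    intro x hx
    obtain ⟨v, hv, p, hp, rfl⟩ := (hCmem x).mp hx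
    have hvp : Commute v p := Subgroup.mem_centralizer_iff.mp hp.2 v hv
    have e : v * p * (v * p) = p * p := by
      rw [hvp.symm.mul_mul_mul_comm, mul_self_V h hV hv, one_mul]
    rw [e]
    obtain ⟨v', hv', k, hk, hv'u, hpe⟩ := hsq p hp.1
    have hpp : p * p ∈ P₁ := mul_mem hp hp
    have hv'P : v' ∈ P₁ := ⟨hVP v' hv' hv'u, hVW hv'⟩
    have hk1 : k = 1 := by
      refine hP₁K k ?_ hk
      have : k = v'⁻¹ * (p * p) := by rw [hpe]; group
      rw [this]
      exact mul_mem (inv_mem hv'P) hpp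
    rw [hpe, hk1, mul_one]
    exact ⟨hv', hv'u⟩
  -- a nontrivial square
  obtain ⟨x₁, hx₁, κ, hk', hx₀e⟩ := hdec x₀ hx₀
  have hx₁C : x₁ ∈ C := (hCmem x₁).mpr ⟨1, one_mem V, x₁, hx₁, by rw [one_mul]⟩
  have hx₁1 : x₁ * x₁ ≠ 1 := by
    intro h1
    apply hx₀K
    have h2 : x₁⁻¹ = x₁ := inv_eq_of_mul_eq_one_right h1
    have h3 : x₀ * x₀ = (x₁ * κ * x₁⁻¹) * κ := by rw [hx₀e, h2]; group
    rw [h3]
    exact mul_mem (hKn x₁ hx₁.1 κ hk'.2) hk'.2
  -- every element of `V` commutes with `u`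
  have hall : ∀ v ∈ V, Commute v u := by
    intro v hv
    by_cases hv1 : v = 1
    · rw [hv1]; exact Commute.one_left u
    obtain ⟨g, -, hgS, hgv⟩ := frattini h hV Q hS (hsqC x₁ hx₁C).1 hv hx₁1 hv1
    have h1 : g * x₁ * g⁻¹ ∈ C := by
      rw [hSC]; exact (hgS x₁).mp (hCS hx₁C)
    have h2 := (hsqC _ h1).2
    have h3 : g * x₁ * g⁻¹ * (g * x₁ * g⁻¹) = v := by rw [← hgv]; group
    rwa [h3] at h2
  have h1 : Nat.card V ≤ q := by
    rw [← hCu]
    refine Subgroup.card_le_of_le ?_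
    intro v hv
    exact ⟨hv, Subgroup.mem_centralizer_singleton_iff.mpr (hall v hv).eq⟩
  rw [hcV] at h1
  have hq4 : 4 ≤ q := by
    rw [hq]
    calc 4 = 2 ^ 2 := by norm_num
      _ ≤ 2 ^ k := Nat.pow_le_pow_right (by norm_num) hk
  nlinarith only [h1, hq4]

end Main

end Cfsg.Agent.AschCrit.CommTwo
end

-- part: AschCrit/CommTwoLift
section
/-!
# Lifting the local data of (C2) through the action on the fixed points of `u`

`lift_data` : a 2-subgroup `Qb` and an element `yb` of odd order normalising it in a quotient lift to a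
2-subgroup `P` and an element `y` of odd order normalising `P`.

`localU_of_image` : `LocalU` from the corresponding facts about the image of `C(u)` under a
homomorphism `π` whose kernel fixes a second point.
-/

set_option autoImplicit false

namespace Cfsg.Agent.AschCrit.CommTwoLift

open Cfsg.Agent.TwoFusion.StronglyEmbeddedBasic Cfsg.Agent.AschCrit.Basic
open Cfsg.Agent.AschCrit.Basic.Setup Cfsg.Agent.AschCrit.Closed Cfsg.Agent.AschCrit.CommTwo
open scoped Pointwise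

/-- `(q y) ^ j ∈ Q y ^ j` if `y` normalises `Q` -/
theorem exists_mul_pow {R : Type*} [Group R] {Q : Subgroup R} {y q : R}
    (hy : ∀ x ∈ Q, y * x * y⁻¹ ∈ Q) (hq : q ∈ Q) (j : ℕ) : ∃ q' ∈ Q, (q * y) ^ j = q' * y ^ j := by
  induction j with
  | zero => exact ⟨1, one_mem Q, by simp⟩
  | succ j ih =>
    obtain ⟨q', hq', he⟩ := ih
    refine ⟨q * (y * q' * y⁻¹), mul_mem hq (hy q' hq'), ?_⟩
    rw [pow_succ' (q * y), he, pow_succ' y]; group

theorem lift_data {H R : Type*} [Group H] [Finite H] [Group R] (π : H →* R) (Qb : Subgroup R)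
    (yb : R) (hQ2 : IsPGroup 2 Qb) (hQr : Qb ≤ π.range) (hyr : yb ∈ π.range)
    (hyo : Odd (orderOf yb)) (hyn : ∀ x : R, x ∈ Qb ↔ yb * x * yb⁻¹ ∈ Qb) :
    ∃ (P : Subgroup H) (y : H), IsPGroup 2 P ∧ P.map π = Qb ∧
      (∀ N : Subgroup H, IsPGroup 2 N → N ≤ Qb.comap π →
        (∀ x ∈ Qb.comap π, ∀ v ∈ N, x * v * x⁻¹ ∈ N) → N ≤ P) ∧ Odd (orderOf y) ∧
      (∃ q' ∈ Qb, π y = q' * yb) ∧ ∀ x ∈ P, y⁻¹ * x * y ∈ P := by
  set B := Qb.comap π with hB
  obtain ⟨Q⟩ : Nonempty (Sylow 2 B) := inferInstance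
  set P := (Q : Subgroup B).map B.subtype with hP
  -- the element `y`
  obtain ⟨y₀, hy₀⟩ := hyr
  obtain ⟨w, hw, hwn⟩ := exists_mul_mem_normalizer Q (g := y₀) (by
    intro x
    rw [hB, Subgroup.mem_comap, Subgroup.mem_comap, map_mul, map_mul, map_inv, hy₀]
    exact hyn _)
  set n := w * y₀ with hn
  have hπn : π n = π w * yb := by rw [hn, map_mul, hy₀]
  have hn0 : orderOf n ≠ 0 := (orderOf_pos n).ne'
  obtain ⟨α, m, hm, hnm⟩ := Nat.exists_eq_two_pow_mul_odd hn0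
  have hm0 : 0 < m := hm.pos
  have hφ : 0 < m.totient := Nat.totient_pos.mpr hm0
  set e := 2 ^ (α * m.totient) with he
  have he1 : e ≡ 1 [MOD m] := by
    rw [he, mul_comm, pow_mul]
    have h1 : 2 ^ m.totient ≡ 1 [MOD m] := Nat.ModEq.pow_totient (Nat.coprime_two_left.mpr hm)
    simpa using h1.pow α
  have he2 : 2 ^ α ∣ e := pow_dvd_pow 2 (Nat.le_mul_of_pos_right α hφ)
  have hyQ : ∀ x ∈ Qb, yb * x * yb⁻¹ ∈ Qb := fun x hx => (hyn x).mp hx
  have hybm : orderOf yb ∣ m := by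
    obtain ⟨q', hq', h1⟩ := exists_mul_pow hyQ (q := π w) hw (orderOf n)
    have h2 : (π w * yb) ^ orderOf n = 1 := by rw [← hπn, ← map_pow, pow_orderOf_eq_one, map_one]
    rw [h2] at h1
    have h3 : yb ^ orderOf n ∈ Qb := by
      have : yb ^ orderOf n = q'⁻¹ := (inv_eq_of_mul_eq_one_right h1.symm).symm
      rw [this]; exact inv_mem hq'
    have h4 : yb ^ orderOf n = 1 := by
      by_contra h5
      obtain ⟨k, hk⟩ := exists_pow_orderOf_two hQ2 h3 h5
      rw [← pow_mul] at hk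
      have h6 : orderOf (yb ^ (orderOf n * k)) ∣ orderOf yb := orderOf_pow_dvd _
      rw [hk] at h6
      exact (Nat.not_even_iff_odd.mpr hyo) (even_iff_two_dvd.mpr h6)
    have h5 := orderOf_dvd_of_pow_eq_one h4
    rw [hnm] at h5
    have hcop : Nat.Coprime (orderOf yb) (2 ^ α) :=
      (Nat.coprime_two_right.mpr hyo).pow_right α
    exact hcop.dvd_of_dvd_mul_left h5
  have hybe : yb ^ e = yb := by
    have h1 : e ≡ 1 [MOD orderOf yb] := he1.of_dvd hybm
    have h2 := pow_inj_mod.mpr (show e % orderOf yb = 1 % orderOf yb from h1)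
    rwa [pow_one] at h2
  have hnN : n ∈ Subgroup.normalizer (P : Set H) := Subgroup.mem_normalizer_iff.mpr hwn
  refine ⟨P, n ^ e, Q.2.map _, ?_, ?_, ?_, ?_, ?_⟩
  · -- `π P = Qb`
    have hsurj : Function.Surjective (π.subgroupComap Qb) := by
      rintro ⟨x, hx⟩
      obtain ⟨g, hg⟩ := hQr hx
      exact ⟨⟨g, by rw [Subgroup.mem_comap, hg]; exact hx⟩, Subtype.ext hg⟩
    have h1 : ((Q.mapSurjective hsurj : Sylow 2 Qb) : Subgroup Qb) = ⊤ :=
      ((Q.mapSurjective hsurj).3 (hQ2.to_subgroup ⊤) le_top).symm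
    rw [Sylow.coe_mapSurjective] at h1
    ext x
    constructor
    · rintro ⟨_, ⟨g, -, rfl⟩, rfl⟩
      exact g.2
    · intro hx
      have h2 : (⟨x, hx⟩ : Qb) ∈ (Q : Subgroup B).map (π.subgroupComap Qb) := by rw [h1]; trivial
      obtain ⟨g, hg, hgx⟩ := h2
      exact ⟨g, ⟨g, hg, rfl⟩, congrArg Subtype.val hgx⟩
  · intro N hN hNB hNn x hx
    have h1 : (N.subgroupOf B).Normal := by
      refine ⟨fun v hv g => ?_⟩
      exact hNn g g.2 v hv
    have h2 : IsPGroup 2 (N.subgroupOf B) := hN.comap_of_injective B.subtype B.subtype_injective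
    exact ⟨⟨x, hNB hx⟩, h2.le_sylow_of_normal Q hx, rfl⟩
  · have h1 : orderOf (n ^ e) ∣ m := by
      apply orderOf_dvd_of_pow_eq_one
      rw [← pow_mul]
      apply orderOf_dvd_iff_pow_eq_one.mp
      rw [hnm]
      exact Nat.mul_dvd_mul_right he2 m
    exact Odd.of_dvd_nat hm h1
  · obtain ⟨q', hq', h1⟩ := exists_mul_pow hyQ (q := π w) hw e
    refine ⟨q', hq', ?_⟩
    rw [map_pow, hπn, h1, hybe]
  · intro x hx
    have h1 : (n ^ e)⁻¹ ∈ Subgroup.normalizer (P : Set H) := inv_mem (pow_mem hnN e)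
    have h2 := (Subgroup.mem_normalizer_iff.mp h1 x).mp hx
    rwa [inv_inv] at h2

/-- If `y` (of odd order) normalises `Q`, centralises the central subgroup `E` of exponent two
containing the commutators of `Q`, and `C_Q(y) ≤ E`, then `Q = [Q, y] E` elementwise. -/
theorem exists_gen_of_fpf {R : Type*} [Group R] {Q E : Subgroup R} [Finite Q] {y : R}
    (hE2 : ∀ e ∈ E, e * e = 1) (hEc : ∀ e ∈ E, ∀ x ∈ Q, Commute e x)
    (hcomm : ∀ x ∈ Q, ∀ x' ∈ Q, x⁻¹ * x'⁻¹ * x * x' ∈ E) (hy : Odd (orderOf y))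
    (hyQ : ∀ x ∈ Q, y⁻¹ * x * y ∈ Q) (hyE : ∀ e ∈ E, Commute e y)
    (hfp : ∀ x ∈ Q, Commute x y → x ∈ E) :
    ∀ p ∈ Q, ∃ p' ∈ Q, ∃ e ∈ E, p = (p'⁻¹ * (y⁻¹ * p' * y)) * e := by
  have hn : (E.subgroupOf Q).Normal := by
    refine ⟨fun e he x => ?_⟩
    have h1 : ((x * e * x⁻¹ : Q) : R) = e := by
      have h2 := (hEc e he x x.2).eq
      show (x : R) * e * (x : R)⁻¹ = e
      rw [← h2]; group
    show ((x * e * x⁻¹ : Q) : R) ∈ E
    rw [h1]; exact he
  have hmk : ∀ x x' : Q, (QuotientGroup.mk x : Q ⧸ E.subgroupOf Q) = QuotientGroup.mk x' ↔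
      (x : R)⁻¹ * x' ∈ E := by
    intro x x'
    rw [QuotientGroup.eq]; rfl
  let f : Q → Q := fun x => ⟨(x : R)⁻¹ * (y⁻¹ * x * y), mul_mem (inv_mem x.2) (hyQ x x.2)⟩
  let φ : Q →* Q ⧸ E.subgroupOf Q := MonoidHom.mk' (fun x => QuotientGroup.mk (f x)) (by
    intro x x'
    show (QuotientGroup.mk (f (x * x')) : Q ⧸ E.subgroupOf Q) =
      QuotientGroup.mk (f x) * QuotientGroup.mk (f x')
    rw [← QuotientGroup.mk_mul, hmk]
    have e1 : ((f (x * x') : Q) : R) = (x' : R)⁻¹ * (f x : R) * (x' : R) * (f x' : R) := by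
      show ((x : R) * x')⁻¹ * (y⁻¹ * ((x : R) * x') * y) = (x' : R)⁻¹ *
        ((x : R)⁻¹ * (y⁻¹ * x * y)) * (x' : R) * ((x' : R)⁻¹ * (y⁻¹ * x' * y))
      group
    have e2 : ((f (x * x') : Q) : R)⁻¹ * ((f x * f x' : Q) : R) =
        (f x' : R)⁻¹ * ((x' : R)⁻¹ * (f x : R)⁻¹ * (x' : R) * (f x : R)) * (f x' : R) := by
      rw [e1]
      show _ * ((f x : R) * (f x' : R)) = _
      group
    rw [e2]
    have h1 : (x' : R)⁻¹ * (f x : R)⁻¹ * (x' : R) * (f x : R) ∈ E := hcomm _ x'.2 _ (f x).2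
    have h2 := (hEc _ h1 (f x' : R) (f x').2).eq
    rw [mul_assoc, h2, inv_mul_cancel_left]
    exact h1)
  have hφ : ∀ x : Q, φ x = QuotientGroup.mk (f x) := fun x => rfl
  have hker : ∀ x : Q, φ x = 1 ↔ (x : R) ∈ E := by
    intro x
    rw [hφ, QuotientGroup.eq_one_iff]
    constructor
    · intro h1
      have h1' : (x : R)⁻¹ * (y⁻¹ * x * y) ∈ E := h1
      set e := (x : R)⁻¹ * (y⁻¹ * x * y) with he
      have h2 : y⁻¹ * (x : R) * y = x * e := by rw [he]; group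
      have h3 : ∀ n : ℕ, (y⁻¹) ^ n * (x : R) * ((y⁻¹) ^ n)⁻¹ = x * e ^ n := by
        intro n
        induction n with
        | zero => simp
        | succ n ih =>
          calc (y⁻¹) ^ (n + 1) * (x : R) * ((y⁻¹) ^ (n + 1))⁻¹
              = y⁻¹ * ((y⁻¹) ^ n * (x : R) * ((y⁻¹) ^ n)⁻¹) * y := by rw [pow_succ']; group
            _ = (y⁻¹ * x * y) * (y⁻¹ * e ^ n * y) := by rw [ih]; group
            _ = x * e * e ^ n := by
                rw [h2, mul_assoc y⁻¹, ((hyE e h1').pow_left n).eq]; group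
            _ = x * e ^ (n + 1) := by rw [pow_succ']; group
      obtain ⟨m, hm⟩ := hy
      have h4 := h3 (orderOf y)
      rw [inv_pow, pow_orderOf_eq_one] at h4
      have h5 : e ^ orderOf y = e := by
        rw [hm, pow_succ, pow_mul, pow_two, hE2 e h1', one_pow, one_mul]
      rw [h5] at h4
      have h6 : e = 1 := by
        have : (x : R) * e = x * 1 := by rw [← h4]; group
        exact mul_left_cancel this
      refine hfp x x.2 ?_
      rw [h6, mul_one] at h2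
      show (x : R) * y = y * x
      calc (x : R) * y = y * (y⁻¹ * x * y) := by group
        _ = y * x := by rw [h2]
    · intro h1
      show (x : R)⁻¹ * (y⁻¹ * x * y) ∈ E
      rw [mul_assoc y⁻¹, (hyE x h1).eq]
      have : (x : R)⁻¹ * (y⁻¹ * (y * x)) = 1 := by group
      rw [this]; exact one_mem E
  have hkere : φ.ker = E.subgroupOf Q := by
    ext x
    rw [MonoidHom.mem_ker, hker, Subgroup.mem_subgroupOf]
  have hsurj : φ.range = ⊤ := by
    apply Subgroup.eq_top_of_card_eq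
    have h1 : Nat.card (Q ⧸ φ.ker) = Nat.card φ.range :=
      Nat.card_congr (QuotientGroup.quotientKerEquivRange φ).toEquiv
    rw [← h1, hkere]
  intro p hp
  have h1 : (QuotientGroup.mk (⟨p, hp⟩ : Q) : Q ⧸ E.subgroupOf Q) ∈ φ.range := by
    rw [hsurj]; trivial
  obtain ⟨p', hp'⟩ := h1
  rw [hφ, hmk] at hp'
  refine ⟨p', p'.2, _, hp', ?_⟩
  show p = ((p' : R)⁻¹ * (y⁻¹ * p' * y)) * (((p' : R)⁻¹ * (y⁻¹ * p' * y))⁻¹ * p)
  group

variable {G Ω : Type*} [Group G] [MulAction G Ω] {z : G} {a : Ω} {V : Subgroup G}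

theorem localU_of_image [Finite G] (hV : ∀ d : G, d ∈ V ↔ d = 1 ∨ d ∈ At z a)
    (h : Setup G Ω z) {u : G} {q : ℕ} {R : Type*} [Group R] {H : Subgroup G}
    (hHc : ∀ x : G, x ∈ H ↔ Commute x u) (π : H →* R) (Qb : Subgroup R) (yb : R)
    (hker : ∃ b : Ω, b ≠ a ∧ ∀ k : H, π k = 1 →
      (k : G) • a = a ∧ (k : G) • b = b)
    (hQ2 : IsPGroup 2 Qb) (hQc : Nat.card Qb = q ^ 3) (hQr : Qb ≤ π.range) (hyr : yb ∈ π.range)
    (hQa : ∀ x : H, π x ∈ Qb → (x : G) • a = a)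
    (hya : ∀ x : H, ∀ q' ∈ Qb, π x = q' * yb → (x : G) • a = a)
    (hyo : Odd (orderOf yb)) (hyn : ∀ x : R, x ∈ Qb ↔ yb * x * yb⁻¹ ∈ Qb)
    (hVQ : ∀ v : H, (v : G) ∈ V → π v ∈ Qb)
    (hVc : ∀ v : H, (v : G) ∈ V → ∀ x ∈ Qb, Commute (π v) x)
    (hVy : ∀ v : H, (v : G) ∈ V → Commute (π v) yb)
    (hcomm : ∀ x ∈ Qb, ∀ x' ∈ Qb, ∃ v : H, (v : G) ∈ V ∧
      x⁻¹ * x'⁻¹ * x * x' = π v)
    (hsq : ∀ x ∈ Qb, ∃ v : H, (v : G) ∈ V ∧ x * x = π v)
    (hgen : ∀ p ∈ Qb, ∃ p' ∈ Qb, ∃ v : H, (v : G) ∈ V ∧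
      p = (p'⁻¹ * (yb⁻¹ * p' * yb)) * π v)
    (hnsq : ∃ x ∈ Qb, x * x ≠ 1) : LocalU V a u q := by
  obtain ⟨P, y, hP, hPπ, hPN, hyodd, ⟨q₀, hq₀, hπy⟩, hyP⟩ := lift_data π Qb yb hQ2 hQr hyr hyo hyn
  obtain ⟨b, hba, hker⟩ := hker
  have hHu : ∀ x : H, Commute (x : G) u := fun x => (hHc x).mp x.2
  have hPQ : ∀ x ∈ P, π x ∈ Qb := fun x hx => by rw [← hPπ]; exact ⟨x, hx, rfl⟩
  -- `V ∩ C(u) ≤ P`
  have hVP : ∀ v : H, (v : G) ∈ V → v ∈ P := by
    intro v hv
    refine hPN (V.subgroupOf H) ?_ ?_ ?_ hv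
    · rintro ⟨w, hw⟩
      refine ⟨1, Subtype.ext (Subtype.ext ?_)⟩
      show (w : G) ^ 2 ^ 1 = 1
      rw [pow_one, pow_two]; exact mul_self_V h hV hw
    · intro w hw; exact hVQ w hw
    · intro x hx w hw
      exact conj_mem_V hV (hQa x hx) hw
  have hyu : Commute (y : G) u := hHu y
  have hyaa : (y : G) • a = a := hya y q₀ hq₀ hπy
  refine ⟨P.map H.subtype, π.ker.map H.subtype, y, hP.map _, ?_, ?_, ⟨b, hba, ?_⟩, ?_, ?_, ?_,
    hyu, hyaa, ?_, ?_, ?_, ?_, ?_⟩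
  · rintro _ ⟨x, hx, rfl⟩
    exact ⟨hQa x (hPQ x hx), hHu x⟩
  · intro v hv hvu
    exact ⟨⟨v, (hHc v).mpr hvu⟩, hVP _ hv, rfl⟩
  · rintro _ ⟨k, hk, rfl⟩
    exact hker k hk
  · rintro _ ⟨x, hx, rfl⟩ _ ⟨k, hk, rfl⟩
    refine ⟨x * k * x⁻¹, ?_, rfl⟩
    have hk' : π k = 1 := hk
    show π (x * k * x⁻¹) = 1
    rw [map_mul, map_mul, hk', map_inv]; group
  · -- cardinality
    have e1 : P.map H.subtype ⊓ π.ker.map H.subtype = (P ⊓ π.ker).map H.subtype :=
      (Subgroup.map_inf _ _ _ H.subtype_injective).symm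
    rw [e1, Subgroup.card_map_of_injective H.subtype_injective,
      Subgroup.card_map_of_injective H.subtype_injective]
    have h1 : Nat.card P = Nat.card (P ⧸ (π.comp P.subtype).ker) *
        Nat.card (π.comp P.subtype).ker := Subgroup.card_eq_card_quotient_mul_card_subgroup _
    have h2 : Nat.card (P ⧸ (π.comp P.subtype).ker) = q ^ 3 := by
      rw [Nat.card_congr (QuotientGroup.quotientKerEquivRange (π.comp P.subtype)).toEquiv,
        MonoidHom.range_comp, Subgroup.range_subtype, hPπ, hQc]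
    have h3 : Nat.card (P ⊓ π.ker : Subgroup H) ≤ Nat.card (π.comp P.subtype).ker := by
      refine Nat.card_le_card_of_injective
        (fun x => ⟨⟨x.1, (Subgroup.mem_inf.mp x.2).1⟩, (Subgroup.mem_inf.mp x.2).2⟩) ?_
      intro x x' hxx
      have h4 := (Subtype.mk.injEq _ _ _ _).mp hxx
      have h5 := (Subtype.mk.injEq _ _ _ _).mp h4
      exact Subtype.ext h5
    rw [h1, h2]
    exact Nat.mul_le_mul_left _ h3
  · rw [Subgroup.orderOf_coe]; exact hyodd
  · rintro _ ⟨x, hx, rfl⟩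
    exact ⟨y⁻¹ * x * y, hyP x hx, rfl⟩
  · -- `y` centralises `V ∩ C(u)`
    intro v hv hvu
    set v' : H := ⟨v, (hHc v).mpr hvu⟩ with hv'
    have h1 : (y * v' * y⁻¹ : H) = v' := by
      have h2 : π (y * v' * y⁻¹) = π v' := by
        have h3 : Commute (π v') (π y) := by
          rw [hπy]
          exact (hVc v' hv q₀ hq₀).mul_right (hVy v' hv)
        rw [map_mul, map_mul, map_inv, ← h3.eq]; group
      have h3 : ((y * v' * y⁻¹ * v'⁻¹ : H) : G) ∈ V := by
        show (y : G) * v * (y : G)⁻¹ * v⁻¹ ∈ V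
        exact mul_mem (conj_mem_V hV hyaa hv) (inv_mem hv)
      have h4 : π (y * v' * y⁻¹ * v'⁻¹) = 1 := by
        rw [map_mul, h2, map_inv, mul_inv_cancel]
      -- an element of `V` in the kernel is trivial
      have h5 : ((y * v' * y⁻¹ * v'⁻¹ : H) : G) = 1 := by
        rcases (hV _).mp h3 with h6 | h6
        · exact h6
        · exact absurd (h.uniq h6.1 (hker _ h4).2 (hker _ h4).1) hba
      have h6 : (y * v' * y⁻¹ * v'⁻¹ : H) = 1 := Subtype.ext h5
      exact mul_inv_eq_one.mp h6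
    have h4 : (y : G) * v * (y : G)⁻¹ = v := congrArg Subtype.val h1
    exact mul_inv_eq_iff_eq_mul.mp h4
  · -- generation
    rintro _ ⟨p, hp, rfl⟩
    obtain ⟨pb, hpb, w, hw, hpe⟩ := hgen (π p) (hPQ p hp)
    have hpb' : pb ∈ P.map π := by rw [hPπ]; exact hpb
    obtain ⟨p', hp', rfl⟩ := hpb'
    obtain ⟨c, hc, hce⟩ := hcomm (π p') hpb q₀ hq₀
    -- `[p', y] = [p', yb] * [p', q₀]`
    have h1 : (π p')⁻¹ * ((q₀ * yb)⁻¹ * π p' * (q₀ * yb)) =
        ((π p')⁻¹ * (yb⁻¹ * π p' * yb)) * π c := by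
      have h2 : yb⁻¹ * π c * yb = π c := by
        rw [mul_assoc, (hVy c hc).eq]; group
      calc (π p')⁻¹ * ((q₀ * yb)⁻¹ * π p' * (q₀ * yb))
          = ((π p')⁻¹ * (yb⁻¹ * π p' * yb)) *
              (yb⁻¹ * ((π p')⁻¹ * q₀⁻¹ * π p' * q₀) * yb) := by group
        _ = _ := by rw [hce, h2]
    refine ⟨p', ⟨p', hp', rfl⟩, (c⁻¹ * w : H), ?_,
      ((p'⁻¹ * (y⁻¹ * p' * y)) * (c⁻¹ * w))⁻¹ * p, ?_, ?_, ?_⟩
    · exact mul_mem (inv_mem hc) hw
    · refine ⟨((p'⁻¹ * (y⁻¹ * p' * y)) * (c⁻¹ * w))⁻¹ * p, ?_, rfl⟩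
      show π _ = 1
      rw [map_mul, map_inv, inv_mul_eq_one, map_mul, map_mul, map_mul, map_mul, map_inv, map_inv,
        hπy, h1, hpe, map_mul, map_inv]
      group
    · exact hHu _
    · simp only [mul_assoc, _root_.Subgroup.subtype_apply, _root_.Subgroup.coe_mul, _root_.InvMemClass.coe_inv, _root_.mul_inv_rev, _root_.inv_inv, _root_.mul_inv_cancel_left, _root_.inv_mul_cancel_left]
  · -- squares
    rintro _ ⟨x, hx, rfl⟩
    obtain ⟨v, hv, hve⟩ := hsq (π x) (hPQ x hx)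
    refine ⟨v, hv, (v⁻¹ * (x * x) : H), ⟨v⁻¹ * (x * x), ?_, rfl⟩, hHu v, ?_⟩
    · show π _ = 1
      rw [map_mul, map_mul, map_inv, hve, inv_mul_cancel]
    · simp only [_root_.Subgroup.subtype_apply, _root_.Subgroup.coe_mul, _root_.InvMemClass.coe_inv, _root_.mul_inv_cancel_left]
  · obtain ⟨x, hx, hx2⟩ := hnsq
    have hx' : x ∈ P.map π := by rw [hPπ]; exact hx
    obtain ⟨x, hxP, rfl⟩ := hx'
    refine ⟨x, ⟨x, hxP, rfl⟩, ?_⟩
    rintro ⟨k, hk, hke⟩
    apply hx2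
    have h1 : k = x * x := Subtype.ext hke
    rw [← map_mul, ← h1]
    exact hk

end Cfsg.Agent.AschCrit.CommTwoLift
end

-- part: AschCrit/CommTwoBridge
section
/-!
# `LocalU` from a rank-one set-up of type `PSU₃(q)` for the image of `C(u)`
-/

set_option autoImplicit false

universe u

namespace Cfsg.Agent.AschCrit.CommTwoBridge

open Cfsg MulAction
open Cfsg.Agent.TwoFusion.StronglyEmbeddedBasic Cfsg.Agent.AschCrit.Basic
open Cfsg.Agent.AschCrit.Basic.Setup Cfsg.Agent.AschCrit.Closed Cfsg.Agent.AschCrit.Descent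
open Cfsg.Agent.AschCrit.CommTwo Cfsg.Agent.AschCrit.CommTwoLift
open Cfsg.Agent.AschCrit.NonIso Cfsg.Agent.AschCrit.InductFaithful
open Cfsg.Agent.AschCrit.InductAct Cfsg.Agent.AschCrit.BGroup Cfsg.Agent.AschCrit.Induct
open Cfsg.Agent.LieRecognition

/-- what is needed from a rank-one set-up of type `PSU₃(q)` -/
def UType (L Ψ : Type*) [Group L] [MulAction L Ψ] (a : Ψ) (Q : Subgroup L) : Prop :=
  (∃ y : L, Odd (orderOf y) ∧ y • a = a ∧
    (∀ s ∈ involutionsIn (stabilizer L a : Set L), Commute s y) ∧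
    ∀ x ∈ Q, Commute x y → x = 1 ∨ x ∈ involutionsIn (stabilizer L a : Set L)) ∧
  (∀ x ∈ Q, x * x = 1 ∨ x * x ∈ involutionsIn (stabilizer L a : Set L)) ∧ ∃ x ∈ Q, x * x ≠ 1

variable {G Ω : Type u} [Group G] [Finite G] [MulAction G Ω] {z : G} {a : Ω} {V : Subgroup G}

/-- `LocalU` from a rank-one set-up for a normal closure in an image of `H = C(w)`, abstract form -/
theorem localU_of_setup {R Ψ : Type*} [Group R] [Finite R] [MulAction R Ψ]
    (h : Setup G Ω z) (hV : ∀ d : G, d ∈ V ↔ d = 1 ∨ d ∈ At z a) {w : G}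
    {q : ℕ} {H : Subgroup G} (hHc : ∀ x : G, x ∈ H ↔ Commute x w) (hq : 4 ≤ q)
    (hVH : Nat.card (V ⊓ H : Subgroup G) = q) (π : H →* R) (hπs : Function.Surjective π)
    (a' : Ψ) (hafix : ∀ x : H, π x • a' = a' ↔ (x : G) • a = a)
    (hker : ∃ b : Ω, b ≠ a ∧ ∀ k : H, π k = 1 → (k : G) • a = a ∧ (k : G) • b = b)
    (L₀ : Subgroup R) (hVL : ∀ v : H, (v : G) ∈ V → π v ∈ L₀) (hfaith : FaithfulSMul L₀ Ψ)
    {t : L₀} {Q : Subgroup L₀} (hS : IsRankOneSetup L₀ Ψ a' t Q)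
    (hQ2 : IsPGroup 2 Q) (hQc : Nat.card Q = q ^ 3)
    (hinv : Nat.card (involutionsIn (stabilizer L₀ a' : Set L₀)) + 1 = q)
    (hU : UType L₀ Ψ a' Q) :
    LocalU V a w q := by
  classical
  have hVa : ∀ v : H, (v : G) ∈ V → (v : G) • a = a := by
    intro v hv
    rcases (hV _).mp hv with h1 | h1
    · rw [h1, one_smul]
    · exact h1.2
  have hVinj : ∀ v : H, (v : G) ∈ V → π v = 1 → v = 1 := by
    intro v hv h1
    obtain ⟨b, hba, hb⟩ := hker
    rcases (hV _).mp hv with h2 | h2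
    · exact Subtype.ext h2
    · exact absurd (h.uniq h2.1 (hb v h1).2 h2.2) hba
  -- the embedding of `V ∩ H` minus `1` in the involutions of the stabiliser
  let f : {v : (V ⊓ H : Subgroup G) // v ≠ 1} →
      involutionsIn (stabilizer L₀ a' : Set L₀) := fun v =>
    ⟨⟨π ⟨v.1.1, (Subgroup.mem_inf.mp v.1.2).2⟩, hVL _ (Subgroup.mem_inf.mp v.1.2).1⟩, by
      refine ⟨?_, ?_, ?_⟩
      · exact (hafix _).mpr (hVa ⟨v.1.1, (Subgroup.mem_inf.mp v.1.2).2⟩
          (Subgroup.mem_inf.mp v.1.2).1)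
      · intro h1
        apply v.2
        have h2 := hVinj ⟨v.1.1, (Subgroup.mem_inf.mp v.1.2).2⟩ (Subgroup.mem_inf.mp v.1.2).1
          (congrArg Subtype.val h1)
        have h3 : (v.1.1 : G) = 1 := congrArg Subtype.val h2
        exact Subtype.ext h3
      · apply Subtype.ext
        show π _ * π _ = 1
        rw [← map_mul]
        have h1 : (⟨v.1.1, (Subgroup.mem_inf.mp v.1.2).2⟩ * ⟨v.1.1, (Subgroup.mem_inf.mp v.1.2).2⟩ : H)
            = 1 := Subtype.ext (mul_self_V h hV (Subgroup.mem_inf.mp v.1.2).1)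
        rw [h1, map_one]⟩
  have hfinj : Function.Injective f := by
    intro v v' hvv
    have h1 : π ⟨v.1.1, (Subgroup.mem_inf.mp v.1.2).2⟩ = π ⟨v'.1.1, (Subgroup.mem_inf.mp v'.1.2).2⟩ :=
      congrArg Subtype.val (congrArg Subtype.val hvv)
    have h2 := hVinj (⟨v.1.1, (Subgroup.mem_inf.mp v.1.2).2⟩ *
      ⟨v'.1.1, (Subgroup.mem_inf.mp v'.1.2).2⟩⁻¹)
      (mul_mem (Subgroup.mem_inf.mp v.1.2).1 (inv_mem (Subgroup.mem_inf.mp v'.1.2).1))
      (by rw [map_mul, map_inv, h1, mul_inv_cancel])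
    have h3 := mul_inv_eq_one.mp h2
    have h4 : (v.1.1 : G) = v'.1.1 := congrArg (fun x : H => (x : G)) h3
    exact Subtype.ext (Subtype.ext h4)
  have hcard1 : Nat.card {v : (V ⊓ H : Subgroup G) // v ≠ 1} + 1 = q := by
    rw [← hVH, ← Nat.card_congr (Equiv.optionSubtypeNe (1 : (V ⊓ H : Subgroup G))),
      Finite.card_option]
  have hfsurj : Function.Surjective f :=
    (Function.Injective.bijective_of_nat_card_le hfinj (by omega)).2
  have hsurj : ∀ s ∈ involutionsIn (stabilizer L₀ a' : Set L₀),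
      ∃ v : H, (v : G) ∈ V ∧ (s : R) = π v := by
    intro s hs
    obtain ⟨v, hv⟩ := hfsurj ⟨s, hs⟩
    exact ⟨⟨v.1.1, (Subgroup.mem_inf.mp v.1.2).2⟩, (Subgroup.mem_inf.mp v.1.2).1,
      (congrArg Subtype.val (congrArg Subtype.val hv)).symm⟩
  have hmemI : ∀ v : H, ∀ hv : (v : G) ∈ V, v ≠ 1 → (⟨π v, hVL v hv⟩ : L₀) ∈
      involutionsIn (stabilizer L₀ a' : Set L₀) := by
    intro v hv hv1
    refine (f ⟨⟨v.1, Subgroup.mem_inf.mpr ⟨hv, v.2⟩⟩, fun h1 => hv1 ?_⟩).2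
    have h2 : (v.1 : G) = 1 := congrArg Subtype.val h1
    exact Subtype.ext h2
  -- two commuting involutions
  have h2 : ∃ x y : L₀, x ≠ 1 ∧ y ≠ 1 ∧ x ≠ y ∧ x * x = 1 ∧ y * y = 1 ∧ x * y = y * x := by
    have h3 : 1 < Nat.card {v : (V ⊓ H : Subgroup G) // v ≠ 1} := by omega
    obtain ⟨v, v', hvv⟩ := Finite.one_lt_card_iff_nontrivial.mp h3
    refine ⟨f v, f v', (f v).2.2.1, (f v').2.2.1, fun h4 => hvv (hfinj (Subtype.ext h4)),
      (f v).2.2.2, (f v').2.2.2, ?_⟩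
    apply Subtype.ext
    show π _ * π _ = π _ * π _
    rw [← map_mul, ← map_mul]
    congr 1
    exact Subtype.ext (comm_V h hV (Subgroup.mem_inf.mp v.1.2).1 (Subgroup.mem_inf.mp v'.1.2).1).eq
  obtain ⟨hcen, -⟩ := Cfsg.Agent.S1130.result hS h2
  obtain ⟨⟨y, hyo, hya, hyI, hyQ⟩, hsq, x₀, hx₀, hx₀1⟩ := hU
  have hya' : y ∈ stabilizer L₀ a' := hya
  -- squares
  have hsq' : ∀ x ∈ Q, ∃ v : H, (v : G) ∈ V ∧ ((x * x : L₀) : R) = π v := by
    intro x hx
    rcases hsq x hx with h3 | h3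
    · exact ⟨1, one_mem V, by rw [h3, map_one]; rfl⟩
    · exact hsurj _ h3
  have hcomm' : ∀ x ∈ Q, ∀ x' ∈ Q, ∃ v : H, (v : G) ∈ V ∧
      ((x⁻¹ * x'⁻¹ * x * x' : L₀) : R) = π v := by
    intro x hx x' hx'
    obtain ⟨v₁, hv₁, h3⟩ := hsq' _ (inv_mem hx)
    obtain ⟨v₂, hv₂, h4⟩ := hsq' _ (mul_mem hx (inv_mem hx'))
    obtain ⟨v₃, hv₃, h5⟩ := hsq' _ hx'
    refine ⟨v₁ * v₂ * v₃, mul_mem (mul_mem hv₁ hv₂) hv₃, ?_⟩
    rw [map_mul, map_mul, ← h3, ← h4, ← h5]
    have e : x⁻¹ * x'⁻¹ * x * x' = (x⁻¹ * x⁻¹) * ((x * x'⁻¹) * (x * x'⁻¹)) * (x' * x') := by group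
    rw [e]; rfl
  have hQbm : ∀ x ∈ Q.map L₀.subtype, ∃ g ∈ Q, (g : R) = x := by
    rintro _ ⟨g, hg, rfl⟩; exact ⟨g, hg, rfl⟩
  have hfixa : ∀ x ∈ Q.map L₀.subtype, x • a' = a' := by
    intro x hx
    obtain ⟨g, hg, rfl⟩ := hQbm x hx
    exact hS.le hg
  have hVQ : ∀ v : H, (v : G) ∈ V → π v ∈ Q.map L₀.subtype := by
    intro v hv
    by_cases hv1 : v = 1
    · rw [hv1, map_one]; exact one_mem _
    · exact ⟨⟨π v, hVL v hv⟩, (hcen _ (hmemI v hv hv1)).1, rfl⟩
  have hVc : ∀ v : H, (v : G) ∈ V → ∀ x ∈ Q.map L₀.subtype, Commute (π v) x := by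
    intro v hv x hx
    obtain ⟨g, hg, rfl⟩ := hQbm x hx
    by_cases hv1 : v = 1
    · rw [hv1, map_one]; exact Commute.one_left _
    · exact congrArg Subtype.val ((hcen _ (hmemI v hv hv1)).2 g hg)
  have hVy : ∀ v : H, (v : G) ∈ V → Commute (π v) (y : R) := by
    intro v hv
    by_cases hv1 : v = 1
    · rw [hv1, map_one]; exact Commute.one_left _
    · exact congrArg Subtype.val (hyI _ (hmemI v hv hv1)).eq
  have hyn : ∀ x ∈ Q.map L₀.subtype, (y : R) * x * (y : R)⁻¹ ∈ Q.map L₀.subtype := by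
    intro x hx
    obtain ⟨g, hg, rfl⟩ := hQbm x hx
    exact ⟨y * g * y⁻¹, hS.conj_mem y hya' g hg, rfl⟩
  have hyn' : ∀ x ∈ Q.map L₀.subtype, (y : R)⁻¹ * x * (y : R) ∈ Q.map L₀.subtype := by
    intro x hx
    obtain ⟨g, hg, rfl⟩ := hQbm x hx
    have h3 := hS.conj_mem y⁻¹ (inv_mem hya') g hg
    rw [inv_inv] at h3
    exact ⟨y⁻¹ * g * y, h3, rfl⟩
  have hyo' : Odd (orderOf (y : R)) := by
    rw [Subgroup.orderOf_coe]; exact hyo
  have hgen := exists_gen_of_fpf (Q := Q.map L₀.subtype) (E := (V.subgroupOf H).map π)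
    (y := (y : R))
    (by
      rintro _ ⟨v, hv, rfl⟩
      rw [← map_mul]
      have h3 : v * v = 1 := Subtype.ext (mul_self_V h hV hv)
      rw [h3, map_one])
    (by rintro _ ⟨v, hv, rfl⟩ x hx; exact hVc v hv x hx)
    (by
      intro x hx x' hx'
      obtain ⟨g, hg, rfl⟩ := hQbm x hx
      obtain ⟨g', hg', rfl⟩ := hQbm x' hx'
      obtain ⟨v, hv, h3⟩ := hcomm' g hg g' hg'
      exact ⟨v, hv, h3.symm⟩)
    hyo' hyn' (by rintro _ ⟨v, hv, rfl⟩; exact hVy v hv)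
    (by
      intro x hx hxy
      obtain ⟨g, hg, rfl⟩ := hQbm x hx
      rcases hyQ g hg (Subtype.ext hxy.eq) with h3 | h3
      · rw [h3]; exact one_mem _
      · obtain ⟨v, hv, h4⟩ := hsurj g h3
        exact ⟨v, hv, h4.symm⟩)
  refine localU_of_image hV h hHc π (Q.map L₀.subtype) (y : R) hker (hQ2.map _) ?_
    (fun x _ => hπs x) (hπs _) ?_ ?_ hyo' ?_ hVQ hVc hVy ?_ ?_ ?_ ?_
  · rw [Subgroup.card_map_of_injective L₀.subtype_injective, hQc]
  · intro x hx
    exact (hafix x).mp (hfixa _ hx)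
  · intro x q' hq' hx
    apply (hafix x).mp
    rw [hx, mul_smul]
    have h4 : (y : R) • a' = a' := hya
    rw [h4]; exact hfixa q' hq'
  · intro x
    refine ⟨hyn x, fun hx => ?_⟩
    have h3 := hyn' _ hx
    have e : (y : R)⁻¹ * ((y : R) * x * (y : R)⁻¹) * (y : R) = x := by group
    rwa [e] at h3
  · intro x hx x' hx'
    obtain ⟨g, hg, rfl⟩ := hQbm x hx
    obtain ⟨g', hg', rfl⟩ := hQbm x' hx'
    exact hcomm' g hg g' hg'
  · intro x hx
    obtain ⟨g, hg, rfl⟩ := hQbm x hx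
    exact hsq' g hg
  · intro p hp
    obtain ⟨p', hp', _, ⟨v, hv, rfl⟩, h3⟩ := hgen p hp
    exact ⟨p', hp', v, hv, h3⟩
  · refine ⟨x₀, ⟨x₀, hx₀, rfl⟩, fun h3 => hx₀1 (Subtype.ext h3)⟩

/-- `LocalU` from the rank-one set-up of the image of `H = C(w)` on the fixed points of `w` -/
theorem localU_of_rankOne (h : Setup G Ω z) (hV : ∀ d : G, d ∈ V ↔ d = 1 ∨ d ∈ At z a) {w : G}
    {q : ℕ} {H : Subgroup G} (hHc : ∀ x : G, x ∈ H ↔ Commute x w) (hq : 4 ≤ q)
    (hVH : Nat.card (V ⊓ H : Subgroup G) = q) {b : Ω} (hab : a ≠ b) {d₀ e₀ : G}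
    (hd₀ : d₀ ∈ At z a) (he₀ : e₀ ∈ At z b) (hd₀H : d₀ ∈ H) (he₀H : e₀ ∈ H)
    (ha : a ∈ pts Ω z H)
    {t : L (pr H (pts Ω z H) ⟨d₀, hd₀H⟩)} {Q : Subgroup (L (pr H (pts Ω z H) ⟨d₀, hd₀H⟩))}
    (hS : IsRankOneSetup (L (pr H (pts Ω z H) ⟨d₀, hd₀H⟩)) (pts Ω z H) ⟨a, ha⟩ t Q)
    (hQ2 : IsPGroup 2 Q) (hQc : Nat.card Q = q ^ 3)
    (hinv : Nat.card (involutionsIn (stabilizer (L (pr H (pts Ω z H) ⟨d₀, hd₀H⟩))
      (⟨a, ha⟩ : pts Ω z H) : Set (L (pr H (pts Ω z H) ⟨d₀, hd₀H⟩)))) + 1 = q)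
    (hU : UType (L (pr H (pts Ω z H) ⟨d₀, hd₀H⟩)) (pts Ω z H) ⟨a, ha⟩ Q) :
    LocalU V a w q := by
  classical
  have hconj := isConj_subgroup_iff h hab hd₀ he₀ hd₀H he₀H
  have hfin : Finite (Im H (pts Ω z H)) :=
    Finite.of_surjective _ (toPermHom H (pts Ω z H)).rangeRestrict_surjective
  have hb : b ∈ pts Ω z H := ⟨e₀, he₀H, he₀⟩
  refine localU_of_setup h hV hHc hq hVH (pr H (pts Ω z H))
    (toPermHom H (pts Ω z H)).rangeRestrict_surjective (⟨a, ha⟩ : pts Ω z H) ?_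
    ⟨b, Ne.symm hab, ?_⟩ _ ?_ ?_ hS hQ2 hQc hinv hU
  · intro x
    constructor
    · intro h3; exact congrArg Subtype.val h3
    · intro h3; exact Subtype.ext h3
  · intro k hk
    constructor
    · have h3 : pr H (pts Ω z H) k • (⟨a, ha⟩ : pts Ω z H) = ⟨a, ha⟩ := by rw [hk, one_smul]
      exact congrArg Subtype.val h3
    · have h3 : pr H (pts Ω z H) k • (⟨b, hb⟩ : pts Ω z H) = ⟨b, hb⟩ := by rw [hk, one_smul]
      exact congrArg Subtype.val h3
  · intro v hv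
    rcases (hV _).mp hv with h1 | h1
    · have : v = 1 := Subtype.ext h1
      rw [this, map_one]; exact one_mem _
    · exact mem_L ((pr H (pts Ω z H)).map_isConj ((hconj v).mpr h1.1))
  · refine ⟨fun {g₁ g₂} hg => ?_⟩
    apply Subtype.ext
    apply Subtype.ext
    ext c
    exact congrArg Subtype.val (hg c)

end Cfsg.Agent.AschCrit.CommTwoBridge
end

-- part: AschCrit/CommTwoCase
section
/-!
# Case (C2) of the commutative case: `|V| = q²`, `|Fix u| = q³ + 1`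

`case_two` : no such simple group, given the inductive hypothesis, Bender's theorem and the structure
`UTypes` of the rank-one groups of type `PSU₃(q)`.
-/

set_option autoImplicit false

universe u

namespace Cfsg.Agent.AschCrit.CommTwoCase

open Cfsg MulAction
open Cfsg.Agent.TwoFusion.StronglyEmbeddedBasic Cfsg.Agent.AschCrit.Basic
open Cfsg.Agent.AschCrit.Basic.Setup Cfsg.Agent.AschCrit.Closed Cfsg.Agent.AschCrit.Descent
open Cfsg.Agent.AschCrit.CommTwoBridge Cfsg.Agent.AschCrit.CommTypes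
open Cfsg.Agent.AschCrit.NonIso Cfsg.Agent.AschCrit.InductFaithful
open Cfsg.Agent.AschCrit.InductAct Cfsg.Agent.AschCrit.BGroup Cfsg.Agent.AschCrit.Induct
open Cfsg.Agent.AschCrit.CommFrame
open Cfsg.Agent.StrongEmb.Basic Cfsg.Agent.StrongEmb.TwoRank Cfsg.Agent.StrongEmb.Split

/-- the structure of the rank-one groups of type `PSU₃(q)` -/
def UTypes : Prop :=
  ∀ (L Ψ : Type u) [Group L] [Finite L] [MulAction L Ψ] (a : Ψ) (t : L) (Q : Subgroup L) (k : ℕ),
    2 ≤ k → FaithfulSMul L Ψ → IsSimpleGroup L → IsRankOneSetup L Ψ a t Q →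
    (∃ x y : L, x ≠ 1 ∧ y ≠ 1 ∧ x ≠ y ∧ x * x = 1 ∧ y * y = 1 ∧ x * y = y * x) → IsPGroup 2 Q →
    Nat.card Q = (2 ^ k) ^ 3 →
    Nat.card (involutionsIn (stabilizer L a : Set L)) + 1 = 2 ^ k → UType L Ψ a Q

variable {G Ω : Type u} [Group G] [Finite G] [MulAction G Ω] {z : G}

/-- **Case (C2).** -/
theorem case_two [IsSimpleGroup G] (hN : NoBadBelow.{u} (Nat.card G))
    (hB : ∀ (X : Type u) [Group X] [Finite X], BenderHolds X) (hU : UTypes.{u}) (h : Setup G Ω z)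
    (hf : ∀ g : G, (∀ a : Ω, g • a = a) → g = 1) (hn : NonIso z)
    (hcomm : ∀ a : Ω, ∀ d ∈ At z a, ∀ e ∈ At z a, Commute d e) {a : Ω} {V : Subgroup G}
    (hV : ∀ x, x ∈ V ↔ x = 1 ∨ x ∈ At z a) {k : ℕ} (hk : 2 ≤ k)
    (hcV : Nat.card V = (2 ^ k) ^ 2)
    (hΩ : Nat.card Ω = (2 ^ k) ^ 4 * ((2 ^ k - 1) ^ 2 + 1) + 1)
    (hall : ∀ u : G, Bad Ω u → Nat.card {c : Ω // u • c = c} = (2 ^ k) ^ 3 + 1 ∧
      ∀ c : Ω, u • c = c → Nat.card (AtC z u c) + 1 = 2 ^ k)
    (hex : ∃ u : G, Bad Ω u) : False := by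
  classical
  obtain ⟨u, hu, hua, b, hab, hub⟩ : ∃ u : G, Bad Ω u ∧ u • a = a ∧ ∃ b : Ω, a ≠ b ∧ u • b = b := by
    obtain ⟨p, q, hpq⟩ := h.nontriv
    obtain ⟨b, hab⟩ : ∃ b : Ω, a ≠ b := by
      by_cases hap : a = p
      · exact ⟨q, by rw [hap]; exact hpq⟩
      · exact ⟨p, hap⟩
    obtain ⟨v, hv, hva, hvb⟩ := exists_bad_pair h hf hn hex hab
    exact ⟨v, hv, hva, b, hab, hvb⟩
  have h4 : 4 ≤ 2 ^ k := by
    calc 4 = 2 ^ 2 := by norm_num
      _ ≤ 2 ^ k := Nat.pow_le_pow_right (by norm_num) hk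
  have hpos : 0 < 2 ^ k := by positivity
  obtain ⟨hfixc, hAtC⟩ := hall u hu
  have hCa := hAtC a hua
  have hCb := hAtC b hub
  -- elements of `D` in `H = C(u)`
  obtain ⟨⟨d₀, hd₀, hd₀u⟩, ⟨d₁, hd₁, hd₁u⟩, hd01⟩ : ∃ x y : AtC z u a, x ≠ y := by
    have h5 : 1 < Nat.card (AtC z u a) := by omega
    obtain ⟨x, y, hxy⟩ := Finite.one_lt_card_iff_nontrivial.mp h5
    exact ⟨x, y, hxy⟩
  obtain ⟨⟨e₀, he₀, he₀u⟩⟩ : Nonempty (AtC z u b) := by
    have h5 : 0 < Nat.card (AtC z u b) := by omega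
    exact (Nat.card_pos_iff.mp h5).1
  set H := Subgroup.centralizer ({u} : Set G) with hH
  have hHc : ∀ x : G, x ∈ H ↔ Commute x u := by
    intro x
    rw [hH, Subgroup.mem_centralizer_singleton_iff]
    exact ⟨fun h5 => h5, fun h5 => h5⟩
  have hd₀H : d₀ ∈ H := (hHc _).mpr hd₀u
  have hd₁H : d₁ ∈ H := (hHc _).mpr hd₁u
  have he₀H : e₀ ∈ H := (hHc _).mpr he₀u
  have hHtop : H ≠ ⊤ := centralizer_ne_top h hu.ne_one
  have hHlt : Nat.card H < Nat.card G := by
    refine lt_of_le_of_ne (Subgroup.card_le_card_group _) fun h5 => ?_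
    exact hHtop (Subgroup.eq_top_of_card_eq H h5)
  have hp : ∃ d e : G, d ∈ H ∧ e ∈ H ∧ IsConj z d ∧ IsConj z e ∧ Commute d e ∧ d ≠ e :=
    ⟨d₀, d₁, hd₀H, hd₁H, hd₀.1, hd₁.1, hcomm a d₀ hd₀ d₁ hd₁,
      fun hh => hd01 (Subtype.ext hh)⟩
  obtain ⟨k', i', hBG, -, hrank⟩ := Induct.main hN hB h hab hd₀ he₀ hd₀H he₀H hp hHlt
  -- `k' = k` and `i' = 3`
  have hk1 : 2 ^ k' = 2 ^ k := by
    have h5 := card_atC h hf hcomm hu hBG hua
    rw [← h5, hCa]
  have hi1 : i' = 3 := by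
    have h5 := hBG.card_pts
    rw [card_pts_centralizer h hu.mul_self, hfixc, hk1] at h5
    have h6 : (2 ^ k) ^ i' = (2 ^ k) ^ 3 := by omega
    exact Nat.pow_right_injective (by omega : 2 ≤ 2 ^ k) h6
  have ha : a ∈ pts Ω z H := ⟨d₀, hd₀H, hd₀⟩
  obtain ⟨t, Q, hS, hQ2, hQc, hinv⟩ := hrank ⟨a, ha⟩
  simp only [hk1] at hQc hinv
  rw [hi1] at hQc
  -- the effective image
  have hfin : Finite (Im H (pts Ω z H)) :=
    Finite.of_surjective _ (toPermHom H (pts Ω z H)).rangeRestrict_surjective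
  have hS0 := setup_pts h hab hd₀ he₀ hd₀H he₀H
  have hn0 := nonIso_mk h hab hd₀ he₀ hd₀H he₀H hp
  have hsurj : Function.Surjective (pr H (pts Ω z H)) :=
    (toPermHom H (pts Ω z H)).rangeRestrict_surjective
  have hc : ∀ (g : H) (a : pts Ω z H), pr H (pts Ω z H) g • a = g • a := fun g a => rfl
  have hf1 : ∀ g : Im H (pts Ω z H), (∀ a : pts Ω z H, g • a = a) → g = 1 := by
    intro g hg
    apply Subtype.ext
    ext a
    exact congrArg Subtype.val (hg a)
  have hQS := setup_map hS0 (pr H (pts Ω z H)) hsurj hc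
  have hnQ : NonIso (pr H (pts Ω z H) ⟨d₀, hd₀H⟩) := by
    obtain ⟨d, hd, hzd, hne⟩ := id hn0
    exact ⟨pr H (pts Ω z H) d, (pr H (pts Ω z H)).map_isConj hd, hzd.map (pr H (pts Ω z H)),
      fun hh => hne (eq_of_map_eq (pr H (pts Ω z H)) hS0 hc (IsConj.refl _) hd hzd hh.symm).symm⟩
  have hsim : IsSimpleGroup (L (pr H (pts Ω z H) ⟨d₀, hd₀H⟩)) := isSimpleGroup_closure hQS hf1 hnQ
  have hfaith : FaithfulSMul (L (pr H (pts Ω z H) ⟨d₀, hd₀H⟩)) (pts Ω z H) := by
    refine ⟨fun {g₁ g₂} hg => ?_⟩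
    apply Subtype.ext
    apply Subtype.ext
    ext c
    exact congrArg Subtype.val (hg c)
  have h2 : ∃ x y : L (pr H (pts Ω z H) ⟨d₀, hd₀H⟩), x ≠ 1 ∧ y ≠ 1 ∧ x ≠ y ∧ x * x = 1 ∧
      y * y = 1 ∧ x * y = y * x := by
    obtain ⟨f, hf1, hf2, hf3⟩ := hnQ
    have hcp : CommPair (L (pr H (pts Ω z H) ⟨d₀, hd₀H⟩)) :=
      commPair_subgroup (mem_L (IsConj.refl _)) (mem_L hf1) hQS.invol
        (hQS.orderOf_eq hf1) (Ne.symm hf3) hf2
    exact hcp.exists_sq
  have hUT := hU _ _ (⟨a, ha⟩ : pts Ω z H) t Q k hk hfaith hsim hS h2 hQ2 hQc hinv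
  have hVH : Nat.card (V ⊓ H : Subgroup G) = 2 ^ k := by
    rw [card_CV h hV u, hCa]
  have hloc := localU_of_rankOne h hV hHc h4 hVH hab hd₀ he₀ hd₀H he₀H ha hS hQ2 hQc hinv hUT
  refine CommTwo.main h hf hV ?_ hk rfl hcV hΩ hu hua hVH hloc
  intro w hw hwa hwc
  refine not_commute_of_card h hV hk hcV ((hall w hw).2 a hwa) fun x hx => ?_
  exact Subgroup.mem_centralizer_iff.mp hwc x hx

end Cfsg.Agent.AschCrit.CommTwoCase
end

-- part: AschCrit/CommTwoFinal
section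
/-!
# Case (C2) of the commutative case, final form

`caseTwo` : the hypothesis `h2` of `CommCase.commCaseFalse`.
-/

set_option autoImplicit false

universe u

namespace Cfsg.Agent.AschCrit.CommTwoFinal

open Cfsg MulAction
open Cfsg.Agent.TwoFusion.StronglyEmbeddedBasic Cfsg.Agent.AschCrit.Basic
open Cfsg.Agent.AschCrit.Basic.Setup Cfsg.Agent.AschCrit.Closed Cfsg.Agent.AschCrit.Descent
open Cfsg.Agent.AschCrit.CommTwoBridge Cfsg.Agent.AschCrit.CommTypes
open Cfsg.Agent.AschCrit.CommFrame Cfsg.Agent.AschCrit.CommTwoCase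
open Cfsg.Agent.AschCrit.CommCase

/-- the structure of the rank-one groups of type `PSU₃(q)` -/
theorem uTypes : UTypes.{u} := by
  intro L Ψ _ _ _ a t Q k hk hf hs hS h2 hQ2 hQc hinv
  have hT := Cfsg.Agent.AschCrit.RankOneThree.three hS h2 hk hinv hQc rfl
  have hmem : ∀ x ∈ Q, x * x = 1 → x = 1 ∨ x ∈ involutionsIn (stabilizer L a : Set L) := by
    intro x hx h1
    by_cases hx1 : x = 1
    · exact Or.inl hx1
    · exact Or.inr ⟨hS.le hx, hx1, h1⟩
  obtain ⟨r, y, hr, hrd, hy, hyo, -, hys⟩ := hT.exists_prime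
  have hodd : Odd (2 ^ k + 1) := by
    rw [Nat.odd_add_one, Nat.not_odd_iff_even]
    exact (Nat.even_pow' (by omega)).mpr even_two
  have hrodd : Odd r := by
    obtain ⟨m, hm⟩ := hrd
    rw [hm] at hodd
    exact (Nat.odd_mul.mp hodd).1
  have hne : (involutionsIn (stabilizer L a : Set L)).Nonempty := by
    by_contra hcon
    rw [Set.not_nonempty_iff_eq_empty] at hcon
    rw [hcon] at hinv
    have h4 : 4 ≤ 2 ^ k := by
      calc 4 = 2 ^ 2 := by norm_num
        _ ≤ 2 ^ k := Nat.pow_le_pow_right (by norm_num) hk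
    simp at hinv
    omega
  obtain ⟨s, hsi⟩ := hne
  refine ⟨⟨y, by rw [hyo]; exact hrodd, (Subgroup.mem_inf.mp hy).1, ?_, ?_⟩, ?_, hT.exists_ne⟩
  · intro s hs
    exact (hys s hs).symm
  · intro x hx hxy
    refine hmem x hx (hT.sq_of_commute y hy ?_ s hsi (hys s hsi) x hx hxy.symm)
    intro hy1
    rw [hy1, orderOf_one] at hyo
    exact hr.one_lt.ne hyo
  · intro x hx
    exact hmem _ (mul_mem hx hx) (hT.sq_sq x hx)

/-- **Case (C2)**, the hypothesis `h2` of `CommCase.commCaseFalse`. -/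
theorem caseTwo : ∀ (G Ω : Type u) [Group G] [Finite G] [MulAction G Ω] (z : G) (k : ℕ),
    CaseHyp G Ω z k 3 → (∀ a : Ω, Nat.card (At z a) + 1 = (2 ^ k) ^ 2) →
    Nat.card Ω = (2 ^ k) ^ 4 * ((2 ^ k - 1) ^ 2 + 1) + 1 → False := by
  intro G Ω _ _ _ z k hC hat hΩ
  have hs := hC.simple
  obtain ⟨a, ha⟩ := hC.setup.exists_fix
  have hV : ∀ x, x ∈ vGrp hC.setup hC.faithful hC.comm a ↔ x = 1 ∨ x ∈ At z a :=
    fun x => mem_vGrp hC.setup hC.faithful hC.comm
  refine case_two hC.noBadBelow hC.bender uTypes hC.setup hC.faithful hC.nonIso hC.comm hV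
    hC.two_le ?_ hΩ (fun u hu => ⟨hC.card_fix u hu, hC.card_atC u hu⟩) hC.exists_bad
  rw [card_V hC.setup hV, hat a]

end Cfsg.Agent.AschCrit.CommTwoFinal
end

-- part: AschCrit/CommFour/Fixed
section
/-!
# Aschbacher's criterion, commutative case, Suzuki type: fixed points of a `p`-element

`card_fixed` : let `p` be a prime with `p ∣ 2 ^ m - 1 ↔ k ∣ m`.  A `p`-element fixing two points `a`, `b`
and not centralising `V_a` has `2` or `2 ^ k + 1` fixed points.
-/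

set_option autoImplicit false

namespace Cfsg.Agent.AschCrit.CommFour

open Subgroup MulAction
open scoped commutatorElement
open Cfsg.Agent.TwoFusion.StronglyEmbeddedBasic Cfsg.Agent.AschCrit.Basic
open Cfsg.Agent.AschCrit.Basic.Setup Cfsg.Agent.AschCrit.Closed Cfsg.Agent.AschCrit.Count

namespace Hyp

variable {G Ω : Type*} [Group G] [Finite G] [MulAction G Ω] {z : G} {k : ℕ} {t : G}

/-- a `p`-element fixing `a` and centralising some `v ∈ D_a` centralises `V_a` -/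
theorem comm_V_of_comm (H : Hyp Ω z k) {p : ℕ} (hp : p.Prime)
    (hpk : ∀ m, p ∣ 2 ^ m - 1 ↔ k ∣ m) {a : Ω} {x v : G} (hxa : x • a = a)
    (hj : ∃ j, x ^ p ^ j = 1) (hv : v ∈ At z a) (hxv : Commute x v) :
    ∀ w ∈ H.V a, Commute x w := by
  classical
  have hpf : Fact p.Prime := ⟨hp⟩
  obtain ⟨j, hj⟩ := hj
  have hconj : ∀ w : H.V a, x * w * x⁻¹ ∈ H.V a := fun w => H.V_conj_fix w.2 hxa
  let f : Function.End (H.V a) := fun w => ⟨x * w * x⁻¹, hconj w⟩
  have hf : ∀ n : ℕ, ∀ w : H.V a, (((f ^ n) w : H.V a) : G) = x ^ n * w * (x ^ n)⁻¹ := by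
    intro n
    induction n with
    | zero =>
      intro w
      rw [pow_zero, pow_zero]
      show (w : G) = 1 * w * 1⁻¹
      group
    | succ n ih =>
      intro w
      rw [pow_succ']
      show x * ((f ^ n) w : H.V a) * x⁻¹ = _
      rw [ih, pow_succ']
      group
  have hfp : f ^ p ^ j = 1 := by
    funext w
    apply Subtype.ext
    rw [hf, hj]
    show 1 * (w : G) * 1⁻¹ = w
    group
  have : Fintype (H.V a) := Fintype.ofFinite _
  have h1 := Equiv.Perm.card_fixedPoints_modEq hfp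
  rw [← Nat.card_eq_fintype_card, H.card_V] at h1
  have h2 : Fintype.card (Function.fixedPoints f) =
      Nat.card (H.V a ⊓ centralizer {x} : Subgroup G) := by
    rw [← Nat.card_eq_fintype_card]
    refine Nat.card_congr
      { toFun := fun w => ⟨w.1.1, w.1.2, ?_⟩
        invFun := fun w => ⟨⟨w.1, w.2.1⟩, ?_⟩
        left_inv := fun w => rfl
        right_inv := fun w => rfl }
    · have h3 : x * w.1.1 * x⁻¹ = w.1.1 := congrArg Subtype.val w.2
      refine mem_centralizer_singleton_iff.mpr ?_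
      calc w.1.1 * x = (x * w.1.1 * x⁻¹) * x := by rw [h3]
        _ = x * w.1.1 := by group
    · have h3 := mem_centralizer_singleton_iff.mp w.2.2
      apply Subtype.ext
      show x * w.1 * x⁻¹ = w.1
      rw [← h3]; group
  rw [h2] at h1
  have h3 : Nat.card (H.V a ⊓ centralizer {x} : Subgroup G) ∣ 2 ^ k := by
    rw [← H.card_V a]
    exact card_dvd_of_le inf_le_left
  obtain ⟨i, hik, hi⟩ := (Nat.dvd_prime_pow Nat.prime_two).mp h3
  have hvC : v ∈ (H.V a ⊓ centralizer {x} : Subgroup G) :=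
    ⟨H.mem_V_of_at hv, mem_centralizer_singleton_iff.mpr hxv.symm.eq⟩
  have hv1 : v ≠ 1 := by
    rintro rfl
    have := H.setup.orderOf_eq hv.1
    rw [orderOf_one] at this
    omega
  have hi0 : i ≠ 0 := by
    rintro rfl
    rw [pow_zero, card_eq_one] at hi
    rw [hi, mem_bot] at hvC
    exact hv1 hvC
  have hpk1 : p ∣ 2 ^ k - 1 := (hpk k).mpr dvd_rfl
  have hp2 : ¬ p ∣ 2 := by
    intro h
    have h4 : p ∣ 2 ^ k := dvd_pow h (by have := H.k3; omega)
    have h5 : p ∣ 2 ^ k - (2 ^ k - 1) := Nat.dvd_sub h4 hpk1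
    have h6 : 2 ^ k - (2 ^ k - 1) = 1 := by have := H.q8; omega
    rw [h6] at h5
    exact hp.one_lt.ne' (Nat.dvd_one.mp h5)
  have hik' : i = k := by
    rw [hi] at h1
    have h4 : p ∣ 2 ^ k - 2 ^ i :=
      (Nat.modEq_iff_dvd' (Nat.pow_le_pow_right (by norm_num) hik)).mp h1.symm
    have h5 : 2 ^ k - 2 ^ i = 2 ^ i * (2 ^ (k - i) - 1) := by
      rw [Nat.mul_sub, mul_one, ← pow_add]
      congr 2
      omega
    rw [h5] at h4
    have h6 : p ∣ 2 ^ (k - i) - 1 := by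
      refine (Nat.Coprime.dvd_of_dvd_mul_left ?_ h4)
      apply Nat.Coprime.pow_right
      exact (Nat.Prime.coprime_iff_not_dvd hp).mpr hp2
    have h7 := (hpk _).mp h6
    have h8 : k - i = 0 := Nat.eq_zero_of_dvd_of_lt h7 (by omega)
    omega
  rw [hik', ← H.card_V a] at hi
  have h4 : (H.V a ⊓ centralizer {x} : Subgroup G) = H.V a :=
    eq_of_le_of_card_ge inf_le_left (by rw [hi])
  intro w hw
  rw [← h4] at hw
  exact (mem_centralizer_singleton_iff.mp hw.2).symm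

/-- a `p`-element fixing `a` and `b` lies in `T K` -/
theorem exists_eq_mul (H : Hyp Ω z k) (ht : Bad Ω t) {p : ℕ} (hp : p.Prime)
    (hpk : ∀ m, p ∣ 2 ^ m - 1 ↔ k ∣ m) {a b : Ω} (ha : t • a = a) (hb : t • b = b)
    (hab : a ≠ b) {y : G} (hya : y • a = a) (hyb : y • b = b) (hj : ∃ j, y ^ p ^ j = 1) :
    ∃ h ∈ Tt z t a b, ∃ c ∈ Kt Ω t, y = h * c := by
  obtain ⟨v, hv⟩ := H.setup.nonempty_At a
  have hw : y * v * y⁻¹ ∈ At z a := by
    have := conj_mem_At y hv
    rwa [hya] at this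
  obtain ⟨h, hh, hhv⟩ := H.torus_trans ht ha hb hab hv hw
  have hha : h⁻¹ • a = a := by rw [inv_smul_eq_iff]; exact hh.2.1.symm
  have hhb : h⁻¹ • b = b := by rw [inv_smul_eq_iff]; exact hh.2.2.symm
  obtain ⟨x, hx⟩ : ∃ x, x = h⁻¹ * y := ⟨_, rfl⟩
  have hxa : x • a = a := by rw [hx, mul_smul, hya, hha]
  have hxb : x • b = b := by rw [hx, mul_smul, hyb, hhb]
  have hyx : y = h * x := by rw [hx]; group
  have hxv : Commute x v := by
    show x * v = v * x
    calc x * v = h⁻¹ * (y * v * y⁻¹) * h * (h⁻¹ * y) := by rw [hx]; group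
      _ = h⁻¹ * (h * v * h⁻¹) * h * (h⁻¹ * y) := by rw [hhv]
      _ = v * x := by rw [hx]; group
  have hpa : ∀ m : ℕ, x ^ m • a = a := fun m =>
    (pow_mem (show x ∈ stabilizer G a from hxa) m : _ ∈ stabilizer G a)
  have hpb : ∀ m : ℕ, x ^ m • b = b := fun m =>
    (pow_mem (show x ∈ stabilizer G b from hxb) m : _ ∈ stabilizer G b)
  have hpow : ∀ m : ℕ, ∃ τ ∈ Tt z t a b, y ^ m = τ * x ^ m := by
    intro m
    induction m with
    | zero => exact ⟨1, one_mem _, by simp⟩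
    | succ m ih =>
      obtain ⟨τ, hτ, hym⟩ := ih
      refine ⟨τ * (x ^ m * h * (x ^ m)⁻¹), mul_mem hτ
        (H.conj_Tt ht ha hb hab (hpa m) (hpb m) hh), ?_⟩
      rw [pow_succ, hym, hyx, pow_succ]
      group
  obtain ⟨j, hj⟩ := hj
  have hxj : x ^ p ^ j = 1 := by
    obtain ⟨τ, hτ, h1⟩ := hpow (p ^ j)
    rw [hj] at h1
    have h2 : x ^ p ^ j = τ⁻¹ := (inv_eq_of_mul_eq_one_right h1.symm).symm
    refine H.torus_eq_one ht ha hb hab hv (by rw [h2]; exact inv_mem hτ) (hxv.pow_left _)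
  refine ⟨h, hh, x, ?_, hyx⟩
  exact H.mem_Kt_of_comm ht ha hb hab (H.comm_V_of_comm hp hpk hxa ⟨j, hxj⟩ hv hxv) hxb

/-- an element `≠ 1` of the torus is centralised in `L_t` by the torus only -/
theorem mem_Tt_of_commute (H : Hyp Ω z k) (ht : Bad Ω t) {a b : Ω} (ha : t • a = a)
    (hb : t • b = b) (hab : a ≠ b) {h : G} (hh : h ∈ Tt z t a b) (hh1 : h ≠ 1) {g : G}
    (hg : g ∈ Lt z t) (hgh : Commute g h) : g ∈ Tt z t a b := by
  classical
  have := H.setup.finite_points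
  have S := H.sz t ht
  -- `h` fixes only `a` and `b` in `Fix t`
  have hfix : ∀ c : Ω, t • c = c → h • c = c → c = a ∨ c = b := by
    intro c hc hhc
    by_contra hcon
    push Not at hcon
    exact hh1 (H.eq_one_of_Lt_Kt ht hh.1
      (S.three h hh.1 a b c ha hb hc hab (Ne.symm hcon.2) (Ne.symm hcon.1) hh.2.1 hh.2.2 hhc))
  have hga : g • a = a ∨ g • a = b := by
    refine hfix _ (H.Lt_smul hg ha) ?_
    rw [smul_smul, ← hgh.eq, mul_smul]
    exact congrArg _ hh.2.1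
  have hgb : g • b = a ∨ g • b = b := by
    refine hfix _ (H.Lt_smul hg hb) ?_
    rw [smul_smul, ← hgh.eq, mul_smul]
    exact congrArg _ hh.2.2
  rcases hga with hga | hga
  · refine ⟨hg, hga, ?_⟩
    rcases hgb with hgb | hgb
    · exact absurd (smul_left_cancel g (hga.trans hgb.symm)) hab
    · exact hgb
  exfalso
  have hgb' : g • b = a := by
    rcases hgb with hgb | hgb
    · exact hgb
    · exact absurd (smul_left_cancel g (hga.trans hgb.symm)) hab
  -- `g² ∈ T`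
  have hg2 : g * g ∈ Tt z t a b := by
    refine ⟨mul_mem hg hg, ?_, ?_⟩
    · show (g * g) • a = a
      rw [mul_smul, hga, hgb']
    · show (g * g) • b = b
      rw [mul_smul, hgb', hga]
  have hq : Odd (2 ^ k - 1) := by
    have h5 : Even (2 ^ k) := Nat.even_pow.mpr ⟨even_two, by have := H.k3; omega⟩
    exact Nat.Even.sub_odd (by have := H.q8; omega) h5 odd_one
  -- the involution `u = g ^ (q - 1)`
  obtain ⟨u, hu⟩ : ∃ u, u = g ^ (2 ^ k - 1) := ⟨_, rfl⟩
  have huL : u ∈ Lt z t := by rw [hu]; exact pow_mem hg _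
  have huh : Commute u h := by rw [hu]; exact hgh.pow_left _
  have huu : u * u = 1 := by
    have h1 : (⟨g * g, hg2⟩ : Tt z t a b) ^ Nat.card (Tt z t a b) = 1 := pow_card_eq_one'
    rw [H.card_Tt ht ha hb hab] at h1
    have h2 : (g * g) ^ (2 ^ k - 1) = 1 := congrArg Subtype.val h1
    rw [hu, ← (Commute.refl g).mul_pow, h2]
  have hua : u • a = b := by
    obtain ⟨m, hm⟩ := hq
    have h1 : u = g * (g * g) ^ m := by
      rw [hu, hm, ← pow_two, ← pow_mul, ← pow_succ']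
    have h2 : (g * g) ^ m • a = a :=
      (pow_mem (show g * g ∈ stabilizer G a from hg2.2.1) m : _ ∈ stabilizer G a)
    rw [h1, mul_smul, h2, hga]
  -- `u` fixes a point of `Fix t`
  obtain ⟨e, hte, hue⟩ : ∃ e : Ω, t • e = e ∧ u • e = e := by
    let F : {c : Ω // t • c = c} → {c : Ω // t • c = c} := fun c =>
      ⟨u • c.1, H.Lt_smul huL c.2⟩
    have hF : Function.Involutive F := by
      rintro ⟨c, hc⟩
      apply Subtype.ext
      show u • u • c = c
      rw [smul_smul, huu, one_smul]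
    have hodd : Odd (Nat.card {c : Ω // t • c = c}) := by
      rw [H.cardFix t ht]
      have h5 : Even (2 ^ k) := Nat.even_pow.mpr ⟨even_two, by have := H.k3; omega⟩
      exact Even.add_one (Nat.even_pow.mpr ⟨h5, by norm_num⟩)
    have h1 := odd_card_of_involutive hF hodd
    have h2 : 0 < Nat.card {c : {c : Ω // t • c = c} // F c = c} := h1.pos
    obtain ⟨⟨⟨e, he⟩, hFe⟩⟩ := (Nat.card_pos_iff.mp h2).1
    exact ⟨e, he, congrArg Subtype.val hFe⟩
  -- so `u ∈ D`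
  obtain ⟨U, hU⟩ := S.unip e hte
  have huU : u ∈ U := by
    rw [H.mem_U_iff ht hte hU]
    refine ⟨huL, hue, ?_⟩
    have h5 : 2 ∣ (2 ^ k) ^ 2 :=
      dvd_pow (dvd_pow_self 2 (by have := H.k3; omega)) (by norm_num)
    obtain ⟨m, hm⟩ := h5
    rw [hm, pow_mul, pow_two, huu, one_pow]
  have huV := H.mem_V_of_sq ht hte hU huU huu
  have hu1 : u ≠ 1 := by
    rintro rfl
    rw [one_smul] at hua
    exact hab hua
  have huD := H.mem_at huV hu1
  have hhe : h • e = e := H.setup.fix_of_commute huD.1 huh.symm huD.2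
  rcases hfix e hte hhe with rfl | rfl
  · exact hab (hue.symm.trans hua)
  · have : u • a = u • e := by rw [hua, hue]
    exact hab (smul_left_cancel u this)

/-- A `p`-element fixing `a`, `b` and not centralising `V_a` has `2` or `2 ^ k + 1` fixed points. -/
theorem card_fixed [Finite Ω] (H : Hyp Ω z k) {p : ℕ} (hp : p.Prime)
    (hpk : ∀ m, p ∣ 2 ^ m - 1 ↔ k ∣ m) {a b : Ω} (hab : a ≠ b) {y : G} (hya : y • a = a)
    (hyb : y • b = b) (hj : ∃ j, y ^ p ^ j = 1) (hyV : ¬ ∀ v ∈ H.V a, Commute y v) :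
    Nat.card {c : Ω // y • c = c} = 2 ∨ Nat.card {c : Ω // y • c = c} = 2 ^ k + 1 := by
  classical
  obtain ⟨t, ht, ha, hb⟩ := H.exists_bad hab
  have S := H.sz t ht
  obtain ⟨h, hh, κ, hκ, hy⟩ := H.exists_eq_mul ht hp hpk ha hb hab hya hyb hj
  have hh1 : h ≠ 1 := by
    rintro rfl
    apply hyV
    intro v hv
    rw [hy, one_mul]
    exact H.Kt_comm_V ht ha hv hκ
  -- fixed points in `Fix t`
  have hfix : ∀ c : Ω, t • c = c → y • c = c → c = a ∨ c = b := by
    intro c hc hyc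
    by_contra hcon
    push Not at hcon
    have hhc : h • c = c := by
      rw [hy, mul_smul, hκ c hc] at hyc
      exact hyc
    exact hh1 (H.eq_one_of_Lt_Kt ht hh.1
      (S.three h hh.1 a b c ha hb hc hab (Ne.symm hcon.2) (Ne.symm hcon.1) hh.2.1 hh.2.2 hhc))
  have hset : Nat.card {c : Ω // y • c = c} = ({c : Ω | y • c = c} : Set Ω).ncard :=
    Nat.card_coe_set_eq _
  by_cases hex : ∃ c₀ : Ω, t • c₀ ≠ c₀ ∧ y • c₀ = c₀
  · right
    obtain ⟨c₀, hc₀, hyc₀⟩ := hex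
    have hyc₀' : y⁻¹ • c₀ = c₀ := by rw [inv_smul_eq_iff, hyc₀]
    have hS : ({c : Ω | y • c = c} : Set Ω) =
        {a, b} ∪ (fun g : G => g • c₀) '' (Tt z t a b : Set G) := by
      ext c
      simp only [Set.mem_ofPred_eq, Set.mem_union, Set.mem_insert_iff, Set.mem_singleton_iff,
        Set.mem_image, SetLike.mem_coe]
      constructor
      · intro hc
        by_cases htc : t • c = c
        · exact Or.inl (hfix c htc hc)
        · right
          obtain ⟨g, hg, rfl⟩ := H.off_trans ht hc₀ htc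
          refine ⟨g, ?_, rfl⟩
          have hyg : y * g * y⁻¹ ∈ Lt z t :=
            H.conj_Lt ht (fun c hc => H.smul_line ht ha hb hab hya hyb hc) hg
          have h1 : g⁻¹ * (y * g * y⁻¹) = 1 := by
            refine H.off_free ht hc₀ (mul_mem (inv_mem hg) hyg) ?_
            rw [mul_smul, mul_smul, mul_smul, hyc₀', hc, inv_smul_smul]
          have h2 : y * g = g * y := by
            calc y * g = g * (g⁻¹ * (y * g * y⁻¹)) * y := by group
              _ = g * y := by rw [h1, mul_one]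
          have h3 : Commute g h := by
            have h4 := (H.Kt_comm_Lt ht hκ hg).eq
            show g * h = h * g
            have h5 : (g * h) * κ = (h * g) * κ := by
              calc (g * h) * κ = g * y := by rw [hy]; group
                _ = y * g := h2.symm
                _ = h * (κ * g) := by rw [hy]; group
                _ = (h * g) * κ := by rw [h4]; group
            exact mul_right_cancel h5
          exact H.mem_Tt_of_commute ht ha hb hab hh hh1 hg h3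
      · rintro ((rfl | rfl) | ⟨g, hg, rfl⟩)
        · exact hya
        · exact hyb
        · have h4 := (H.Kt_comm_Lt ht hκ hg.1).eq
          have h5 := H.Tt_comm ht ha hb hab hg hh
          have h6 : y * g = g * y := by
            calc y * g = h * (κ * g) := by rw [hy]; group
              _ = (h * g) * κ := by rw [h4]; group
              _ = g * y := by rw [← h5, hy]; group
          rw [smul_smul, h6, mul_smul, hyc₀]
    have hinj : Set.InjOn (fun g : G => g • c₀) (Tt z t a b : Set G) := by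
      intro g hg g' hg' hgg
      have h1 : g'⁻¹ * g = 1 := by
        refine H.off_free ht hc₀ (mul_mem (inv_mem hg'.1) hg.1) ?_
        have h2 : g • c₀ = g' • c₀ := hgg
        rw [mul_smul, h2, inv_smul_smul]
      exact (inv_mul_eq_one.mp h1).symm
    have hdisj : Disjoint ({a, b} : Set Ω) ((fun g : G => g • c₀) '' (Tt z t a b : Set G)) := by
      rw [Set.disjoint_left]
      rintro c hc ⟨g, hg, rfl⟩
      have h1 : t • (g • c₀) = g • c₀ := by
        rcases hc with hc | hc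
        · have hc' : g • c₀ = a := hc
          rw [hc', ha]
        · have hc' : g • c₀ = b := hc
          rw [hc', hb]
      apply hc₀
      have h5 := H.Lt_smul (inv_mem hg.1) h1
      rwa [inv_smul_smul] at h5
    rw [hset, hS, Set.ncard_union_eq hdisj (Set.toFinite _) (Set.toFinite _),
      Set.ncard_pair hab, hinj.ncard_image]
    have h1 : (Tt z t a b : Set G).ncard = 2 ^ k - 1 := by
      rw [← Nat.card_coe_set_eq]
      exact H.card_Tt ht ha hb hab
    rw [h1]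
    have := H.q8
    omega
  · left
    push Not at hex
    have hS : ({c : Ω | y • c = c} : Set Ω) = {a, b} := by
      ext c
      simp only [Set.mem_ofPred_eq, Set.mem_insert_iff, Set.mem_singleton_iff]
      constructor
      · intro hc
        by_cases htc : t • c = c
        · exact hfix c htc hc
        · exact absurd hc (hex c htc)
      · rintro (rfl | rfl)
        · exact hya
        · exact hyb
    rw [hset, hS, Set.ncard_pair hab]

end Hyp

end Cfsg.Agent.AschCrit.CommFour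
end

-- part: AschCrit/CommFour/Final
section
/-!
# Aschbacher's criterion, commutative case, Suzuki type: the contradiction
-/

set_option autoImplicit false

namespace Cfsg.Agent.AschCrit.CommFour

open Subgroup MulAction
open Cfsg.Agent.TwoFusion.StronglyEmbeddedBasic Cfsg.Agent.AschCrit.Basic
open Cfsg.Agent.AschCrit.Basic.Setup Cfsg.Agent.AschCrit.Closed Cfsg.Agent.AschCrit.Count

variable {G Ω : Type*} [Group G] [Finite G] [MulAction G Ω] {z : G} {k : ℕ}

theorem Hyp.false_of (H : Hyp Ω z k)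
    (hfix : ∀ p : ℕ, p.Prime → (∀ m, p ∣ 2 ^ m - 1 ↔ k ∣ m) → ∀ a b : Ω, a ≠ b → ∀ y : G,
      y • a = a → y • b = b → (∃ j, y ^ p ^ j = 1) → (¬ ∀ v ∈ H.V a, Commute y v) →
      Nat.card {c : Ω // y • c = c} = 2 ∨ Nat.card {c : Ω // y • c = c} = 2 ^ k + 1) : False := by
  have := H.setup.finite_points
  have hk3 := H.k3
  obtain ⟨t₀, -, a, -⟩ := H.bad
  obtain ⟨p, hp, hp2, hpq, hpk⟩ := CommFourArith.exists_prime_k H.oddk H.k3
  have hq3 : 2 ^ k % 3 = 2 := by
    obtain ⟨m, hm⟩ := H.oddk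
    rw [hm, pow_succ, pow_mul, Nat.mul_mod, Nat.pow_mod]
    norm_num
  have hqe : Even (2 ^ k) := (Nat.even_pow.mpr ⟨even_two, by omega⟩)
  refine CommFourEnd.end_false (q := 2 ^ k) (p := p) (a := a) (W := H.CV a) hq3 hqe hp hpq ?_
    (H.CV_le a) (H.CV_normalizer a) (H.three_dvd_card_CV a) (H.not_nine_dvd_card_CV a)
    (H.dvd_relIndex_CV a hp hpq) ?_ ?_
  · rw [H.cardPts, add_comm]
  · intro w hw hw3 b hwb
    exact H.fix_of_order_three hw hw3 hwb
  · intro y hya hyW hj b hba hyb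
    exact hfix p hp hpk a b (Ne.symm hba) y hya hyb hj (fun h => hyW (H.mem_CV.mpr h))

/-- **Case (C4).** -/
theorem Hyp.false (H : Hyp Ω z k) : False := by
  have := H.setup.finite_points
  exact H.false_of fun p hp hpk a b hab y hya hyb hj hyV =>
    H.card_fixed hp hpk hab hya hyb hj hyV

end Cfsg.Agent.AschCrit.CommFour
end

-- part: AschCrit/CommFour/CaseFour
section
/-!
# Aschbacher's criterion, commutative case, Suzuki type: it does not occur
-/

set_option autoImplicit false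

universe u

namespace Cfsg.Agent.AschCrit.CommFour.CaseFour

open Cfsg.Agent.TwoFusion.StronglyEmbeddedBasic Cfsg.Agent.AschCrit.Basic
open Cfsg.Agent.AschCrit.Basic.Setup Cfsg.Agent.AschCrit.CommCase

/-- **Case (c4)** -/
theorem case_four (G Ω : Type u) [Group G] [Finite G] [MulAction G Ω] (z : G) (k : ℕ)
    (hC : CaseHyp G Ω z k 2) (hat : ∀ a : Ω, Nat.card (At z a) + 1 = 2 ^ k)
    (hΩ : Nat.card Ω = (2 ^ k) ^ 3 * (2 ^ k * (2 ^ k - 1) + 1) + 1) : False :=
  (AdapterHyp.hyp hC hat hΩ).false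

end Cfsg.Agent.AschCrit.CommFour.CaseFour
end

-- part: AschCrit/CommFive/Final
section
/-!
# Aschbacher's criterion, commutative case (C5): final form

`exists_ctx` : the context `Ctx` from `CommCase.CaseHyp`.
-/

set_option autoImplicit false

universe u

namespace Cfsg.Agent.AschCrit.CommFive

open Cfsg.Agent.TwoFusion.StronglyEmbeddedBasic Cfsg.Agent.AschCrit.Basic
open Cfsg.Agent.AschCrit.Basic.Setup Cfsg.Agent.AschCrit.Closed Cfsg.Agent.AschCrit.Descent
open Cfsg.Agent.AschCrit.NonIso Cfsg.Agent.AschCrit.CommTypes Cfsg.Agent.AschCrit.CommFrame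
open Cfsg.Agent.AschCrit.CommCase

/-- the context of (C5) -/
theorem exists_ctx {G Ω : Type u} [Group G] [Finite G] [MulAction G Ω] {z : G} {k : ℕ}
    (hC : CaseHyp G Ω z k 3) (hat : ∀ a : Ω, Nat.card (At z a) + 1 = 2 ^ k) :
    Ctx Ω z (fun a => vGrp hC.setup hC.faithful hC.comm a) k := by
  have hV : ∀ a x, x ∈ vGrp hC.setup hC.faithful hC.comm a ↔ x = 1 ∨ x ∈ At z a :=
    fun a x => mem_vGrp hC.setup hC.faithful hC.comm
  have hcV : ∀ a, Nat.card (vGrp hC.setup hC.faithful hC.comm a) = 2 ^ k := by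
    intro a
    rw [card_V hC.setup (hV a), hat a]
  refine
    { setup := hC.setup
      faithful := hC.faithful
      nonIso := hC.nonIso
      mem_V := hV
      two_le := hC.two_le
      card_V := hcV
      bad := ?_
      fix := hC.card_fix
      loc := ?_ }
  · intro u a hu hua x hx
    rcases (hV a x).mp hx with rfl | hx
    · exact Commute.one_right u
    · have h1 : AtC z u a ⊆ At z a := fun d hd => hd.1
      have hfin : (At z a).Finite := Set.toFinite _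
      have h2 : (AtC z u a).ncard = (At z a).ncard := by
        have h3 := hC.card_atC u hu a hua
        have h4 := hat a
        rw [Nat.card_coe_set_eq] at h3 h4
        omega
      have h3 := Set.eq_of_subset_of_ncard_le h1 h2.ge hfin
      have h4 : x ∈ AtC z u a := by rw [h3]; exact hx
      exact h4.2.symm
  · rintro H a hH haH ⟨b, hba, hbH⟩ hpts
    obtain ⟨Q, hQ, hY⟩ := exists_local hC.noBadBelow hC.bender hC.setup hV (Ne.symm hba) hH haH hbH
      hC.two_le (hcV a) hpts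
    exact ⟨Q, hQ, fun c hca hcH => hY c (Ne.symm hca) hcH⟩

/-- **Case (C5)** from the falsity of the context -/
theorem caseFive_of_false
    (hfalse : ∀ (G Ω : Type u) [Group G] [Finite G] [MulAction G Ω] (z : G) (V : Ω → Subgroup G)
      (k : ℕ), Ctx Ω z V k → ∀ u : G, Bad Ω u → False)
    (G Ω : Type u) [Group G] [Finite G] [MulAction G Ω] (z : G) (k : ℕ)
    (hC : CaseHyp G Ω z k 3) (hat : ∀ a : Ω, Nat.card (At z a) + 1 = 2 ^ k) : False := by
  obtain ⟨u, hu⟩ := hC.exists_bad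
  exact hfalse G Ω z _ k (exists_ctx hC hat) u hu

end Cfsg.Agent.AschCrit.CommFive
end

-- part: AschCrit/CommFive/Hat
section
/-!
# Aschbacher's criterion, commutative case (C5): the group `P̂ = P_u ⟨u⟩`

* `QE.exists_comm` : every element of `Q` is `g⁻¹ (y g y⁻¹) e`
* `UD.kappa` : a 2-element of `C(u)` fixing all fixed points of `u` is `1` or `u`
* `HatD` : the properties of `P̂`
* `UD.exists_hat` : existence of `P̂`
-/

set_option autoImplicit false

namespace Cfsg.Agent.AschCrit.CommFive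

open Cfsg.Agent.TwoFusion.StronglyEmbeddedBasic Cfsg.Agent.AschCrit.Basic
open Cfsg.Agent.AschCrit.Basic.Setup Cfsg.Agent.AschCrit.Closed Cfsg.Agent.AschCrit.Descent
open Cfsg.Agent.AschCrit.NonIso

section qlevel

variable {Γ : Type*} [Group Γ] {Q E : Subgroup Γ} {k : ℕ}

/-- every element of `Q` is of the form `g⁻¹ (y g y⁻¹) e` -/
theorem QE.exists_comm (h : QE Q E k) {y : Γ} (hy : YE Q E y) {x : Γ} (hx : x ∈ Q) :
    ∃ g ∈ Q, ∃ e ∈ E, x = g⁻¹ * (y * g * y⁻¹) * e := by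
  have hfQ : Finite Q := h.fin
  set N := E.subgroupOf Q with hN
  let F : Q ⧸ N → Q ⧸ N := Quotient.map'
    (fun x : Q => (⟨(x : Γ)⁻¹ * (y * x * y⁻¹), mul_mem (inv_mem x.2) (hy.norm x x.2)⟩ : Q)) (by
      rintro ⟨x, hx⟩ ⟨x', hx'⟩ hxy
      rw [QuotientGroup.leftRel_apply] at hxy ⊢
      have h1 : x⁻¹ * x' ∈ E := hxy
      show (x⁻¹ * (y * x * y⁻¹))⁻¹ * (x'⁻¹ * (y * x' * y⁻¹)) ∈ E
      obtain ⟨e, he, rfl⟩ : ∃ e ∈ E, x' = x * e := ⟨_, h1, by group⟩
      have h2 : y * e * y⁻¹ = e := by rw [(hy.comm e he).eq, mul_inv_cancel_right]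
      have h3 : (x⁻¹ * (y * x * y⁻¹))⁻¹ * ((x * e)⁻¹ * (y * (x * e) * y⁻¹)) =
          (x⁻¹ * (y * x * y⁻¹))⁻¹ * (e⁻¹ * (x⁻¹ * (y * x * y⁻¹))) * (y * e * y⁻¹) := by group
      have h4 := (h.central e⁻¹ (inv_mem he) _ (mul_mem (inv_mem hx) (hy.norm x hx))).eq
      rw [h3, h2, h4, inv_mul_cancel_left, inv_mul_cancel]
      exact one_mem E)
  have hFmk : ∀ x : Q, F (QuotientGroup.mk x) = QuotientGroup.mk
      (⟨(x : Γ)⁻¹ * (y * x * y⁻¹), mul_mem (inv_mem x.2) (hy.norm x x.2)⟩ : Q) := fun _ => rfl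
  have hinj : Function.Injective F := by
    intro b b'
    induction b using QuotientGroup.induction_on with
    | H g =>
      induction b' using QuotientGroup.induction_on with
      | H g' =>
        intro hgg
        rw [hFmk, hFmk, QuotientGroup.eq] at hgg
        have h1 : ((g : Γ)⁻¹ * (y * g * y⁻¹))⁻¹ * ((g' : Γ)⁻¹ * (y * g' * y⁻¹)) ∈ E := hgg
        rw [QuotientGroup.eq]
        show (g : Γ)⁻¹ * g' ∈ E
        -- `x = g' g⁻¹`
        have h2 : (g' : Γ) * (g : Γ)⁻¹ ∈ E := by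
          apply YE.mem_of h hy (mul_mem g'.2 (inv_mem g.2))
          set d := (g : Γ)⁻¹ * (y * g * y⁻¹) with hd
          set e := d⁻¹ * ((g' : Γ)⁻¹ * (y * g' * y⁻¹)) with he
          have h3 : y * (g' : Γ) * y⁻¹ = g' * (d * e) := by rw [he]; group
          have h4 : y * (g : Γ) * y⁻¹ = g * d := by rw [hd]; group
          have hdQ : d ∈ Q := mul_mem (inv_mem g.2) (hy.norm g g.2)
          have h5 := (h.central e h1 (d⁻¹ * (g : Γ)⁻¹)
            (mul_mem (inv_mem hdQ) (inv_mem g.2))).eq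
          have h6 : y * ((g' : Γ) * (g : Γ)⁻¹) * y⁻¹ = (y * (g' : Γ) * y⁻¹) * (y * (g : Γ) * y⁻¹)⁻¹ := by
            group
          rw [h6, h3, h4]
          have h7 : ((g' : Γ) * (g : Γ)⁻¹)⁻¹ * (g' * (d * e) * (g * d)⁻¹) =
              g * d * (e * (d⁻¹ * (g : Γ)⁻¹)) := by group
          rw [h7, h5]
          have h8 : (g : Γ) * d * (d⁻¹ * (g : Γ)⁻¹ * e) = e := by group
          rw [h8]; exact h1
        have h9 := (h.central _ h2 g g.2).eq
        have h10 : (g : Γ)⁻¹ * g' = (g : Γ)⁻¹ * (g' * (g : Γ)⁻¹ * g) := by group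
        rw [h10, h9, inv_mul_cancel_left]
        exact h2
  have hsurj := Finite.surjective_of_injective hinj
  obtain ⟨b, hb⟩ := hsurj (QuotientGroup.mk ⟨x, hx⟩)
  revert hb
  induction b using QuotientGroup.induction_on with
  | H g =>
    intro hb
    rw [hFmk, QuotientGroup.eq] at hb
    have h1 : ((g : Γ)⁻¹ * (y * g * y⁻¹))⁻¹ * x ∈ E := hb
    exact ⟨g, g.2, _, h1, by group⟩

/-- a 2-element of `Q W`, `W` an odd group normalising `Q`, is in `Q` -/
theorem mem_of_twoElt_mul {Q W : Subgroup Γ} (hQ : IsPGroup 2 Q)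
    (hW : ∀ w ∈ W, Odd (orderOf w)) (hWQ : ∀ w ∈ W, ∀ x ∈ Q, w * x * w⁻¹ ∈ Q) {x w : Γ}
    (hx : x ∈ Q) (hw : w ∈ W) (hxw : TwoElt (x * w)) : x * w ∈ Q := by
  have key : ∀ m : ℕ, (x * w) ^ m * (w ^ m)⁻¹ ∈ Q := by
    intro m
    induction m with
    | zero => simp [one_mem]
    | succ m ih =>
      have h1 : (x * w) ^ (m + 1) * (w ^ (m + 1))⁻¹ =
          ((x * w) ^ m * (w ^ m)⁻¹) * (w ^ m * x * (w ^ m)⁻¹) := by
        rw [pow_succ, pow_succ]; group
      rw [h1]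
      exact mul_mem ih (hWQ _ (pow_mem hw m) x hx)
  obtain ⟨n, hn⟩ := hxw
  have h1 := key (2 ^ n)
  rw [← hn, pow_orderOf_eq_one, one_mul, hn] at h1
  have h2 : w ^ 2 ^ n ∈ Q := by
    have := inv_mem h1
    rwa [inv_inv] at this
  have h3 : w ^ 2 ^ n = 1 := (TwoElt.of_mem hQ h2).eq_one (hW _ (pow_mem hw _))
  have h4 : orderOf w ∣ 2 ^ n := orderOf_dvd_of_pow_eq_one h3
  obtain ⟨j, -, hj⟩ := (Nat.dvd_prime_pow Nat.prime_two).mp h4
  have h5 : w = 1 := TwoElt.eq_one ⟨j, hj⟩ (hW w hw)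
  rw [h5, mul_one]; exact hx

/-- the group generated by two commuting 2-elements -/
theorem exists_two_group {g u : Γ} (hg : TwoElt g) (hu : TwoElt u) (hgu : Commute g u) :
    ∃ F : Subgroup Γ, IsPGroup 2 F ∧ g ∈ F ∧ u ∈ F ∧
      ∀ K : Subgroup Γ, g ∈ K → u ∈ K → F ≤ K := by
  refine ⟨Subgroup.closure {g, u}, isPGroup_of_twoElt ?_, Subgroup.subset_closure (by simp),
    Subgroup.subset_closure (by simp), ?_⟩
  · have h1 : ∀ x ∈ Subgroup.closure ({g, u} : Set Γ), Commute x g ∧ Commute x u := by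
      intro x hx
      induction hx using Subgroup.closure_induction with
      | mem x hx =>
        rcases hx with rfl | rfl
        · exact ⟨Commute.refl _, hgu⟩
        · exact ⟨hgu.symm, Commute.refl _⟩
      | one => exact ⟨Commute.one_left _, Commute.one_left _⟩
      | mul x y _ _ hx hy => exact ⟨hx.1.mul_left hy.1, hx.2.mul_left hy.2⟩
      | inv x _ hx => exact ⟨hx.1.inv_left, hx.2.inv_left⟩
    have h2 : ∀ x ∈ Subgroup.closure ({g, u} : Set Γ), ∀ x' ∈ Subgroup.closure ({g, u} : Set Γ),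
        Commute x x' := by
      intro x hx x' hx'
      induction hx' using Subgroup.closure_induction with
      | mem x' hx' =>
        rcases hx' with rfl | rfl
        · exact (h1 x hx).1
        · exact (h1 x hx).2
      | one => exact Commute.one_right _
      | mul x' y' _ _ hx' hy' => exact hx'.mul_right hy'
      | inv x' _ hx' => exact hx'.inv_right
    intro x hx
    induction hx using Subgroup.closure_induction with
    | mem x hx =>
      rcases hx with rfl | rfl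
      · exact hg
      · exact hu
    | one => exact TwoElt.one
    | mul x y hx' hy' hx hy => exact hx.mul hy (h2 x hx' y hy')
    | inv x _ hx => exact hx.inv
  · intro K h1 h2
    rw [Subgroup.closure_le]
    rintro x (rfl | rfl)
    · exact h1
    · exact h2

end qlevel

variable {G Ω : Type*} [Group G] [MulAction G Ω] {z : G} {V : Ω → Subgroup G} {k : ℕ}

theorem LocQ.fix_a {H : Subgroup G} {a : Ω} {Va : Subgroup G}
    {Q : Subgroup (Equiv.Perm (pts Ω z H))} (L : LocQ Ω z H a Va k Q) (ha : a ∈ pts Ω z H)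
    {g : H} (hg : rho Ω z H g ∈ Q) : (g : G) • a = a := by
  obtain ⟨g', -, hg', h1⟩ := L.lift _ hg
  exact ((rho_eq_iff g' g).mp h1 a ha).symm.trans hg'

theorem LocQ.isPGroup {H : Subgroup G} {a : Ω} {Va : Subgroup G}
    {Q : Subgroup (Equiv.Perm (pts Ω z H))} (L : LocQ Ω z H a Va k Q) : IsPGroup 2 Q := by
  have hfQ : Finite Q := L.qe.fin
  refine IsPGroup.of_card (n := k * 3) ?_
  rw [L.qe.card_Q, pow_mul]

/-- `P̂` : all 2-elements of `C(u)_a` inducing elements of `Q` -/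
structure HatD (Ω : Type*) [MulAction G Ω] (z : G) (V : Ω → Subgroup G) (u : G) (a : Ω)
    (Q : Subgroup (Equiv.Perm (pts Ω z (Subgroup.centralizer ({u} : Set G)))))
    (P : Subgroup G) : Prop where
  mem : ∀ g : G, g ∈ P ↔ ∃ hg : g ∈ Subgroup.centralizer ({u} : Set G), g • a = a ∧ TwoElt g ∧
    rho Ω z (Subgroup.centralizer ({u} : Set G)) ⟨g, hg⟩ ∈ Q
  surj : ∀ x ∈ Q, ∃ g : Subgroup.centralizer ({u} : Set G), (g : G) ∈ P ∧ rho Ω z _ g = x
  comm : ∀ g ∈ P, ∀ v ∈ V a, Commute g v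
  ker : ∀ g : Subgroup.centralizer ({u} : Set G), (g : G) ∈ P → rho Ω z _ g = 1 →
    (g : G) = 1 ∨ (g : G) = u
  two : IsPGroup 2 P
  u_mem : u ∈ P
  V_le : V a ≤ P

namespace UD

variable {u : G} {a b : Ω}
  {Q : Subgroup (Equiv.Perm (pts Ω z (Subgroup.centralizer ({u} : Set G))))}
  {y : Subgroup.centralizer ({u} : Set G)}
  {W : Subgroup (Equiv.Perm (pts Ω z (Subgroup.centralizer ({u} : Set G))))}

set_option quotPrecheck false in
local notation "Hu" => Subgroup.centralizer ({u} : Set G)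

/-- a 2-element of `C(u)` fixing all fixed points of `u` is `1` or `u` -/
theorem kappa [Finite G] (D : UD Ω z V k u a b Q y W) (c : Ctx Ω z V k) {g : G} (hg : TwoElt g)
    (hgu : Commute g u) (hfix : ∀ p : Ω, u • p = p → g • p = p) : g = 1 ∨ g = u := by
  obtain ⟨F, hF, hgF, huF, hle⟩ := exists_two_group hg (TwoElt.of_mul_self D.bad.mul_self) hgu
  by_cases h1 : g = 1
  · exact Or.inl h1
  right
  have h2 := D.T1 c hF (by
    intro f hf p hp
    have h3 : F ≤ MulAction.stabilizer G p := hle _ (hfix p hp) hp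
    exact h3 hf) g hgF u huF h1 D.bad.ne_one
  rw [← D.bad.inv_eq]
  exact eq_inv_of_mul_eq_one_left h2

theorem exists_hat [Finite G] (D : UD Ω z V k u a b Q y W) (c : Ctx Ω z V k) :
    ∃ P : Subgroup G, HatD Ω z V u a Q P := by
  have hap : a ∈ pts Ω z Hu := (c.mem_pts_u D.bad).mpr D.fa
  have hbp : b ∈ pts Ω z Hu := (c.mem_pts_u D.bad).mpr D.fb
  obtain ⟨Pu, hP⟩ := D.L.exists_P c.setup c.mem_V D.ne hap hbp
  have huu := D.bad.mul_self
  have hPH : ∀ g ∈ Pu, g ∈ Hu := fun g hg => ((hP.mem g).mp hg).1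
  have hcu : ∀ g ∈ Pu, Commute u g := fun g hg => (mem_cen.mp (hPH g hg)).symm
  have huH : u ∈ Hu := mem_cen.mpr (Commute.refl u)
  have hrhou : rho Ω z Hu ⟨u, huH⟩ = 1 :=
    (rho_eq_one_iff _).mpr (fun p hp => (c.mem_pts_u D.bad).mp hp)
  have hPV : ∀ g ∈ Pu, ∀ v ∈ V a, Commute g v := by
    intro g hg v hv
    obtain ⟨hgH, hgD, hga, hg2, hgQ⟩ := (hP.mem g).mp hg
    have hvH : v ∈ Hu := c.V_le_u D.bad D.fa hv
    have h1 := D.L.qe.central _ (mem_E (x := ⟨v, hvH⟩) hv) _ hgQ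
    have h2 : rho Ω z Hu (⟨g, hgH⟩ * ⟨v, hvH⟩ * ⟨g, hgH⟩⁻¹ * ⟨v, hvH⟩⁻¹) = 1 := by
      rw [map_mul, map_mul, map_mul, map_inv, map_inv, h1.eq.symm]; group
    have h3 : ((⟨g, hgH⟩ * ⟨v, hvH⟩ * ⟨g, hgH⟩⁻¹ * ⟨v, hvH⟩⁻¹ : Hu) : G) ∈ V a :=
      mul_mem (c.conj_V' hga hv) (inv_mem hv)
    have h4 := congrArg Subtype.val (c.injV D.ne hbp h3 h2)
    have h5 : g * v * g⁻¹ * v⁻¹ = 1 := h4
    show g * v = v * g
    rw [mul_inv_eq_one] at h5
    exact mul_inv_eq_iff_eq_mul.mp h5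
  -- the group `P_u ∪ u P_u`
  let P : Subgroup G :=
    { carrier := {g | g ∈ Pu ∨ u * g ∈ Pu}
      mul_mem' := by
        rintro g h (hg | hg) (hh | hh)
        · exact Or.inl (mul_mem hg hh)
        · right
          have h1 : u * (g * h) = g * (u * h) := by
            rw [← mul_assoc, (hcu g hg).eq, mul_assoc]
          rw [h1]; exact mul_mem hg hh
        · right
          rw [← mul_assoc]; exact mul_mem hg hh
        · left
          have h1 : g * h = (u * g) * (u * h) := by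
            have h2 := (hcu _ hg).eq
            calc g * h = (u * u) * g * h := by rw [huu, one_mul]
              _ = (u * (u * g)) * h := by group
              _ = ((u * g) * u) * h := by rw [h2]
              _ = _ := by group
          rw [h1]; exact mul_mem hg hh
      one_mem' := Or.inl (one_mem _)
      inv_mem' := by
        rintro g (hg | hg)
        · exact Or.inl (inv_mem hg)
        · right
          have h2 := (hcu _ hg).eq
          have h1 : u * g⁻¹ = (u * g)⁻¹ := by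
            have h3 : g * u⁻¹ = u * g := by
              rw [D.bad.inv_eq]
              calc g * u = (u * u) * g * u := by rw [huu, one_mul]
                _ = u * ((u * g) * u) := by group
                _ = u * (u * (u * g)) := by rw [h2]
                _ = (u * u) * (u * g) := by group
                _ = u * g := by rw [huu, one_mul]
            rw [← h3]; group
          rw [h1]; exact inv_mem hg }
  have hmemP : ∀ g, g ∈ P ↔ g ∈ Pu ∨ u * g ∈ Pu := fun g => Iff.rfl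
  have hmem : ∀ g : G, g ∈ P ↔ ∃ hg : g ∈ Hu, g • a = a ∧ TwoElt g ∧
      rho Ω z Hu ⟨g, hg⟩ ∈ Q := by
    intro g
    rw [hmemP]
    constructor
    · rintro (hg | hg)
      · obtain ⟨hgH, hgD, hga, hg2, hgQ⟩ := (hP.mem g).mp hg
        exact ⟨hgH, hga, hg2, hgQ⟩
      · obtain ⟨hgH, hgD, hga, hg2, hgQ⟩ := (hP.mem _).mp hg
        have h1 : g = u * (u * g) := by rw [← mul_assoc, huu, one_mul]
        have h2 : g ∈ Hu := by rw [h1]; exact mul_mem huH hgH
        refine ⟨h2, ?_, ?_, ?_⟩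
        · rw [h1, mul_smul, hga, D.fa]
        · rw [h1]
          exact (TwoElt.of_mul_self huu).mul hg2 (hcu _ hg)
        · have h3 : rho Ω z Hu (⟨u, huH⟩ * ⟨g, h2⟩) ∈ Q := hgQ
          rw [map_mul, hrhou, one_mul] at h3
          exact h3
    · rintro ⟨hgH, hga, hg2, hgQ⟩
      obtain ⟨p, hp, hpg⟩ := hP.surj _ hgQ
      obtain ⟨hpH, hpD, hpa, hp2, hpQ⟩ := (hP.mem _).mp hp
      have h1 : rho Ω z Hu (p⁻¹ * ⟨g, hgH⟩) = 1 := by rw [map_mul, map_inv, hpg, inv_mul_cancel]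
      have h2 : ∀ q : Ω, u • q = q → ((p : G)⁻¹ * g) • q = q := fun q hq =>
        (rho_eq_one_iff _).mp h1 q ((c.mem_pts_u D.bad).mpr hq)
      have h3 : Commute ((p : G)⁻¹ * g) p := D.commute_of_fix c h2 hpD
      have h4 : Commute (p : G) g := by
        have h5 : Commute g (p : G) := by
          have h6 : g = p * ((p : G)⁻¹ * g) := by group
          rw [h6]; exact (Commute.refl (p : G)).mul_left h3
        exact h5.symm
      have h5 : TwoElt ((p : G)⁻¹ * g) := hp2.inv.mul hg2 h4.inv_left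
      have h6 : Commute ((p : G)⁻¹ * g) u :=
        (mem_cen.mp (mul_mem (inv_mem hpH) hgH))
      rcases D.kappa c h5 h6 h2 with h7 | h7
      · left
        rw [← inv_mul_eq_one.mp h7]; exact hp
      · right
        have h8 : g = p * u := inv_mul_eq_iff_eq_mul.mp h7
        rw [h8, (mem_cen.mp hpH).eq, ← mul_assoc, huu, one_mul]
        exact hp
  refine ⟨P, hmem, ?_, ?_, ?_, ?_, ?_, ?_⟩
  · intro x hx
    obtain ⟨p, hp, hpx⟩ := hP.surj x hx
    exact ⟨p, Or.inl hp, hpx⟩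
  · rintro g (hg | hg) v hv
    · exact hPV g hg v hv
    · have h1 : g = u * (u * g) := by rw [← mul_assoc, huu, one_mul]
      rw [h1]
      exact (c.bad u a D.bad D.fa v hv).mul_left (hPV _ hg v hv)
  · intro g hg h1
    obtain ⟨-, -, hg2, -⟩ := (hmem _).mp hg
    exact D.kappa c hg2 (mem_cen.mp g.2)
      (fun p hp => (rho_eq_one_iff g).mp h1 p ((c.mem_pts_u D.bad).mpr hp))
  · exact isPGroup_of_twoElt (fun g hg => ((hmem g).mp hg).2.2.1)
  · right
    rw [huu]; exact one_mem _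
  · intro v hv
    refine Or.inl ((hP.mem v).mpr ⟨c.V_le_u D.bad D.fa hv, c.V_le_DCl (c.V_le_u D.bad D.fa) hv,
      c.fix_V hv, TwoElt.of_mul_self (c.sq_V hv), ?_⟩)
    exact D.L.qe.le (mem_E (x := ⟨v, c.V_le_u D.bad D.fa hv⟩) hv)

end UD

end Cfsg.Agent.AschCrit.CommFive
end

-- part: AschCrit/CommFive/HatA
section
/-!
# Aschbacher's criterion, commutative case (C5): the groups `A` and `P`

* `AD`, `UD.exists_A` : the abelian group `A ≤ P_U` of order `q²` inverted by `u`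
* `UD.hat_conj` : `A` normalises `P̂`
* `UD.exists_AP` : the group `P = C_{P̂}(A)` of order `q³`
-/

set_option autoImplicit false

namespace Cfsg.Agent.AschCrit.CommFive

open Cfsg.Agent.TwoFusion.StronglyEmbeddedBasic Cfsg.Agent.AschCrit.Basic
open Cfsg.Agent.AschCrit.Basic.Setup Cfsg.Agent.AschCrit.Closed Cfsg.Agent.AschCrit.Descent
open Cfsg.Agent.AschCrit.NonIso

variable {G Ω : Type*} [Group G] [MulAction G Ω] {z : G} {V : Ω → Subgroup G} {k : ℕ}

/-- the abelian group `A` inverted by `u` -/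
structure AD (Ω : Type*) [MulAction G Ω] (V : Ω → Subgroup G) (k : ℕ) (u : G) (a : Ω) (y : G)
    (A : Subgroup G) : Prop where
  two : IsPGroup 2 A
  V_le : V a ≤ A
  card : Nat.card A = (2 ^ k) ^ 2
  sq : ∀ x ∈ A, x * x ∈ V a
  inv : ∀ x ∈ A, x * x = 1 → x ∈ V a
  fa : ∀ x ∈ A, x • a = a
  cy : ∀ x ∈ A, Commute x y
  cV : ∀ x ∈ A, ∀ v ∈ V a, Commute x v
  cu : ∀ x ∈ A, Commute u x → x ∈ V a
  conj_u : ∀ x ∈ A, x * u * x⁻¹ = x * x * u
  comm : ∀ x ∈ A, ∀ x' ∈ A, Commute x x'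
  norm : ∀ g : G, Commute g y → Commute g u → g • a = a → ∀ x ∈ A, g * x * g⁻¹ ∈ A

namespace UD

variable {u : G} {a b : Ω}
  {Q : Subgroup (Equiv.Perm (pts Ω z (Subgroup.centralizer ({u} : Set G))))}
  {y : Subgroup.centralizer ({u} : Set G)}
  {W : Subgroup (Equiv.Perm (pts Ω z (Subgroup.centralizer ({u} : Set G))))}

set_option quotPrecheck false in
local notation "Hu" => Subgroup.centralizer ({u} : Set G)

theorem exists_A [Finite G] (D : UD Ω z V k u a b Q y W) (c : Ctx Ω z V k) :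
    ∃ A : Subgroup G, AD Ω V k u a (y : G) A := by
  obtain ⟨PU, hPU⟩ := D.exists_PU c
  have huV : ∀ v ∈ V a, Commute u v := fun v hv => c.bad u a D.bad D.fa v hv
  have huu := D.bad.mul_self
  obtain ⟨A, hA, hcard, hinv, -⟩ := hPU.qe.inv_struct (t := u)
    (fun x hx => hPU.norm u (commute_y y).symm D.fa x hx) huV
    (fun x _ => by rw [huu]; exact Commute.one_left x) hPU.cu
  have hAP : ∀ x ∈ A, x ∈ PU := fun x hx => ((hA x).mp hx).1
  refine ⟨A, ?_, ?_, hcard, fun x hx => hPU.qe.sq x (hAP x hx),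
    fun x hx => hPU.qe.inv x (hAP x hx), fun x hx => hPU.fa x (hAP x hx),
    fun x hx => hPU.cy x (hAP x hx), ?_, fun x hx => hPU.cu x (hAP x hx), ?_, ?_, ?_⟩
  · exact hPU.two.to_le hAP
  · intro v hv
    refine (hA v).mpr ⟨hPU.qe.le hv, ?_⟩
    rw [(huV v hv).eq, mul_inv_cancel_right, inv_mul_cancel]
    exact one_mem _
  · exact fun x hx v hv => (hPU.qe.central v hv x (hAP x hx)).symm
  · intro x hx
    have h1 := hinv x⁻¹ (inv_mem hx)
    rw [inv_inv] at h1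
    have h2 : u * x⁻¹ = x * u := mul_inv_eq_iff_eq_mul.mp h1
    rw [mul_assoc x u, h2, mul_assoc]
  · intro x hx x' hx'
    have h1 := hinv _ (mul_mem hx hx')
    have h2 : u * (x * x') * u⁻¹ = (u * x * u⁻¹) * (u * x' * u⁻¹) := by group
    rw [h2, hinv x hx, hinv x' hx'] at h1
    have h3 : (x' * x)⁻¹ = (x * x')⁻¹ := by rw [← h1]; group
    exact (inv_injective h3).symm
  · intro g hgy hgu hga x hx
    obtain ⟨h1, h2⟩ := (hA x).mp hx
    refine (hA _).mpr ⟨hPU.norm g hgy hga x h1, ?_⟩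
    have h3 : (g * x * g⁻¹)⁻¹ * (u * (g * x * g⁻¹) * u⁻¹) =
        g * (x⁻¹ * (u * x * u⁻¹)) * g⁻¹ := by
      have h4 : u * g = g * u := hgu.symm.eq
      have h5 : g⁻¹ * u⁻¹ = u⁻¹ * g⁻¹ := by rw [← mul_inv_rev, ← mul_inv_rev, h4]
      calc (g * x * g⁻¹)⁻¹ * (u * (g * x * g⁻¹) * u⁻¹)
          = g * x⁻¹ * g⁻¹ * ((u * g) * x * (g⁻¹ * u⁻¹)) := by group
        _ = g * x⁻¹ * g⁻¹ * ((g * u) * x * (u⁻¹ * g⁻¹)) := by rw [h4, h5]
        _ = _ := by group
    rw [h3]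
    exact c.conj_V' hga h2

/-- elements of `C(u)_a` normalise `P̂` -/
theorem hat_norm (D : UD Ω z V k u a b Q y W) {P : Subgroup G} (hP : HatD Ω z V u a Q P) {g : G}
    (hgu : Commute g u) (hga : g • a = a) {x : G} (hx : x ∈ P) : g * x * g⁻¹ ∈ P := by
  obtain ⟨hxH, hxa, hx2, hxQ⟩ := (hP.mem x).mp hx
  have hgH : g ∈ Hu := mem_cen.mpr hgu
  refine (hP.mem _).mpr ⟨mul_mem (mul_mem hgH hxH) (inv_mem hgH), ?_, hx2.conj g, ?_⟩
  · have h1 : g⁻¹ • a = a := by rw [inv_smul_eq_iff, hga]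
    rw [mul_smul, mul_smul, h1, hxa, hga]
  · have h1 := D.L.norm ⟨g, hgH⟩ hga _ hxQ
    rw [← map_inv, ← map_mul, ← map_mul] at h1
    exact h1

/-- commutators with `y` of 2-power order induce elements of `Q` -/
theorem comm_mem_Q (D : UD Ω z V k u a b Q y W) (c : Ctx Ω z V k)
    {g : Hu} (hga : (g : G) • a = a) (h2 : TwoElt ((g * y * g⁻¹ * y⁻¹ : Hu) : G)) :
    rho Ω z Hu (g * y * g⁻¹ * y⁻¹) ∈ Q := by
  have hap : a ∈ pts Ω z Hu := (c.mem_pts_u D.bad).mpr D.fa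
  have hbp : b ∈ pts Ω z Hu := (c.mem_pts_u D.bad).mpr D.fb
  have hgb : (g : G) • b ∈ pts Ω z Hu := (pts Ω z Hu).smul_mem g hbp
  have hgba : (g : G) • b ≠ a := fun hh => D.ne (smul_left_cancel (g : G) (hga.trans hh.symm))
  obtain ⟨x, hxQ, hxb⟩ := D.L.trans b hbp _ hgb (Ne.symm D.ne) hgba
  have hxa := D.L.fix_a hap hxQ
  set n : Hu := x⁻¹ * g with hn
  have hna : (n : G) • a = a := by
    show ((x : G)⁻¹ * g) • a = a
    rw [mul_smul, hga, inv_smul_eq_iff, hxa]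
  have hnb : (n : G) • b = b := by
    show ((x : G)⁻¹ * g) • b = b
    rw [mul_smul, ← hxb, inv_smul_smul]
  have hw := D.Y.conj_W n hna hnb _ D.Y.mem_W
  set w := rho Ω z Hu n * rho Ω z Hu y * (rho Ω z Hu n)⁻¹ with hwdef
  have h3 : rho Ω z Hu (g * y * g⁻¹ * y⁻¹) =
      (rho Ω z Hu x * (w * (rho Ω z Hu x)⁻¹ * w⁻¹)) * (w * (rho Ω z Hu y)⁻¹) := by
    have h4 : rho Ω z Hu g = rho Ω z Hu x * rho Ω z Hu n := by
      rw [← map_mul, hn, mul_inv_cancel_left]
    simp only [map_mul, map_mul, map_mul, map_inv, map_inv, h4, hwdef]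
    group
  rw [h3]
  refine mem_of_twoElt_mul D.L.isPGroup D.Y.odd_W D.Y.norm_W
    (mul_mem hxQ (D.Y.norm_W _ hw _ (inv_mem hxQ))) (mul_mem hw (inv_mem D.Y.mem_W)) ?_
  rw [← h3]
  exact (TwoElt.coe.mp h2).map _

/-- decomposition of the elements of `P̂` -/
theorem hat_decomp (D : UD Ω z V k u a b Q y W) {P : Subgroup G}
    (hP : HatD Ω z V u a Q P) {g : G} (hg : g ∈ P) : ∃ h ∈ P, ∃ v ∈ V a,
      g = h⁻¹ * ((y : G) * h * (y : G)⁻¹) * v ∨ g = h⁻¹ * ((y : G) * h * (y : G)⁻¹) * v * u := by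
  obtain ⟨hgH, hga, hg2, hgQ⟩ := (hP.mem g).mp hg
  obtain ⟨x, hxQ, e, he, hxe⟩ := D.L.qe.exists_comm D.Y.ye hgQ
  obtain ⟨h, hh, hhx⟩ := hP.surj x hxQ
  obtain ⟨v, hv, hve⟩ := exists_of_mem_E he
  have hm : (h : G)⁻¹ * ((y : G) * h * (y : G)⁻¹) * v ∈ P :=
    mul_mem (mul_mem (inv_mem hh) (D.hat_norm hP (commute_y y) D.Y.fix_a hh)) (hP.V_le hv)
  have h1 : rho Ω z Hu ((h⁻¹ * (y * h * y⁻¹) * v)⁻¹ * ⟨g, hgH⟩) = 1 := by
    rw [map_mul, map_inv, hxe, inv_mul_eq_one]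
    simp only [map_mul, map_inv, hhx, hve]
  refine ⟨h, hh, v, hv, ?_⟩
  rcases hP.ker ((h⁻¹ * (y * h * y⁻¹) * v)⁻¹ * ⟨g, hgH⟩) (mul_mem (inv_mem hm) hg) h1 with h2 | h2
  · left
    exact (inv_mul_eq_one.mp h2).symm
  · right
    exact (inv_mul_eq_iff_eq_mul.mp h2)

/-- `A` normalises `P̂` -/
theorem hat_conj [Finite G] (D : UD Ω z V k u a b Q y W) (c : Ctx Ω z V k) {P A : Subgroup G}
    (hP : HatD Ω z V u a Q P) (hA : AD Ω V k u a (y : G) A) {x g : G} (hx : x ∈ A) (hg : g ∈ P) :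
    x * g * x⁻¹ ∈ P := by
  have huH : u ∈ Hu := mem_cen.mpr (Commute.refl u)
  have hrhou : rho Ω z Hu ⟨u, huH⟩ = 1 :=
    (rho_eq_one_iff _).mpr (fun p hp => (c.mem_pts_u D.bad).mp hp)
  have hxa := hA.fa x hx
  have hxa' : x⁻¹ • a = a := by rw [inv_smul_eq_iff, hxa]
  have hxy := (hA.cy x hx).eq
  -- conjugates are in `C(u)_a`
  have key : ∀ g ∈ P, Commute (x * g * x⁻¹) u ∧ (x * g * x⁻¹) • a = a ∧
      TwoElt (x * g * x⁻¹) := by
    intro g hg
    obtain ⟨hgH, hga, hg2, hgQ⟩ := (hP.mem g).mp hg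
    refine ⟨?_, ?_, hg2.conj x⟩
    · have h1 : Commute (x * g * x⁻¹) (x * u * x⁻¹) := by
        have h2 := (mem_cen.mp hgH).eq
        show x * g * x⁻¹ * (x * u * x⁻¹) = x * u * x⁻¹ * (x * g * x⁻¹)
        calc x * g * x⁻¹ * (x * u * x⁻¹) = x * (g * u) * x⁻¹ := by group
          _ = x * (u * g) * x⁻¹ := by rw [h2]
          _ = _ := by group
      have h2 : Commute (x * g * x⁻¹) (x * x) := by
        have h3 := (hP.comm g hg _ (hA.sq x hx)).eq
        show x * g * x⁻¹ * (x * x) = x * x * (x * g * x⁻¹)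
        calc x * g * x⁻¹ * (x * x) = x * (g * (x * x)) * x⁻¹ := by group
          _ = x * ((x * x) * g) * x⁻¹ := by rw [h3]
          _ = _ := by group
      rw [hA.conj_u x hx] at h1
      have h3 := h2.inv_right.mul_right h1
      rwa [inv_mul_cancel_left] at h3
    · rw [mul_smul, mul_smul, hxa', hga, hxa]
  -- the commutators with `y`
  have hcom : ∀ h ∈ P, ∀ hm : x * (h⁻¹ * ((y : G) * h * (y : G)⁻¹)) * x⁻¹ ∈ Hu,
      rho Ω z Hu ⟨x * (h⁻¹ * ((y : G) * h * (y : G)⁻¹)) * x⁻¹, hm⟩ ∈ Q := by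
    intro h hh hm
    obtain ⟨h1, h2, h3⟩ := key h⁻¹ (inv_mem hh)
    have h4 : x * (h⁻¹ * ((y : G) * h * (y : G)⁻¹)) * x⁻¹ =
        x * h⁻¹ * x⁻¹ * (y : G) * (x * h⁻¹ * x⁻¹)⁻¹ * (y : G)⁻¹ := by
      have h5 : (y : G)⁻¹ * x⁻¹ = x⁻¹ * (y : G)⁻¹ := by rw [← mul_inv_rev, ← mul_inv_rev, hxy]
      calc x * (h⁻¹ * ((y : G) * h * (y : G)⁻¹)) * x⁻¹
          = x * h⁻¹ * (y : G) * h * ((y : G)⁻¹ * x⁻¹) := by group
        _ = x * h⁻¹ * (x⁻¹ * (x * (y : G))) * h * (x⁻¹ * (y : G)⁻¹) := by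
            rw [h5, inv_mul_cancel_left]
        _ = x * h⁻¹ * (x⁻¹ * ((y : G) * x)) * h * (x⁻¹ * (y : G)⁻¹) := by rw [hxy]
        _ = _ := by group
    have h6 := D.comm_mem_Q c (g := ⟨x * h⁻¹ * x⁻¹, mem_cen.mpr h1⟩) h2 (by
      have h7 : TwoElt (x * (h⁻¹ * ((y : G) * h * (y : G)⁻¹)) * x⁻¹) :=
        (TwoElt.of_mem hP.two (mul_mem (inv_mem hh)
          (D.hat_norm hP (commute_y y) D.Y.fix_a hh))).conj x
      rw [h4] at h7
      exact h7)
    have h8 : (⟨x * (h⁻¹ * ((y : G) * h * (y : G)⁻¹)) * x⁻¹, hm⟩ : Hu) =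
        ⟨x * h⁻¹ * x⁻¹, mem_cen.mpr h1⟩ * y * (⟨x * h⁻¹ * x⁻¹, mem_cen.mpr h1⟩)⁻¹ * y⁻¹ :=
      Subtype.ext h4
    rw [h8]; exact h6
  obtain ⟨h1, h2, h3⟩ := key g hg
  refine (hP.mem _).mpr ⟨mem_cen.mpr h1, h2, h3, ?_⟩
  obtain ⟨h, hh, v, hv, hgv⟩ := D.hat_decomp hP hg
  have hm : x * (h⁻¹ * ((y : G) * h * (y : G)⁻¹)) * x⁻¹ ∈ Hu := mem_cen.mpr
    (key _ (mul_mem (inv_mem hh) (D.hat_norm hP (commute_y y) D.Y.fix_a hh))).1
  have hvH : v ∈ Hu := c.V_le_u D.bad D.fa hv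
  have hvQ : rho Ω z Hu ⟨v, hvH⟩ ∈ Q := D.L.qe.le (mem_E (x := ⟨v, hvH⟩) hv)
  have hxv := (hA.cV x hx v hv).eq
  rcases hgv with hgv | hgv
  · have h4 : (⟨x * g * x⁻¹, mem_cen.mpr h1⟩ : Hu) =
        ⟨x * (h⁻¹ * ((y : G) * h * (y : G)⁻¹)) * x⁻¹, hm⟩ * ⟨v, hvH⟩ := by
      apply Subtype.ext
      show x * g * x⁻¹ = x * (h⁻¹ * ((y : G) * h * (y : G)⁻¹)) * x⁻¹ * v
      have h5 : x⁻¹ * v = v * x⁻¹ := ((hA.cV x hx v hv).inv_left).eq
      rw [hgv, mul_assoc (x * (h⁻¹ * ((y : G) * h * (y : G)⁻¹))) x⁻¹ v, h5]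
      group
    rw [h4, map_mul]
    exact mul_mem (hcom h hh hm) hvQ
  · have hxxH : x * x ∈ Hu := c.V_le_u D.bad D.fa (hA.sq x hx)
    have hxxQ : rho Ω z Hu ⟨x * x, hxxH⟩ ∈ Q := D.L.qe.le (mem_E (x := ⟨x * x, hxxH⟩) (hA.sq x hx))
    have h4 : (⟨x * g * x⁻¹, mem_cen.mpr h1⟩ : Hu) =
        ⟨x * (h⁻¹ * ((y : G) * h * (y : G)⁻¹)) * x⁻¹, hm⟩ * ⟨v, hvH⟩ * ⟨x * x, hxxH⟩ *
          ⟨u, huH⟩ := by
      apply Subtype.ext
      show x * g * x⁻¹ = x * (h⁻¹ * ((y : G) * h * (y : G)⁻¹)) * x⁻¹ * v * (x * x) * u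
      have h5 : x⁻¹ * v = v * x⁻¹ := ((hA.cV x hx v hv).inv_left).eq
      calc x * g * x⁻¹ = x * (h⁻¹ * ((y : G) * h * (y : G)⁻¹)) * (v * x⁻¹) * (x * u * x⁻¹) := by
            rw [hgv]; group
        _ = x * (h⁻¹ * ((y : G) * h * (y : G)⁻¹)) * (x⁻¹ * v) * (x * x * u) := by
            rw [h5, hA.conj_u x hx]
        _ = _ := by group
    rw [h4, map_mul, map_mul, map_mul, hrhou, mul_one]
    exact mul_mem (mul_mem (hcom h hh hm) hvQ) hxxQ

end UD

end Cfsg.Agent.AschCrit.CommFive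
end

-- part: AschCrit/CommFive/HatP
section
/-!
# Aschbacher's criterion, commutative case (C5): the group `P`

`UD.exists_AP` : the abelian group `A` of order `q²` and the group `P` of order `q³` commuting with it.
-/

set_option autoImplicit false

namespace Cfsg.Agent.AschCrit.CommFive

open Cfsg.Agent.TwoFusion.StronglyEmbeddedBasic Cfsg.Agent.AschCrit.Basic
open Cfsg.Agent.AschCrit.Basic.Setup Cfsg.Agent.AschCrit.Closed Cfsg.Agent.AschCrit.Descent
open Cfsg.Agent.AschCrit.NonIso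

variable {G Ω : Type*} [Group G] [MulAction G Ω] {z : G} {V : Ω → Subgroup G} {k : ℕ}

/-- `N = V_a × ⟨u⟩` -/
structure ND (V : Ω → Subgroup G) (u : G) (a : Ω) (N : Subgroup G) : Prop where
  mem : ∀ n : G, n ∈ N ↔ n ∈ V a ∨ u * n ∈ V a

namespace UD

variable {u : G} {a b : Ω}
  {Q : Subgroup (Equiv.Perm (pts Ω z (Subgroup.centralizer ({u} : Set G))))}
  {y : Subgroup.centralizer ({u} : Set G)}
  {W : Subgroup (Equiv.Perm (pts Ω z (Subgroup.centralizer ({u} : Set G))))}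

set_option quotPrecheck false in
local notation "Hu" => Subgroup.centralizer ({u} : Set G)

theorem exists_N (D : UD Ω z V k u a b Q y W) (c : Ctx Ω z V k) : ∃ N, ND V u a N := by
  have huu := D.bad.mul_self
  have huV : ∀ v ∈ V a, Commute u v := fun v hv => c.bad u a D.bad D.fa v hv
  refine ⟨{ carrier := {n | n ∈ V a ∨ u * n ∈ V a}
            mul_mem' := ?_
            one_mem' := Or.inl (one_mem _)
            inv_mem' := ?_ }, ⟨fun n => Iff.rfl⟩⟩
  · rintro g h (hg | hg) (hh | hh)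
    · exact Or.inl (mul_mem hg hh)
    · right
      have h1 : u * (g * h) = g * (u * h) := by
        rw [← mul_assoc, (huV g hg).eq, mul_assoc]
      rw [h1]; exact mul_mem hg hh
    · right
      rw [← mul_assoc]; exact mul_mem hg hh
    · left
      have h1 : g * h = (u * g) * (u * h) := by
        have h2 := (huV _ hg).eq
        calc g * h = (u * u) * g * h := by rw [huu, one_mul]
          _ = (u * (u * g)) * h := by group
          _ = ((u * g) * u) * h := by rw [h2]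
          _ = _ := by group
      rw [h1]; exact mul_mem hg hh
  · rintro g (hg | hg)
    · exact Or.inl (inv_mem hg)
    · right
      have h2 := (huV _ hg).eq
      have h1 : u * g⁻¹ = (u * g)⁻¹ := by
        have h3 : g * u⁻¹ = u * g := by
          rw [D.bad.inv_eq]
          calc g * u = (u * u) * g * u := by rw [huu, one_mul]
            _ = u * ((u * g) * u) := by group
            _ = u * (u * (u * g)) := by rw [h2]
            _ = (u * u) * (u * g) := by group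
            _ = u * g := by rw [huu, one_mul]
        rw [← h3]; group
      rw [h1]; exact inv_mem hg

theorem N_cases (D : UD Ω z V k u a b Q y W) {N : Subgroup G} (hN : ND V u a N) {n : G}
    (hn : n ∈ N) : n ∈ V a ∨ ∃ v ∈ V a, n = u * v := by
  rcases (hN.mem n).mp hn with h | h
  · exact Or.inl h
  · exact Or.inr ⟨u * n, h, by rw [← mul_assoc, D.bad.mul_self, one_mul]⟩

theorem N_le (D : UD Ω z V k u a b Q y W) {N P : Subgroup G} (hN : ND V u a N)
    (hP : HatD Ω z V u a Q P) : N ≤ P := by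
  intro n hn
  rcases D.N_cases hN hn with h | ⟨v, hv, rfl⟩
  · exact hP.V_le h
  · exact mul_mem hP.u_mem (hP.V_le hv)

omit [MulAction G Ω] in
theorem V_le_N {N : Subgroup G} (hN : ND V u a N) : V a ≤ N := fun v hv =>
  (hN.mem v).mpr (Or.inl hv)

theorem u_mem_N (D : UD Ω z V k u a b Q y W) {N : Subgroup G} (hN : ND V u a N) : u ∈ N :=
  (hN.mem u).mpr (Or.inr (by rw [D.bad.mul_self]; exact one_mem _))

theorem N_comm (D : UD Ω z V k u a b Q y W) {N P : Subgroup G} (hN : ND V u a N)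
    (hP : HatD Ω z V u a Q P) {n g : G} (hn : n ∈ N) (hg : g ∈ P) : Commute n g := by
  obtain ⟨hgH, -⟩ := (hP.mem g).mp hg
  rcases D.N_cases hN hn with h | ⟨v, hv, rfl⟩
  · exact (hP.comm g hg n h).symm
  · exact (mem_cen.mp hgH).symm.mul_left (hP.comm g hg v hv).symm

theorem N_sq (D : UD Ω z V k u a b Q y W) (c : Ctx Ω z V k) {N : Subgroup G} (hN : ND V u a N)
    {n : G} (hn : n ∈ N) : n * n = 1 := by
  rcases D.N_cases hN hn with h | ⟨v, hv, rfl⟩
  · exact c.sq_V h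
  · rw [(c.bad u a D.bad D.fa v hv).symm.mul_mul_mul_comm, D.bad.mul_self, c.sq_V hv, one_mul]

theorem N_conj (D : UD Ω z V k u a b Q y W) (c : Ctx Ω z V k) {N : Subgroup G}
    (hN : ND V u a N) {g : G} (hgu : Commute g u) (hga : g • a = a) {n : G} (hn : n ∈ N) :
    g * n * g⁻¹ ∈ N := by
  rcases D.N_cases hN hn with h | ⟨v, hv, rfl⟩
  · exact (hN.mem _).mpr (Or.inl (c.conj_V' hga h))
  · have h1 : g * (u * v) * g⁻¹ = u * (g * v * g⁻¹) := by
      rw [← mul_assoc, hgu.eq]; group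
    rw [h1]
    exact mul_mem (D.u_mem_N hN) (V_le_N hN (c.conj_V' hga hv))

theorem N_conj_A (D : UD Ω z V k u a b Q y W) {N A : Subgroup G}
    (hN : ND V u a N) (hA : AD Ω V k u a (y : G) A) {x : G} (hx : x ∈ A) {n : G} (hn : n ∈ N) :
    x * n * x⁻¹ ∈ N := by
  have key : ∀ v ∈ V a, x * v * x⁻¹ = v := by
    intro v hv
    rw [(hA.cV x hx v hv).eq, mul_inv_cancel_right]
  rcases D.N_cases hN hn with h | ⟨v, hv, rfl⟩
  · rw [key n h]; exact hn
  · have h1 : x * (u * v) * x⁻¹ = (x * u * x⁻¹) * (x * v * x⁻¹) := by group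
    rw [h1, key v hv, hA.conj_u x hx]
    exact mul_mem (mul_mem (V_le_N hN (hA.sq x hx)) (D.u_mem_N hN)) (V_le_N hN hv)

/-- `[P̂, A] ≤ N` -/
theorem hat_comm [Finite G] (D : UD Ω z V k u a b Q y W) (c : Ctx Ω z V k) {P A N : Subgroup G}
    (hP : HatD Ω z V u a Q P) (hA : AD Ω V k u a (y : G) A) (hN : ND V u a N) :
    ∀ g ∈ P, ∀ x ∈ A, g⁻¹ * (x * g * x⁻¹) ∈ N := by
  have huH : u ∈ Hu := mem_cen.mpr (Commute.refl u)
  have hrhou : rho Ω z Hu ⟨u, huH⟩ = 1 :=
    (rho_eq_one_iff _).mpr (fun p hp => (c.mem_pts_u D.bad).mp hp)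
  have hPH : ∀ g ∈ P, g ∈ Hu := fun g hg => ((hP.mem g).mp hg).1
  have hPQ : ∀ g : Hu, (g : G) ∈ P → rho Ω z Hu g ∈ Q := fun g hg => ((hP.mem g).mp hg).2.2.2
  -- elements of `P̂` inducing elements of `E`
  have hlift : ∀ g : Hu, (g : G) ∈ P → rho Ω z Hu g ∈ ((V a).subgroupOf Hu).map (rho Ω z Hu) →
      (g : G) ∈ N := by
    intro g hg h1
    obtain ⟨v, hv, hvg⟩ := exists_of_mem_E h1
    have h2 : rho Ω z Hu (v⁻¹ * g) = 1 := by rw [map_mul, map_inv, hvg, inv_mul_cancel]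
    rcases hP.ker (v⁻¹ * g) (mul_mem (inv_mem (hP.V_le hv)) hg) h2 with h3 | h3
    · have h4 : (v : G) = g := inv_mul_eq_one.mp h3
      rw [← h4]; exact V_le_N hN hv
    · have h4 : (g : G) = v * u := inv_mul_eq_iff_eq_mul.mp h3
      rw [h4]; exact mul_mem (V_le_N hN hv) (D.u_mem_N hN)
  -- a common element
  have hne : N ≠ P := by
    intro heq
    have h1 : Q ≤ ((V a).subgroupOf Hu).map (rho Ω z Hu) := by
      intro x hx
      obtain ⟨g, hg, rfl⟩ := hP.surj x hx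
      rw [← heq] at hg
      rcases D.N_cases hN hg with h | ⟨v, hv, hgv⟩
      · exact mem_E h
      · have h2 : g = ⟨u, huH⟩ * ⟨v, c.V_le_u D.bad D.fa hv⟩ := Subtype.ext hgv
        rw [h2, map_mul, hrhou, one_mul]
        exact mem_E (x := ⟨v, c.V_le_u D.bad D.fa hv⟩) hv
    have hfQ : Finite Q := D.L.qe.fin
    have h2 : Nat.card Q ≤ Nat.card (((V a).subgroupOf Hu).map (rho Ω z Hu)) := by
      have : Finite (((V a).subgroupOf Hu).map (rho Ω z Hu)) :=
        Finite.of_injective _ (Subgroup.inclusion_injective D.L.qe.le)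
      exact Nat.card_le_card_of_injective _ (Subgroup.inclusion_injective h1)
    rw [D.L.qe.card_Q, D.L.qe.card_E] at h2
    have h3 := c.two_le_q
    have h4 : 2 ^ k < (2 ^ k) ^ 3 := by
      calc 2 ^ k = (2 ^ k) ^ 1 := (pow_one _).symm
        _ < (2 ^ k) ^ 3 := Nat.pow_lt_pow_right (by omega) (by norm_num)
    omega
  obtain ⟨p, hpP, hpN, hp⟩ := exists_common_gen (Q := P) (N := N) hA.two (D.N_le hN hP)
    (fun t ht x hx => D.hat_conj c hP hA ht hx)
    (fun t ht x hx => D.N_conj_A hN hA ht hx) hP.two hne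
  -- the subgroup `P₀`
  let P₀ : Subgroup G :=
    { carrier := {g | g ∈ P ∧ ∀ x ∈ A, g⁻¹ * (x * g * x⁻¹) ∈ N}
      mul_mem' := by
        rintro g h ⟨hg, hg'⟩ ⟨hh, hh'⟩
        refine ⟨mul_mem hg hh, fun x hx => ?_⟩
        have h1 := (D.N_comm hN hP (hg' x hx) (inv_mem hh)).eq
        have h2 : (g * h)⁻¹ * (x * (g * h) * x⁻¹) =
            (h⁻¹ * (g⁻¹ * (x * g * x⁻¹))) * (x * h * x⁻¹) := by group
        rw [h2, ← h1, mul_assoc]
        exact mul_mem (hg' x hx) (hh' x hx)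
      one_mem' := ⟨one_mem _, fun x _ => by simp [one_mem]⟩
      inv_mem' := by
        rintro g ⟨hg, hg'⟩
        refine ⟨inv_mem hg, fun x hx => ?_⟩
        have h1 := (D.N_comm hN hP (hg' x hx) hg).inv_left.eq
        have h2 : (g⁻¹)⁻¹ * (x * g⁻¹ * x⁻¹) = g * (g⁻¹ * (x * g * x⁻¹))⁻¹ * g⁻¹ := by group
        rw [h2, ← h1, mul_inv_cancel_right]
        exact inv_mem (hg' x hx) }
  have hP₀ : ∀ g, g ∈ P₀ ↔ g ∈ P ∧ ∀ x ∈ A, g⁻¹ * (x * g * x⁻¹) ∈ N := fun g => Iff.rfl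
  -- invariance
  have hinv : ∀ g : Hu, (g : G) • a = a → Commute (g : G) (y : G) →
      ∀ h ∈ P₀, (g : G) * h * (g : G)⁻¹ ∈ P₀ := by
    intro g hga hgy h hh
    obtain ⟨h1, h2⟩ := (hP₀ h).mp hh
    have hgu : Commute (g : G) u := mem_cen.mp g.2
    refine (hP₀ _).mpr ⟨D.hat_norm hP hgu hga h1, fun x hx => ?_⟩
    have hga' : (g : G)⁻¹ • a = a := by rw [inv_smul_eq_iff, hga]
    have hx' : (g : G)⁻¹ * x * (g : G)⁻¹⁻¹ ∈ A := hA.norm _ hgy.inv_left hgu.inv_left hga' x hx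
    rw [inv_inv] at hx'
    have h3 := D.N_conj c hN hgu hga (h2 _ hx')
    have h4 : (g : G) * (h⁻¹ * ((g : G)⁻¹ * x * g * h * ((g : G)⁻¹ * x * g)⁻¹)) * (g : G)⁻¹ =
        ((g : G) * h * (g : G)⁻¹)⁻¹ * (x * ((g : G) * h * (g : G)⁻¹) * x⁻¹) := by group
    rwa [h4] at h3
  set Q₀ := (P₀.subgroupOf Hu).map (rho Ω z Hu) with hQ₀
  have hQ₀m : ∀ g : Hu, (g : G) ∈ P₀ → rho Ω z Hu g ∈ Q₀ := fun g hg => ⟨g, hg, rfl⟩
  have hQ₀inv : ∀ g : Hu, (g : G) • a = a → Commute (g : G) (y : G) →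
      ∀ x ∈ Q₀, rho Ω z Hu g * x * (rho Ω z Hu g)⁻¹ ∈ Q₀ := by
    rintro g hga hgy _ ⟨h, hh, rfl⟩
    rw [← map_inv, ← map_mul, ← map_mul]
    exact hQ₀m _ (hinv g hga hgy h hh)
  have hQeq : Q₀ = Q := by
    obtain ⟨v, hv, hv1⟩ := c.exists_ne_one b
    refine D.L.qe.eq_of_invariant D.Y.ye ?_ ?_ ?_ ?_ (hQ₀m ⟨p, hPH p hpP⟩ ⟨hpP, hp⟩) ?_
    · rintro _ ⟨x, hx, rfl⟩
      have hx' : (x : G) ∈ V a := hx
      refine hQ₀m x ⟨hP.V_le hx', fun x' hx'' => ?_⟩
      rw [(hA.cV x' hx'' _ hx').eq, mul_inv_cancel_right, inv_mul_cancel]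
      exact one_mem _
    · rintro _ ⟨x, hx, rfl⟩
      exact hPQ x ((hP₀ _).mp hx).1
    · intro d hd e he hd1 he1
      have hXle : V a ≤ Hu ⊓ Subgroup.centralizer {(y : G)} := fun x hx =>
        Subgroup.mem_inf.mpr ⟨c.V_le_u D.bad D.fa hx, mem_cen.mpr (D.Y.comm_a x hx).symm⟩
      have hvX : v ∈ Hu ⊓ Subgroup.centralizer {(y : G)} :=
        Subgroup.mem_inf.mpr ⟨c.V_le_u D.bad D.fb hv, mem_cen.mpr (D.Y.comm_b v hv).symm⟩
      obtain ⟨g, hgX, hga, hg⟩ := c.trans_E D.ne inf_le_left hXle hv hv1 hvX hd he hd1 he1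
      exact ⟨rho Ω z Hu g, hQ₀inv g hga (mem_cen.mp (Subgroup.mem_inf.mp hgX).2), hg⟩
    · exact hQ₀inv y D.Y.fix_a (Commute.refl _)
    · intro hpE
      exact hpN (hlift ⟨p, hPH p hpP⟩ hpP hpE)
  have hall : ∀ g ∈ P, g ∈ P₀ := by
    intro g hg
    have h1 : rho Ω z Hu ⟨g, hPH g hg⟩ ∈ Q₀ := by rw [hQeq]; exact hPQ ⟨g, hPH g hg⟩ hg
    obtain ⟨g₀, hg₀, h2⟩ := h1
    have hg₀' : (g₀ : G) ∈ P₀ := hg₀
    have h3 : rho Ω z Hu (g₀⁻¹ * ⟨g, hPH g hg⟩) = 1 := by
      rw [map_mul, map_inv, h2, inv_mul_cancel]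
    rcases hP.ker (g₀⁻¹ * ⟨g, hPH g hg⟩) (mul_mem (inv_mem hg₀'.1) hg) h3 with h4 | h4
    · have h5 : (g₀ : G) = g := inv_mul_eq_one.mp h4
      rw [← h5]; exact hg₀'
    · have h5 : g = g₀ * u := inv_mul_eq_iff_eq_mul.mp h4
      have h6 : u ∈ P₀ := by
        refine (hP₀ u).mpr ⟨hP.u_mem, fun x hx => ?_⟩
        exact mul_mem (inv_mem (D.u_mem_N hN)) (D.N_conj_A hN hA hx (D.u_mem_N hN))
      rw [h5]; exact mul_mem hg₀' h6
  exact fun g hg => ((hP₀ g).mp (hall g hg)).2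

/-- the square of an element of `P̂` is in `V_a`, and `[P̂, A] ≤ V_a` -/
theorem hat_sq_comm [Finite G] (D : UD Ω z V k u a b Q y W) (c : Ctx Ω z V k)
    {P A : Subgroup G} (hP : HatD Ω z V u a Q P) (hA : AD Ω V k u a (y : G) A) :
    (∀ g ∈ P, g * g ∈ V a) ∧ ∀ g ∈ P, ∀ x ∈ A, g⁻¹ * (x * g * x⁻¹) ∈ V a := by
  obtain ⟨N, hN⟩ := D.exists_N c
  have hc := D.hat_comm c hP hA hN
  have huu := D.bad.mul_self
  have hcanc : ∀ w v : G, w * v = v → w = 1 := fun w v h => mul_eq_right.mp h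
  constructor
  · intro g hg
    obtain ⟨hgH, hga, hg2, hgQ⟩ := (hP.mem g).mp hg
    have h1 := D.L.qe.sq _ hgQ
    rw [← map_mul] at h1
    obtain ⟨v, hv, hvg⟩ := exists_of_mem_E h1
    have h2 : rho Ω z Hu (v⁻¹ * (⟨g, hgH⟩ * ⟨g, hgH⟩)) = 1 := by
      rw [map_mul, map_inv, hvg, inv_mul_cancel]
    rcases hP.ker (v⁻¹ * (⟨g, hgH⟩ * ⟨g, hgH⟩))
      (mul_mem (inv_mem (hP.V_le hv)) (mul_mem hg hg)) h2 with h3 | h3
    · have h4 : (v : G) = g * g := inv_mul_eq_one.mp h3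
      rw [← h4]; exact hv
    · exfalso
      have h4 : g * g = v * u := inv_mul_eq_iff_eq_mul.mp h3
      -- an element of `A` outside `V`
      obtain ⟨x, hx, hxV⟩ : ∃ x ∈ A, x ∉ V a := by
        by_contra hcon
        push Not at hcon
        have h5 : Nat.card A ≤ Nat.card (V a) :=
          Nat.card_le_card_of_injective _ (Subgroup.inclusion_injective hcon)
        rw [hA.card, c.card_V] at h5
        have h6 := c.two_le_q
        have h7 : 2 ^ k < (2 ^ k) ^ 2 := by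
          calc 2 ^ k = (2 ^ k) ^ 1 := (pow_one _).symm
            _ < (2 ^ k) ^ 2 := Nat.pow_lt_pow_right (by omega) (by norm_num)
        omega
      set n := g⁻¹ * (x * g * x⁻¹) with hn
      have hnN : n ∈ N := hc g hg x hx
      have h5 : x * g * x⁻¹ = g * n := by rw [hn]; group
      have h6 : x * (g * g) * x⁻¹ = g * g := by
        calc x * (g * g) * x⁻¹ = (x * g * x⁻¹) * (x * g * x⁻¹) := by group
          _ = g * (n * g) * n := by rw [h5]; group
          _ = g * (g * n) * n := by rw [(D.N_comm hN hP hnN hg).eq]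
          _ = g * g * (n * n) := by group
          _ = g * g := by rw [D.N_sq c hN hnN, mul_one]
      have h7 : x * (g * g) * x⁻¹ = (x * x) * (v * u) := by
        rw [h4]
        have h8 : x * (v * u) * x⁻¹ = (x * v) * (u * x⁻¹) := by group
        have h9 : x * (v : G) = v * x := (hA.cV x hx v hv).eq
        have h10 : (x * x) * (v : G) = v * (x * x) := (hA.cV _ (mul_mem hx hx) v hv).eq
        calc x * (v * u) * x⁻¹ = (x * v) * (u * x⁻¹) := h8
          _ = v * (x * u * x⁻¹) := by rw [h9]; group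
          _ = v * (x * x) * u := by rw [hA.conj_u x hx]; group
          _ = _ := by rw [← h10]; group
      rw [h6, h4] at h7
      exact hxV (hA.inv x hx (hcanc _ _ h7.symm))
  · intro g hg x hx
    set n := g⁻¹ * (x * g * x⁻¹) with hn
    have hnN : n ∈ N := hc g hg x hx
    rcases D.N_cases hN hnN with h | ⟨v, hv, hnv⟩
    · exact h
    · exfalso
      have h5 : x * g * x⁻¹ = g * n := by rw [hn]; group
      have h6 : x * n * x⁻¹ = (x * x) * n := by
        rw [hnv]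
        have h8 : x * (u * v) * x⁻¹ = (x * u * x⁻¹) * (x * v * x⁻¹) := by group
        rw [h8, hA.conj_u x hx, (hA.cV x hx v hv).eq, mul_inv_cancel_right]; group
      have h7 : (x * x) * g * (x * x)⁻¹ = g * (x * x) := by
        have h9 : (x * x) * n = n * (x * x) :=
          (D.N_comm hN hP (V_le_N hN (hA.sq x hx)) (D.N_le hN hP hnN)).eq
        calc (x * x) * g * (x * x)⁻¹ = x * (x * g * x⁻¹) * x⁻¹ := by group
          _ = x * (g * n) * x⁻¹ := by rw [h5]
          _ = (x * g * x⁻¹) * (x * n * x⁻¹) := by group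
          _ = g * (n * (x * x)) * n := by rw [h5, h6]; group
          _ = g * ((x * x) * n) * n := by rw [h9]
          _ = g * (x * x) * (n * n) := by group
          _ = g * (x * x) := by rw [D.N_sq c hN hnN, mul_one]
      have h8 : (x * x) * g * (x * x)⁻¹ = g := by
        rw [(hP.comm g hg _ (hA.sq x hx)).symm.eq, mul_inv_cancel_right]
      rw [h8] at h7
      have h9 : x * x = 1 := mul_eq_left.mp h7.symm
      have hxV := hA.inv x hx h9
      have h10 : n = 1 := by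
        rw [hn, ← (hP.comm g hg x hxV).eq, mul_inv_cancel_right, inv_mul_cancel]
      -- `u ∈ V`
      rw [h10] at hnv
      have h11 : u = v⁻¹ := eq_inv_of_mul_eq_one_left hnv.symm
      have h12 : u ∈ V a := by rw [h11]; exact inv_mem hv
      exact D.bad.ne_one (c.eq_one_of_fix D.ne h12 D.fb)

/-- the groups `A` and `P` -/
theorem exists_AP [Finite G] (D : UD Ω z V k u a b Q y W) (c : Ctx Ω z V k) :
    ∃ A P : Subgroup G, AD Ω V k u a (y : G) A ∧ QE P (V a) k ∧ (∀ x ∈ P, x • a = a) ∧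
      (∀ x ∈ A, ∀ p ∈ P, Commute x p) ∧ ∀ x ∈ A, x ∈ P → x ∈ V a := by
  obtain ⟨A, hA⟩ := D.exists_A c
  obtain ⟨P, hP⟩ := D.exists_hat c
  obtain ⟨hsq, hcomm⟩ := D.hat_sq_comm c hP hA
  have hPH : ∀ g ∈ P, g ∈ Hu := fun g hg => ((hP.mem g).mp hg).1
  have hPQ : ∀ g : Hu, (g : G) ∈ P → rho Ω z Hu g ∈ Q := fun g hg => ((hP.mem g).mp hg).2.2.2
  let P' : Subgroup G :=
    { carrier := {g | g ∈ P ∧ ∀ x ∈ A, Commute x g}
      mul_mem' := fun {g h} hg hh => ⟨mul_mem hg.1 hh.1, fun x hx => (hg.2 x hx).mul_right (hh.2 x hx)⟩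
      one_mem' := ⟨one_mem _, fun x _ => Commute.one_right x⟩
      inv_mem' := fun {g} hg => ⟨inv_mem hg.1, fun x hx => (hg.2 x hx).inv_right⟩ }
  have hP' : ∀ g, g ∈ P' ↔ g ∈ P ∧ ∀ x ∈ A, Commute x g := fun g => Iff.rfl
  have hAPV : ∀ x ∈ A, x ∈ P' → x ∈ V a := fun x hx hxP =>
    hA.cu x hx (mem_cen.mp (hPH x hxP.1)).symm
  have hVP' : V a ≤ P' := fun v hv => ⟨hP.V_le hv, fun x hx => hA.cV x hx v hv⟩
  -- an element of `A` outside `V`
  obtain ⟨x₀, hx₀, hxV⟩ : ∃ x ∈ A, x ∉ V a := by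
    by_contra hcon
    push Not at hcon
    have h5 : Nat.card A ≤ Nat.card (V a) :=
      Nat.card_le_card_of_injective _ (Subgroup.inclusion_injective hcon)
    rw [hA.card, c.card_V] at h5
    have h6 := c.two_le_q
    have h7 : 2 ^ k < (2 ^ k) ^ 2 := by
      calc 2 ^ k = (2 ^ k) ^ 1 := (pow_one _).symm
        _ < (2 ^ k) ^ 2 := Nat.pow_lt_pow_right (by omega) (by norm_num)
    omega
  have huP' : u ∉ P' := fun h => hxV (hA.cu x₀ hx₀ (h.2 x₀ hx₀).symm)
  have hinj : ∀ g : Hu, (g : G) ∈ P' → rho Ω z Hu g = 1 → g = 1 := by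
    intro g hg h1
    rcases hP.ker g hg.1 h1 with h2 | h2
    · exact Subtype.ext h2
    · exact absurd (h2 ▸ hg) huP'
  have hinj2 : ∀ g g' : Hu, (g : G) ∈ P' → (g' : G) ∈ P' → rho Ω z Hu g = rho Ω z Hu g' →
      g = g' := by
    intro g g' hg hg' h1
    have h2 := hinj (g⁻¹ * g') (mul_mem (inv_mem hg) hg') (by
      rw [map_mul, map_inv, h1, inv_mul_cancel])
    exact inv_mul_eq_one.mp h2
  -- commutators with `y`
  have hcy : ∀ h ∈ P, h⁻¹ * ((y : G) * h * (y : G)⁻¹) ∈ P' := by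
    intro h hh
    refine ⟨mul_mem (inv_mem hh) (D.hat_norm hP (commute_y y) D.Y.fix_a hh), fun x hx => ?_⟩
    set n := h⁻¹ * (x * h * x⁻¹) with hn
    have hnV : n ∈ V a := hcomm h hh x hx
    have h1 : x * h * x⁻¹ = h * n := by rw [hn]; group
    have hxy := (hA.cy x hx).eq
    have h5 : (y : G)⁻¹ * x⁻¹ = x⁻¹ * (y : G)⁻¹ := by rw [← mul_inv_rev, ← mul_inv_rev, hxy]
    have h2 : x * (h⁻¹ * ((y : G) * h * (y : G)⁻¹)) * x⁻¹ =
        (x * h * x⁻¹)⁻¹ * ((y : G) * (x * h * x⁻¹) * (y : G)⁻¹) := by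
      calc x * (h⁻¹ * ((y : G) * h * (y : G)⁻¹)) * x⁻¹
          = x * h⁻¹ * (y : G) * h * ((y : G)⁻¹ * x⁻¹) := by group
        _ = x * h⁻¹ * (x⁻¹ * (x * (y : G))) * h * (x⁻¹ * (y : G)⁻¹) := by
            rw [h5, inv_mul_cancel_left]
        _ = x * h⁻¹ * (x⁻¹ * ((y : G) * x)) * h * (x⁻¹ * (y : G)⁻¹) := by rw [hxy]
        _ = _ := by group
    have h3 : (h * n)⁻¹ * ((y : G) * (h * n) * (y : G)⁻¹) =
        h⁻¹ * ((y : G) * h * (y : G)⁻¹) := by
      have h6 : (y : G) * n * (y : G)⁻¹ = n := by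
        rw [(D.Y.comm_a n hnV).eq, mul_inv_cancel_right]
      have h7 := (hP.comm _ (mul_mem (inv_mem hh)
        (D.hat_norm hP (commute_y y) D.Y.fix_a hh)) n hnV).eq
      calc (h * n)⁻¹ * ((y : G) * (h * n) * (y : G)⁻¹)
          = n⁻¹ * (h⁻¹ * ((y : G) * h * (y : G)⁻¹)) * ((y : G) * n * (y : G)⁻¹) := by group
        _ = n⁻¹ * ((h⁻¹ * ((y : G) * h * (y : G)⁻¹)) * n) := by rw [h6]; group
        _ = _ := by rw [h7, inv_mul_cancel_left]
    show x * (h⁻¹ * ((y : G) * h * (y : G)⁻¹)) = h⁻¹ * ((y : G) * h * (y : G)⁻¹) * x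
    rw [h1, h3] at h2
    exact mul_inv_eq_iff_eq_mul.mp h2
  have hsurj : ∀ q ∈ Q, ∃ g : Hu, (g : G) ∈ P' ∧ rho Ω z Hu g = q := by
    intro q hq
    obtain ⟨x, hxQ, e, he, hqe⟩ := D.L.qe.exists_comm D.Y.ye hq
    obtain ⟨h, hh, hhx⟩ := hP.surj x hxQ
    obtain ⟨v, hv, hve⟩ := exists_of_mem_E he
    refine ⟨h⁻¹ * (y * h * y⁻¹) * v, mul_mem (hcy h hh) (hVP' hv), ?_⟩
    rw [hqe]
    simp only [map_mul, map_inv, hhx, hve]
  have hlift : ∀ g (hg : g ∈ P'), rho Ω z Hu ⟨g, hPH g hg.1⟩ ∈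
      ((V a).subgroupOf Hu).map (rho Ω z Hu) → g ∈ V a := by
    intro g hg h1
    obtain ⟨v, hv, hvg⟩ := exists_of_mem_E h1
    have h2 := hinj2 v ⟨g, hPH g hg.1⟩ (hVP' hv) hg hvg
    have h3 : (v : G) = g := congrArg Subtype.val h2
    rw [← h3]; exact hv
  refine ⟨A, P', hA, ?_, fun x hx => ((hP.mem x).mp hx.1).2.1, fun x hx p hp => hp.2 x hx, hAPV⟩
  refine ⟨inferInstance, hVP', c.card_V a, ?_, c.two_le, ?_, fun e he => c.sq_V he, ?_, ?_⟩
  · rw [← D.L.qe.card_Q]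
    refine Nat.card_congr (Equiv.ofBijective
      (fun g => (⟨rho Ω z Hu ⟨g, hPH g g.2.1⟩, hPQ ⟨g, hPH g g.2.1⟩ g.2.1⟩ : Q)) ⟨?_, ?_⟩)
    · intro g g' h1
      have h2 := hinj2 ⟨g, hPH g g.2.1⟩ ⟨g', hPH g' g'.2.1⟩ g.2 g'.2 (congrArg Subtype.val h1)
      exact Subtype.ext (congrArg (fun w : Hu => (w : G)) h2)
    · rintro ⟨x, hx⟩
      obtain ⟨g, hg, hgx⟩ := hsurj x hx
      exact ⟨⟨g, hg⟩, Subtype.ext hgx⟩
  · exact fun e he x hx => (hP.comm x hx.1 e he).symm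
  · exact fun x hx => hsq x hx.1
  · intro x hx hxx
    refine hlift x hx (D.L.qe.inv _ (hPQ ⟨x, hPH x hx.1⟩ hx.1) ?_)
    rw [← map_mul]
    have h1 : (⟨x, hPH x hx.1⟩ * ⟨x, hPH x hx.1⟩ : Hu) = 1 := Subtype.ext hxx
    rw [h1, map_one]

end UD

end Cfsg.Agent.AschCrit.CommFive
end

-- part: AschCrit/CommFive/EndX
section
/-!
# Aschbacher's criterion, commutative case (C5): large abelian 2-subgroups of a point stabiliser

`Ctx.false_of_abelian` : there is no abelian subgroup `X` of `G_a` with `V_a ≤ X`, `x² ∈ V_a` for all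
`x` in `X`, of order at least `4 q²`, containing at least `4 q` elements with square 1.
-/

set_option autoImplicit false

namespace Cfsg.Agent.AschCrit.CommFive

open Cfsg.Agent.TwoFusion.StronglyEmbeddedBasic Cfsg.Agent.AschCrit.Basic
open Cfsg.Agent.AschCrit.Basic.Setup Cfsg.Agent.AschCrit.Closed Cfsg.Agent.AschCrit.Descent
open Cfsg.Agent.AschCrit.NonIso

variable {G Ω : Type*} [Group G] [MulAction G Ω] {z : G} {V : Ω → Subgroup G} {k : ℕ}

/-- the elements of `P` centralise `V_a` -/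
theorem Ctx.commute_of_locP (c : Ctx Ω z V k) {H : Subgroup G} {a b : Ω} (hab : a ≠ b)
    (hb : b ∈ pts Ω z H) {Q : Subgroup (Equiv.Perm (pts Ω z H))} (L : LocQ Ω z H a (V a) k Q)
    {P : Subgroup G} (hP : LocP Ω z H a Q P) {g v : G} (hg : g ∈ P) (hv : v ∈ V a) :
    Commute g v := by
  obtain ⟨hgH, -, hga, -, hgQ⟩ := (hP.mem g).mp hg
  have hvH : v ∈ H := L.VH hv
  have h1 : g * v * g⁻¹ * v⁻¹ ∈ V a := mul_mem (c.conj_V' hga hv) (inv_mem hv)
  have h2 : Commute (rho Ω z H ⟨v, hvH⟩) (rho Ω z H ⟨g, hgH⟩) :=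
    L.qe.central _ (mem_E (x := ⟨v, hvH⟩) hv) _ hgQ
  have h3 : rho Ω z H (⟨g, hgH⟩ * ⟨v, hvH⟩ * ⟨g, hgH⟩⁻¹ * ⟨v, hvH⟩⁻¹) = 1 := by
    rw [map_mul, map_mul, map_mul, map_inv, map_inv, ← h2.eq, mul_inv_cancel_right,
      mul_inv_cancel]
  have h4 := c.injV hab hb (x := ⟨g, hgH⟩ * ⟨v, hvH⟩ * ⟨g, hgH⟩⁻¹ * ⟨v, hvH⟩⁻¹) h1 (by exact h3)
  have h5 : g * v * g⁻¹ * v⁻¹ = 1 := congrArg Subtype.val h4
  show g * v = v * g
  exact mul_inv_eq_iff_eq_mul.mp (mul_inv_eq_one.mp h5)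

/-- the bad involution `s` is the only non-trivial element of an abelian 2-group acting trivially on
the fixed points of `s`; the rest is `QE.card_le_or` -/
theorem Ctx.card_le_or [Finite G] (c : Ctx Ω z V k) {a : Ω} {X : Subgroup G} (hX2 : IsPGroup 2 X)
    (hXa : ∀ x ∈ X, x • a = a) (hXV : ∀ x ∈ X, ∀ v ∈ V a, Commute x v)
    (hXc : ∀ x ∈ X, ∀ y ∈ X, Commute x y) (hVX : V a ≤ X) {s : G} (hs : Bad Ω s) (hsX : s ∈ X)
    (hXH : X ≤ Subgroup.centralizer ({s} : Set G)) :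
    ((∀ x ∈ X, x * x = 1 → x ∈ V a ∨ ∃ v ∈ V a, v * s = x) ∨
      Nat.card X ≤ 2 * (2 * 2 ^ k)) := by
  classical
  have : Fact (Nat.Prime 2) := ⟨Nat.prime_two⟩
  obtain ⟨b, Q, y, W, D⟩ := c.exists_UD hs (hXa s hsX)
  set H := Subgroup.centralizer ({s} : Set G) with hH
  have hap : a ∈ pts Ω z H := (c.mem_pts_u hs).mpr D.fa
  have hbp : b ∈ pts Ω z H := (c.mem_pts_u hs).mpr D.fb
  obtain ⟨P, hP⟩ := D.L.exists_P c.setup c.mem_V D.ne hap hbp
  have hPH : ∀ g ∈ P, g ∈ H := fun g hg => ((hP.mem g).mp hg).1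
  have hP2 : IsPGroup 2 P := isPGroup_of_twoElt (fun g hg => ((hP.mem g).mp hg).2.2.2.1)
  have hPa : ∀ g ∈ P, g • a = a := fun g hg => ((hP.mem g).mp hg).2.2.1
  have hnorm : ∀ g : G, g ∈ H → g • a = a → ∀ x ∈ P, g * x * g⁻¹ ∈ P := by
    intro g hgH hga x hx
    obtain ⟨hxH, hxD, hxa, hx2, hxQ⟩ := (hP.mem x).mp hx
    refine (hP.mem _).mpr ⟨mul_mem (mul_mem hgH hxH) (inv_mem hgH), conj_mem_DCl hgH hxD, ?_,
      hx2.conj g, ?_⟩
    · have h1 : g⁻¹ • a = a := by rw [inv_smul_eq_iff, hga]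
      rw [mul_smul, mul_smul, h1, hxa, hga]
    · have h1 := D.L.norm ⟨g, hgH⟩ hga _ hxQ
      rw [← map_inv, ← map_mul, ← map_mul] at h1
      exact h1
  -- the 2-group `X P`
  have hXn : X ≤ Subgroup.normalizer (P : Set G) := by
    intro g hg
    rw [Subgroup.mem_normalizer_iff]
    intro x
    constructor
    · exact fun hx => hnorm g (hXH hg) (hXa g hg) x hx
    · intro hx
      have h1 := hnorm g⁻¹ (hXH (inv_mem hg)) (hXa g⁻¹ (inv_mem hg)) _ hx
      have h2 : g⁻¹ * (g * x * g⁻¹) * g⁻¹⁻¹ = x := by group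
      rwa [h2] at h1
  have hS2 : IsPGroup 2 (X ⊔ P : Subgroup G) := hX2.to_sup_of_normal_right' hP2 hXn
  set S := X ⊔ P with hS
  have hXS : X ≤ S := le_sup_left
  have hPS : P ≤ S := le_sup_right
  have hSa : ∀ g ∈ S, g • a = a := by
    have h1 : S ≤ MulAction.stabilizer G a := sup_le (fun g hg => hXa g hg) (fun g hg => hPa g hg)
    exact fun g hg => h1 hg
  have hSV : ∀ g ∈ S, ∀ v ∈ V a, Commute g v := by
    have h1 : S ≤ Subgroup.centralizer (V a : Set G) := by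
      refine sup_le (fun g hg => ?_) (fun g hg => ?_)
      · rw [Subgroup.mem_centralizer_iff]
        exact fun v hv => (hXV g hg v hv).eq.symm
      · rw [Subgroup.mem_centralizer_iff]
        exact fun v hv => (c.commute_of_locP D.ne hbp D.L hP hg hv).eq.symm
    intro g hg v hv
    exact ((Subgroup.mem_centralizer_iff.mp (h1 hg)) v hv).symm
  -- `T`
  set T : Subgroup H := (S ⊓ MulAction.stabilizer G b).subgroupOf H with hT
  have hTm : ∀ t : H, t ∈ T ↔ (t : G) ∈ S ∧ (t : G) • b = b := by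
    intro t
    constructor
    · rintro ⟨h1, h2⟩; exact ⟨h1, h2⟩
    · rintro ⟨h1, h2⟩; exact ⟨h1, h2⟩
  have hT2 : IsPGroup 2 T := by
    have h1 : IsPGroup 2 (S ⊓ MulAction.stabilizer G b : Subgroup G) := hS2.to_le inf_le_left
    exact h1.comap_subtype
  have hTa : ∀ t ∈ T, (t : G) • a = a := fun t ht => hSa _ ((hTm t).mp ht).1
  have hTb : ∀ t ∈ T, (t : G) • b = b := fun t ht => ((hTm t).mp ht).2
  have hTV : ∀ t ∈ T, ∀ v ∈ V a, Commute (t : G) v := fun t ht => hSV _ ((hTm t).mp ht).1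
  have hbH : V b ≤ H := c.V_le_u hs D.fb
  -- the homomorphism on `X`
  let f : X →* Equiv.Perm (pts Ω z H) := (rho Ω z H).comp (Subgroup.inclusion hXH)
  have hf : ∀ x : X, f x = rho Ω z H ⟨x, hXH x.2⟩ := fun x => rfl
  have hE : ∀ t ∈ T.map (rho Ω z H), ∀ e ∈ ((V a).subgroupOf H).map (rho Ω z H), Commute t e := by
    rintro _ ⟨t, ht, rfl⟩ e he
    obtain ⟨x, hx, rfl⟩ := exists_of_mem_E he
    have h1 : Commute t x := Subtype.ext (hTV t ht _ hx)
    exact h1.map (rho Ω z H)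
  have hfin : Finite f.range := Finite.of_surjective f.rangeRestrict f.rangeRestrict_surjective
  have hor := D.L.qe.card_le_or (X := f.range) (T := T.map (rho Ω z H))
    (by
      rintro _ ⟨x, rfl⟩ _ ⟨y, rfl⟩
      have h1 : Commute x y := Subtype.ext (hXc x x.2 y y.2)
      exact h1.map f)
    (by
      rintro _ ⟨t, ht, rfl⟩ x hx
      exact D.L.norm t (hTa t ht) x hx)
    hE
    (by
      rintro _ ⟨x, rfl⟩
      have hxb : (x : G) • b ∈ pts Ω z H := (pts Ω z H).smul_mem ⟨x, hXH x.2⟩ hbp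
      have hxa : (x : G) • b ≠ a := by
        intro hh
        exact D.ne (smul_left_cancel (x : G) ((hXa x x.2).trans hh.symm))
      obtain ⟨g, hgQ, hg⟩ := D.L.trans b hbp _ hxb (Ne.symm D.ne) hxa
      obtain ⟨g', hg'P, hg'⟩ := hP.surj _ hgQ
      have h1 : (g' : G) • b = (x : G) • b := by
        rw [← hg]; exact (rho_eq_iff g' g).mp hg' b hbp
      refine ⟨rho Ω z H g', by rw [hg']; exact hgQ, rho Ω z H (g'⁻¹ * ⟨x, hXH x.2⟩),
        ⟨_, (hTm _).mpr ⟨mul_mem (inv_mem (hPS hg'P)) (hXS x.2), ?_⟩, rfl⟩, ?_⟩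
      · show ((g' : G)⁻¹ * x) • b = b
        rw [mul_smul, ← h1, inv_smul_smul]
      · rw [hf, ← map_mul, mul_inv_cancel_left])
    (by
      rintro _ hxQ ⟨t, ht, rfl⟩
      exact D.L.reg t hxQ b hbp (Ne.symm D.ne) (hTb t ht))
    (by
      rintro _ ⟨t, ht, rfl⟩ _ ⟨t', ht', rfl⟩ h1 h1'
      rw [← map_mul]
      exact c.T2 D.ne hbH D.L D.Y hT2 hTa hTb hTV ht ht' h1 h1')
    (by
      rintro _ ⟨t, ht, rfl⟩ h1
      have htt : rho Ω z H t * rho Ω z H t = 1 := by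
        rw [← map_mul]; exact c.T2 D.ne hbH D.L D.Y hT2 hTa hTb hTV ht ht h1 h1
      refine c.T3 D.ne hbH D.L D.Y (TwoElt.coe.mpr (TwoElt.of_mem hT2 ht)) (hTa t ht) (hTb t ht)
        (hTV t ht) (fun x _ => by rw [htt]; exact Commute.one_left x) ?_
      by_contra hcon
      push Not at hcon
      exact h1 (D.L.eq_one_of_commute hbp (Ne.symm D.ne) (hTa t ht) (hTb t ht) hcon))
  -- elements of `X` acting trivially
  have hF : ∀ x ∈ X, (∀ p : Ω, s • p = p → x • p = p) → x = 1 ∨ x = s := by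
    intro x hx hxp
    by_cases hx1 : x = 1
    · exact Or.inl hx1
    right
    have h1 := D.T1 c (F := X ⊓ (rho Ω z H).ker.map H.subtype) (hX2.to_le inf_le_left)
      (by
        rintro f ⟨-, ⟨t, ht, rfl⟩⟩ p hp
        exact (rho_eq_one_iff t).mp ht p ((c.mem_pts_u hs).mpr hp))
      x (Subgroup.mem_inf.mpr ⟨hx, ⟨⟨x, hXH hx⟩, (rho_eq_one_iff _).mpr
        (fun p hp => hxp p ((c.mem_pts_u hs).mp hp)), rfl⟩⟩)
      s (Subgroup.mem_inf.mpr ⟨hsX, ⟨⟨s, hXH hsX⟩, (rho_eq_one_iff _).mpr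
        (fun p hp => (c.mem_pts_u hs).mp hp), rfl⟩⟩) hx1 hs.ne_one
    rw [mul_eq_one_iff_eq_inv, hs.inv_eq] at h1
    exact h1
  rcases hor with hor | hor
  · left
    intro x hx hxx
    have h1 : f ⟨x, hx⟩ * f ⟨x, hx⟩ = 1 := by
      rw [← map_mul, show (⟨x, hx⟩ * ⟨x, hx⟩ : X) = 1 from Subtype.ext hxx, map_one]
    obtain ⟨v, hv, hvx⟩ := exists_of_mem_E (hor _ ⟨_, rfl⟩ h1)
    have h2 := (rho_eq_iff _ _).mp (hvx.trans (hf ⟨x, hx⟩))
    have h3 : ∀ p : Ω, s • p = p → ((v : G)⁻¹ * x) • p = p := by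
      intro p hp
      have h4 : (v : G) • p = x • p := h2 p ((c.mem_pts_u hs).mpr hp)
      rw [mul_smul, ← h4, inv_smul_smul]
    rcases hF _ (mul_mem (inv_mem (hVX hv)) hx) h3 with h4 | h4
    · left
      rw [← inv_mul_eq_one.mp h4]
      exact hv
    · exact Or.inr ⟨v, hv, (inv_mul_eq_iff_eq_mul.mp h4).symm⟩
  · right
    have h1 : Nat.card f.ker ≤ 2 := by
      have h2 : ((f.ker : Set X)) ⊆ {1, ⟨s, hsX⟩} := by
        intro x hx
        have h3 : rho Ω z H ⟨x, hXH x.2⟩ = 1 := hx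
        rcases hF x x.2 (fun p hp => (rho_eq_one_iff _).mp h3 p ((c.mem_pts_u hs).mpr hp))
          with h4 | h4
        · exact Or.inl (Subtype.ext h4)
        · exact Or.inr (Subtype.ext h4)
      have h3 := Set.ncard_le_ncard h2 (Set.toFinite _)
      have h4 : Nat.card f.ker = (f.ker : Set X).ncard := rfl
      rw [h4]
      refine h3.trans ((Set.ncard_insert_le _ _).trans ?_)
      rw [Set.ncard_singleton]
    rw [← Subgroup.card_mul_index f.ker, Subgroup.index_ker]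
    exact Nat.mul_le_mul h1 hor

/-- no large abelian group `X` -/
theorem Ctx.false_of_abelian [Finite G] (c : Ctx Ω z V k) {a : Ω} {X : Subgroup G}
    (hVX : V a ≤ X) (hXa : ∀ x ∈ X, x • a = a) (hXc : ∀ x ∈ X, ∀ y ∈ X, Commute x y)
    (hXsq : ∀ x ∈ X, x * x ∈ V a) (hX : 4 * (2 ^ k) ^ 2 ≤ Nat.card X)
    (hI : 4 * 2 ^ k ≤ Nat.card {i : G // i ∈ X ∧ i * i = 1}) : False := by
  classical
  have hX2 : IsPGroup 2 X := by
    intro x
    refine ⟨2, Subtype.ext ?_⟩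
    have h1 := c.sq_V (hXsq x x.2)
    show (x : G) ^ 2 ^ 2 = 1
    rw [pow_two 2, pow_mul, pow_two, pow_two]
    exact h1
  have hVc : Nat.card (V a) = (V a : Set G).ncard := rfl
  have hq := c.two_le_q
  have hIc : 4 * 2 ^ k ≤ ({i : G | i ∈ X ∧ i * i = 1} : Set G).ncard := hI
  -- `s ∈ I`, `s ∉ V_a`
  obtain ⟨s, ⟨hsX, hss⟩, hsV⟩ : ∃ s ∈ ({i : G | i ∈ X ∧ i * i = 1} : Set G), s ∉ V a := by
    by_contra hcon
    push Not at hcon
    have h1 : ({i : G | i ∈ X ∧ i * i = 1} : Set G) ⊆ (V a : Set G) := hcon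
    have h2 := Set.ncard_le_ncard h1 (Set.toFinite _)
    rw [← hVc, c.card_V a] at h2
    omega
  have hs1 : s ≠ 1 := by
    rintro rfl
    exact hsV (one_mem _)
  have hs : Bad Ω s := by
    rcases isConj_or_bad c.setup c.faithful (orderOf_eq_two_of_mul_self hss hs1) with h1 | h1
    · exact absurd (c.mem_V_of ⟨h1, hXa s hsX⟩) hsV
    · exact h1
  have hXH : X ≤ Subgroup.centralizer ({s} : Set G) := fun x hx =>
    mem_cen.mpr (hXc x hx s hsX)
  rcases c.card_le_or hX2 hXa (fun x hx v hv => hXc x hx v (hVX hv)) hXc hVX hs hsX hXH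
    with h1 | h1
  · have h2 : ({i : G | i ∈ X ∧ i * i = 1} : Set G) ⊆
        (V a : Set G) ∪ (fun v => v * s) '' (V a : Set G) := by
      rintro i ⟨hi, hii⟩
      rcases h1 i hi hii with h3 | ⟨v, hv, h3⟩
      · exact Or.inl h3
      · exact Or.inr ⟨v, hv, h3⟩
    have h3 := (Set.ncard_le_ncard h2 (Set.toFinite _)).trans (Set.ncard_union_le _ _)
    have h4 := Set.ncard_image_le (f := fun v => v * s) (Set.toFinite (V a : Set G))
    rw [← hVc, c.card_V a] at h3 h4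
    omega
  · have h2 : 4 * (2 ^ k) ^ 2 ≤ 2 * (2 * 2 ^ k) := hX.trans h1
    have h3 : (2 ^ k) ^ 2 = 2 ^ k * 2 ^ k := pow_two _
    have h4 : 4 * 2 ^ k ≤ 2 ^ k * 2 ^ k := Nat.mul_le_mul_right _ hq
    omega

end Cfsg.Agent.AschCrit.CommFive
end

-- part: AschCrit/CommFive/EndAlg
section
/-!
# Aschbacher's criterion, commutative case (C5): the abelian subgroup `X`
-/

set_option autoImplicit false

namespace Cfsg.Agent.AschCrit.CommFive.EndAlg

open Subgroup Cfsg.Agent.AschCrit.CommFive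

variable {Γ : Type*} [Group Γ]

/-- `B ∪ B p`, `p` commuting with `B` and `p ^ 2 ∈ B` -/
def step (B : Subgroup Γ) (p : Γ) (hp : p * p ∈ B) (hc : ∀ b ∈ B, Commute p b) : Subgroup Γ where
  carrier := {x | x ∈ B ∨ x * p ∈ B}
  one_mem' := Or.inl B.one_mem
  mul_mem' := by
    rintro x y (hx | hx) (hy | hy)
    · exact Or.inl (B.mul_mem hx hy)
    · right
      have : x * y * p = x * (y * p) := by group
      rw [this]; exact B.mul_mem hx hy
    · right
      have : x * y * p = (x * p) * y := by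
        have h1 := (hc y hy).eq
        calc x * y * p = x * (y * p) := by group
          _ = x * (p * y) := by rw [h1]
          _ = (x * p) * y := by group
      rw [this]; exact B.mul_mem hx hy
    · left
      have : x * y = (x * p) * (y * p) * (p * p)⁻¹ := by
        have h1 := (hc _ hy).eq
        calc x * y = (x * p) * p⁻¹ * (y * p) * p⁻¹ := by group
          _ = (x * p) * p⁻¹ * ((y * p) * p) * (p * p)⁻¹ := by group
          _ = (x * p) * p⁻¹ * (p * (y * p)) * (p * p)⁻¹ := by rw [h1]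
          _ = _ := by group
      rw [this]; exact B.mul_mem (B.mul_mem hx hy) (B.inv_mem hp)
  inv_mem' := by
    rintro x (hx | hx)
    · exact Or.inl (B.inv_mem hx)
    · right
      have h1 := (hc _ (B.inv_mem hx)).eq
      have : x⁻¹ * p = (x * p)⁻¹ * (p * p) := by
        calc x⁻¹ * p = p * (x * p)⁻¹ * p := by group
          _ = (x * p)⁻¹ * p * p := by rw [h1]
          _ = _ := by group
      rw [this]; exact B.mul_mem (B.inv_mem hx) hp

theorem mem_step {B : Subgroup Γ} {p : Γ} {hp : p * p ∈ B} {hc : ∀ b ∈ B, Commute p b} {x : Γ} :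
    x ∈ step B p hp hc ↔ x ∈ B ∨ x * p ∈ B := Iff.rfl

theorem le_step {B : Subgroup Γ} {p : Γ} {hp : p * p ∈ B} {hc : ∀ b ∈ B, Commute p b} :
    B ≤ step B p hp hc := fun _ hx => Or.inl hx

/-- an element commuting with `B` and `p` commutes with `step B p` -/
theorem commute_step {B : Subgroup Γ} {p : Γ} {hp : p * p ∈ B} {hc : ∀ b ∈ B, Commute p b} {g : Γ}
    (hg : ∀ b ∈ B, Commute g b) (hgp : Commute g p) : ∀ x ∈ step B p hp hc, Commute g x := by
  rintro x (hx | hx)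
  · exact hg x hx
  · have h1 := hg _ hx
    have h2 : x = (x * p) * p⁻¹ := by group
    rw [h2]
    exact h1.mul_right hgp.inv_right

theorem comm_step {B : Subgroup Γ} {p : Γ} {hp : p * p ∈ B} {hc : ∀ b ∈ B, Commute p b}
    (hB : ∀ x ∈ B, ∀ y ∈ B, Commute x y) :
    ∀ x ∈ step B p hp hc, ∀ y ∈ step B p hp hc, Commute x y := by
  intro x hx
  apply commute_step
  · intro b hb
    exact (commute_step (fun c hc' => hB b hb c hc') (hc b hb).symm x hx).symm
  · exact (commute_step hc (Commute.refl p) x hx).symm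

theorem step_le {B P : Subgroup Γ} {p : Γ} {hp : p * p ∈ B} {hc : ∀ b ∈ B, Commute p b}
    (hB : B ≤ P) (hpP : p ∈ P) : step B p hp hc ≤ P := by
  rintro x (hx | hx)
  · exact hB hx
  · have h2 : x = (x * p) * p⁻¹ := by group
    rw [h2]
    exact P.mul_mem (hB hx) (P.inv_mem hpP)

theorem card_step {B : Subgroup Γ} [Finite B] {p : Γ} {hp : p * p ∈ B}
    {hc : ∀ b ∈ B, Commute p b} (hpB : p ∉ B) : Nat.card (step B p hp hc) = 2 * Nat.card B := by
  have h1 : ((step B p hp hc : Subgroup Γ) : Set Γ) =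
      (B : Set Γ) ∪ (fun x => x * p⁻¹) '' (B : Set Γ) := by
    ext x
    simp only [SetLike.mem_coe, mem_step, Set.mem_union, Set.mem_image]
    refine or_congr Iff.rfl ?_
    constructor
    · intro hx
      exact ⟨x * p, hx, by group⟩
    · rintro ⟨y, hy, rfl⟩
      simpa using hy
  have hfin : (B : Set Γ).Finite := Set.toFinite _
  have hinj : Function.Injective (fun x : Γ => x * p⁻¹) := mul_left_injective p⁻¹
  have h2 : Disjoint (B : Set Γ) ((fun x => x * p⁻¹) '' (B : Set Γ)) := by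
    rw [Set.disjoint_left]
    rintro x hx ⟨y, hy, rfl⟩
    apply hpB
    have h3 : p = (y * p⁻¹)⁻¹ * y := by group
    rw [h3]
    exact B.mul_mem (B.inv_mem hx) hy
  have h3 : Nat.card (step B p hp hc) = ((step B p hp hc : Subgroup Γ) : Set Γ).ncard :=
    Nat.card_coe_set_eq _
  have h4 : Nat.card B = (B : Set Γ).ncard := Nat.card_coe_set_eq _
  rw [h3, h1, Set.ncard_union_eq h2 hfin (hfin.image _), Set.ncard_image_of_injective _ hinj, ← h4]
  ring

/-- an abelian subgroup of `P` of order `4 q` -/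
theorem exists_abelian {P V : Subgroup Γ} {k : ℕ} (hP : QE P V k) :
    ∃ B : Subgroup Γ, V ≤ B ∧ B ≤ P ∧ (∀ x ∈ B, ∀ y ∈ B, Commute x y) ∧
      Nat.card B = 4 * 2 ^ k := by
  have hfP : Finite P := hP.fin
  have hfV : Finite V := Finite.of_injective _ (inclusion_injective hP.le)
  have hq4 : 4 ≤ 2 ^ k := by
    calc 4 = 2 ^ 2 := by norm_num
      _ ≤ 2 ^ k := Nat.pow_le_pow_right (by norm_num) hP.two_le
  obtain ⟨p₁, hp₁, hp₁V⟩ : ∃ p ∈ P, p ∉ V := by
    by_contra hcon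
    push Not at hcon
    have h1 : Nat.card P ≤ Nat.card V := Nat.card_le_card_of_injective
      (inclusion (show P ≤ V from hcon)) (inclusion_injective _)
    rw [hP.card_Q, hP.card_E] at h1
    have h2 : (2 ^ k) ^ 1 < (2 ^ k) ^ 3 := Nat.pow_lt_pow_right (by omega) (by norm_num)
    rw [pow_one] at h2
    omega
  set B₁ := step V p₁ (hP.sq p₁ hp₁) (fun v hv => (hP.central v hv p₁ hp₁).symm) with hB₁
  have hc₁ : Nat.card B₁ = 2 * 2 ^ k := by
    rw [hB₁, card_step hp₁V, hP.card_E]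
  have hB₁P : B₁ ≤ P := step_le hP.le hp₁
  have hVc : ∀ x ∈ V, ∀ y ∈ V, Commute x y := fun x hx y hy => hP.central x hx y (hP.le hy)
  have hB₁c := comm_step (hp := hP.sq p₁ hp₁)
    (hc := fun v hv => (hP.central v hv p₁ hp₁).symm) hVc
  -- the centralizer of `p₁`
  have hcC : (2 ^ k) ^ 2 ≤ Nat.card (P ⊓ centralizer {p₁} : Subgroup Γ) := by
    let F : P → V := fun x => ⟨(x : Γ)⁻¹ * p₁⁻¹ * x * p₁, hP.comm_mem x.2 hp₁⟩
    have h1 := card_le_mul_range (Q := P) (E := P ⊓ centralizer {p₁}) inf_le_left F (by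
      intro g g' hgg
      refine mem_inf.mpr ⟨P.mul_mem g.2 (P.inv_mem g'.2), ?_⟩
      rw [mem_centralizer_singleton_iff]
      have h2 : (g : Γ)⁻¹ * p₁⁻¹ * g * p₁ = (g' : Γ)⁻¹ * p₁⁻¹ * g' * p₁ := congrArg Subtype.val hgg
      have h3 : (g : Γ)⁻¹ * p₁⁻¹ * g = (g' : Γ)⁻¹ * p₁⁻¹ * g' := mul_right_cancel h2
      have h4 : (g : Γ)⁻¹ * p₁ * g = (g' : Γ)⁻¹ * p₁ * g' := by
        have := congrArg (·⁻¹) h3
        simp only [mul_inv_rev, inv_inv] at this
        rw [mul_assoc, mul_assoc]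
        exact this
      calc (g : Γ) * (g' : Γ)⁻¹ * p₁ = g * ((g' : Γ)⁻¹ * p₁ * g') * (g' : Γ)⁻¹ := by group
        _ = g * ((g : Γ)⁻¹ * p₁ * g) * (g' : Γ)⁻¹ := by rw [h4]
        _ = p₁ * ((g : Γ) * (g' : Γ)⁻¹) := by group)
    have h2 : Nat.card (Set.range F) ≤ Nat.card V :=
      Nat.card_le_card_of_injective (Subtype.val) Subtype.val_injective
    rw [hP.card_E] at h2
    rw [hP.card_Q] at h1
    have h3 : (2 ^ k) ^ 3 ≤ Nat.card (P ⊓ centralizer {p₁} : Subgroup Γ) * 2 ^ k :=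
      h1.trans (Nat.mul_le_mul_left _ h2)
    rw [pow_succ] at h3
    exact Nat.le_of_mul_le_mul_right h3 (by omega)
  obtain ⟨p₂, hp₂, hp₂B⟩ : ∃ p ∈ P ⊓ centralizer {p₁}, p ∉ B₁ := by
    by_contra hcon
    push Not at hcon
    have hfB : Finite B₁ := Finite.of_injective _ (inclusion_injective hB₁P)
    have h1 : Nat.card (P ⊓ centralizer {p₁} : Subgroup Γ) ≤ Nat.card B₁ :=
      Nat.card_le_card_of_injective
        (inclusion (show P ⊓ centralizer {p₁} ≤ B₁ from hcon)) (inclusion_injective _)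
    rw [hc₁] at h1
    nlinarith only [hq4, hcC, h1]
  have hp₂c : Commute p₂ p₁ := mem_centralizer_singleton_iff.mp hp₂.2
  have hp₂B' : ∀ b ∈ B₁, Commute p₂ b :=
    commute_step (fun v hv => (hP.central v hv p₂ hp₂.1).symm) hp₂c
  have hfB : Finite B₁ := Finite.of_injective _ (inclusion_injective hB₁P)
  refine ⟨step B₁ p₂ (le_step (hP.sq p₂ hp₂.1)) hp₂B', le_step.trans le_step,
    step_le hB₁P hp₂.1, comm_step hB₁c, ?_⟩
  rw [card_step hp₂B, hc₁]
  ring

/-- squaring `A → V` is onto -/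
theorem exists_sqrt {A V : Subgroup Γ} [Finite A] {k : ℕ} (hAc : ∀ x ∈ A, ∀ y ∈ A, Commute x y)
    (hVA : V ≤ A) (hV : Nat.card V = 2 ^ k) (hA : Nat.card A = (2 ^ k) ^ 2)
    (hsq : ∀ x ∈ A, x * x ∈ V) (hinv : ∀ x ∈ A, x * x = 1 → x ∈ V) {v : Γ} (hv : v ∈ V) :
    ∃ a ∈ A, a * a = v := by
  have hfV : Finite V := Finite.of_injective _ (inclusion_injective hVA)
  have hq : 0 < 2 ^ k := by positivity
  let F : A → V := fun x => ⟨(x : Γ) * x, hsq x x.2⟩
  have h1 := card_le_mul_range (Q := A) (E := V) hVA F (by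
    intro g g' hgg
    have h2 : (g : Γ) * g = (g' : Γ) * g' := congrArg Subtype.val hgg
    apply hinv _ (A.mul_mem g.2 (A.inv_mem g'.2))
    have h3 := (hAc _ g.2 _ (A.inv_mem g'.2)).eq
    calc (g : Γ) * (g' : Γ)⁻¹ * (g * (g' : Γ)⁻¹) = g * ((g' : Γ)⁻¹ * g) * (g' : Γ)⁻¹ := by group
      _ = g * (g * (g' : Γ)⁻¹) * (g' : Γ)⁻¹ := by rw [h3]
      _ = (g * g) * ((g' : Γ) * g')⁻¹ := by group
      _ = 1 := by rw [h2, mul_inv_cancel])
  rw [hV, hA, pow_two] at h1
  have h2 : 2 ^ k ≤ Nat.card (Set.range F) := Nat.le_of_mul_le_mul_left h1 hq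
  have h3 : Set.range F = Set.univ := by
    apply Set.eq_of_subset_of_ncard_le (Set.subset_univ _)
    · rw [Set.ncard_univ, hV, ← Nat.card_coe_set_eq]
      exact h2
  have h4 : (⟨v, hv⟩ : V) ∈ Set.range F := by rw [h3]; exact Set.mem_univ _
  obtain ⟨a, ha⟩ := h4
  exact ⟨a, a.2, congrArg Subtype.val ha⟩

/-- the abelian subgroup `X` -/
theorem exists_X {A P V : Subgroup Γ} {k : ℕ} (hP : QE P V k)
    (hAc : ∀ x ∈ A, ∀ y ∈ A, Commute x y) (hVA : V ≤ A) (hA : Nat.card A = (2 ^ k) ^ 2)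
    (hAsq : ∀ x ∈ A, x * x ∈ V) (hAinv : ∀ x ∈ A, x * x = 1 → x ∈ V)
    (hAP : ∀ x ∈ A, ∀ p ∈ P, Commute x p) (hAPV : ∀ x ∈ A, x ∈ P → x ∈ V) :
    ∃ X : Subgroup Γ, V ≤ X ∧ (∀ x ∈ X, ∃ a ∈ A, ∃ p ∈ P, x = a * p) ∧
      (∀ x ∈ X, ∀ y ∈ X, Commute x y) ∧ (∀ x ∈ X, x * x ∈ V) ∧
      4 * (2 ^ k) ^ 2 ≤ Nat.card X ∧ 4 * 2 ^ k ≤ Nat.card {i : Γ // i ∈ X ∧ i * i = 1} := by
  classical
  have hq : 0 < 2 ^ k := by positivity
  have hfP : Finite P := hP.fin
  have hfA : Finite A := by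
    apply Nat.finite_of_card_ne_zero
    rw [hA]; positivity
  have hfV : Finite V := Finite.of_injective _ (inclusion_injective hP.le)
  obtain ⟨B, hVB, hBP, hBc, hcB⟩ := exists_abelian hP
  have hfB : Finite B := Finite.of_injective _ (inclusion_injective hBP)
  have hcomm : ∀ (a : A) (b : B), Commute (A.subtype a) (B.subtype b) :=
    fun a b => hAP a a.2 b (hBP b.2)
  let f : A × B →* Γ := MonoidHom.noncommCoprod A.subtype B.subtype hcomm
  have hf : ∀ x : A × B, f x = (x.1 : Γ) * x.2 := fun x => rfl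
  have hfr : Finite f.range := Finite.of_surjective _ f.rangeRestrict_surjective
  have hX : ∀ x ∈ f.range, ∃ a ∈ A, ∃ b ∈ B, x = a * b := by
    rintro _ ⟨x, rfl⟩
    exact ⟨x.1, x.1.2, x.2, x.2.2, hf x⟩
  have hXc : ∀ x ∈ f.range, ∀ y ∈ f.range, Commute x y := by
    intro x hx y hy
    obtain ⟨a, ha, b, hb, rfl⟩ := hX x hx
    obtain ⟨a', ha', b', hb', rfl⟩ := hX y hy
    have h1 : Commute a (a' * b') := (hAc a ha a' ha').mul_right (hAP a ha b' (hBP hb'))
    have h2 : Commute b (a' * b') := ((hAP a' ha' b (hBP hb)).symm).mul_right (hBc b hb b' hb')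
    exact h1.mul_left h2
  refine ⟨f.range, ?_, ?_, hXc, ?_, ?_, ?_⟩
  · intro v hv
    exact ⟨(⟨v, hVA hv⟩, 1), by rw [hf]; simp⟩
  · intro x hx
    obtain ⟨a, ha, b, hb, rfl⟩ := hX x hx
    exact ⟨a, ha, b, hBP hb, rfl⟩
  · intro x hx
    obtain ⟨a, ha, b, hb, rfl⟩ := hX x hx
    have h1 := (hAP a ha b (hBP hb)).eq
    have h2 : a * b * (a * b) = (a * a) * (b * b) := by
      calc a * b * (a * b) = a * (b * a) * b := by group
        _ = a * (a * b) * b := by rw [h1]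
        _ = _ := by group
    rw [h2]
    exact V.mul_mem (hAsq a ha) (hP.sq b (hBP hb))
  · -- the order of `X`
    have h1 : Nat.card f.ker ≤ 2 ^ k := by
      rw [← hP.card_E]
      refine Nat.card_le_card_of_injective (fun x : f.ker => (⟨x.1.1, ?_⟩ : V)) ?_
      · have h2 : (x.1.1 : Γ) * x.1.2 = 1 := (hf x.1).symm.trans x.2
        apply hAPV _ x.1.1.2
        rw [eq_inv_of_mul_eq_one_left h2]
        exact P.inv_mem (hBP x.1.2.2)
      · intro x y hxy
        have hx : (x.1.1 : Γ) * x.1.2 = 1 := (hf x.1).symm.trans x.2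
        have hy : (y.1.1 : Γ) * y.1.2 = 1 := (hf y.1).symm.trans y.2
        have h3 : (x.1.1 : Γ) = y.1.1 := congrArg (fun z : V => (z : Γ)) hxy
        have h4 : (x.1.2 : Γ) = y.1.2 := by
          rw [eq_inv_of_mul_eq_one_right hx, eq_inv_of_mul_eq_one_right hy, h3]
        exact Subtype.ext (Prod.ext (Subtype.ext h3) (Subtype.ext h4))
    have h2 : Nat.card f.ker * Nat.card f.range = Nat.card (A × B) := by
      have h3 := f.ker.card_mul_index
      rwa [index_ker] at h3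
    rw [Nat.card_prod, hA, hcB] at h2
    have h3 : (2 ^ k) ^ 2 * (4 * 2 ^ k) ≤ 2 ^ k * Nat.card f.range := by
      rw [← h2]; exact Nat.mul_le_mul_right _ h1
    apply Nat.le_of_mul_le_mul_left _ hq
    calc 2 ^ k * (4 * (2 ^ k) ^ 2) = (2 ^ k) ^ 2 * (4 * 2 ^ k) := by ring
      _ ≤ _ := h3
  · -- the involutions of `X`
    have hsq := fun (v : Γ) (hv : v ∈ V) => exists_sqrt hAc hVA hP.card_E hA hAsq hAinv hv
    choose s hs hs2 using hsq
    rw [← hcB]
    have hfI : Finite {i : Γ // i ∈ f.range ∧ i * i = 1} :=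
      Finite.of_injective (fun i => (⟨i.1, i.2.1⟩ : f.range)) (fun i j hij =>
        Subtype.ext (congrArg (fun x : f.range => (x : Γ)) hij))
    have hbsq : ∀ b : B, (b : Γ) * b ∈ V := fun b => hP.sq b (hBP b.2)
    refine Nat.card_le_card_of_injective
      (fun b : B => (⟨(s _ (hbsq b))⁻¹ * b, ?_, ?_⟩ : {i : Γ // i ∈ f.range ∧ i * i = 1})) ?_
    · exact ⟨((⟨s _ (hbsq b), hs _ _⟩ : A)⁻¹, b), rfl⟩
    · have h1 : Commute (s _ (hbsq b))⁻¹ (b : Γ) :=
        (hAP _ (hs _ (hbsq b)) b (hBP b.2)).inv_left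
      have h2 : (s _ (hbsq b))⁻¹ * b * ((s _ (hbsq b))⁻¹ * b) =
          (s _ (hbsq b) * s _ (hbsq b))⁻¹ * (b * b) := by
        calc (s _ (hbsq b))⁻¹ * b * ((s _ (hbsq b))⁻¹ * b)
            = (s _ (hbsq b))⁻¹ * (b * (s _ (hbsq b))⁻¹) * b := by group
          _ = (s _ (hbsq b))⁻¹ * ((s _ (hbsq b))⁻¹ * b) * b := by rw [h1.eq]
          _ = _ := by group
      rw [h2, hs2, inv_mul_cancel]
    · intro b b' hbb
      have h1 : (s _ (hbsq b))⁻¹ * (b : Γ) = (s _ (hbsq b'))⁻¹ * (b' : Γ) :=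
        congrArg (fun x : {i : Γ // i ∈ f.range ∧ i * i = 1} => (x : Γ)) hbb
      -- `b * b'⁻¹ ∈ V`
      have h2 : (b : Γ) * (b' : Γ)⁻¹ = s _ (hbsq b) * (s _ (hbsq b'))⁻¹ := by
        calc (b : Γ) * (b' : Γ)⁻¹ = s _ (hbsq b) * ((s _ (hbsq b))⁻¹ * b) * (b' : Γ)⁻¹ := by group
          _ = s _ (hbsq b) * ((s _ (hbsq b'))⁻¹ * b') * (b' : Γ)⁻¹ := by rw [h1]
          _ = _ := by group
      have h3 : (b : Γ) * (b' : Γ)⁻¹ ∈ V := by
        apply hAPV
        · rw [h2]; exact A.mul_mem (hs _ _) (A.inv_mem (hs _ _))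
        · exact P.mul_mem (hBP b.2) (P.inv_mem (hBP b'.2))
      have h4 : (b : Γ) * b = b' * b' := by
        have h5 : (b : Γ) = ((b : Γ) * (b' : Γ)⁻¹) * b' := by group
        have h6 := (hP.central _ h3 b' (hBP b'.2)).eq
        have h7 := hP.el _ h3
        calc (b : Γ) * b = (((b : Γ) * (b' : Γ)⁻¹) * b') * (((b : Γ) * (b' : Γ)⁻¹) * b') := by
              rw [← h5]
          _ = ((b : Γ) * (b' : Γ)⁻¹) * (b' * ((b : Γ) * (b' : Γ)⁻¹)) * b' := by group
          _ = ((b : Γ) * (b' : Γ)⁻¹) * (((b : Γ) * (b' : Γ)⁻¹) * b') * b' := by rw [h6]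
          _ = (((b : Γ) * (b' : Γ)⁻¹) * ((b : Γ) * (b' : Γ)⁻¹)) * (b' * b') := by group
          _ = b' * b' := by rw [h7, one_mul]
      have h5 : s _ (hbsq b) = s _ (hbsq b') := by
        congr 1
      rw [h5] at h1
      exact Subtype.ext (mul_left_cancel h1)

end Cfsg.Agent.AschCrit.CommFive.EndAlg
end

-- part: AschCrit/CommFive/End
section
/-!
# Aschbacher's criterion, commutative case (C5): the end

`Ctx.end_false` : there are no subgroups `A`, `P` of `G_a` with `V_a ≤ A`, `A` abelian of order `q²`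
with involutions in `V_a`, `QE P V_a k`, `[A, P] = 1`, `A ∩ P = V_a`.
-/

set_option autoImplicit false

namespace Cfsg.Agent.AschCrit.CommFive

open Cfsg.Agent.TwoFusion.StronglyEmbeddedBasic Cfsg.Agent.AschCrit.Basic

variable {G Ω : Type*} [Group G] [MulAction G Ω] {z : G} {V : Ω → Subgroup G} {k : ℕ}

theorem Ctx.end_false [Finite G] (c : Ctx Ω z V k) {a : Ω} {A P : Subgroup G}
    (_hA2 : IsPGroup 2 A) (hAc : ∀ x ∈ A, ∀ y ∈ A, Commute x y) (hAV : V a ≤ A)
    (hA : Nat.card A = (2 ^ k) ^ 2) (hAsq : ∀ x ∈ A, x * x ∈ V a)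
    (hAinv : ∀ x ∈ A, x * x = 1 → x ∈ V a) (hAa : ∀ x ∈ A, x • a = a) (hP : QE P (V a) k)
    (hPa : ∀ x ∈ P, x • a = a) (hAP : ∀ x ∈ A, ∀ p ∈ P, Commute x p)
    (hAPV : ∀ x ∈ A, x ∈ P → x ∈ V a) : False := by
  obtain ⟨X, hVX, hX, hXc, hXsq, hXcard, hI⟩ :=
    EndAlg.exists_X hP hAc hAV hA hAsq hAinv hAP hAPV
  refine c.false_of_abelian hVX (fun x hx => ?_) hXc hXsq hXcard hI
  obtain ⟨g, hg, p, hp, rfl⟩ := hX x hx
  rw [mul_smul, hPa p hp, hAa g hg]

end Cfsg.Agent.AschCrit.CommFive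
end

-- part: AschCrit/CommFive/Main
section
/-!
# Aschbacher's criterion, commutative case (C5): the end

`Ctx.false` : the context of (C5) has no bad involution.
-/

set_option autoImplicit false

namespace Cfsg.Agent.AschCrit.CommFive

open Cfsg.Agent.TwoFusion.StronglyEmbeddedBasic Cfsg.Agent.AschCrit.Basic
open Cfsg.Agent.AschCrit.Basic.Setup Cfsg.Agent.AschCrit.Closed Cfsg.Agent.AschCrit.Descent

variable {G Ω : Type*} [Group G] [MulAction G Ω] {z : G} {V : Ω → Subgroup G} {k : ℕ}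

/-- the context of (C5) has no bad involution -/
theorem Ctx.false [Finite G] (c : Ctx Ω z V k) {u : G} (hu : Bad Ω u) : False := by
  obtain ⟨-, a, -, -, hua, -⟩ := id hu
  obtain ⟨b, Q, y, W, D⟩ := c.exists_UD hu hua
  obtain ⟨A, P, hA, hP, hPa, hAP, hAPV⟩ := D.exists_AP c
  exact c.end_false hA.two hA.comm hA.V_le hA.card hA.sq hA.inv hA.fa hP hPa hAP hAPV

end Cfsg.Agent.AschCrit.CommFive
end

-- part: AschCrit/Final
section
/-!
# Aschbacher's criterion: assembly of the step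

`stepHolds` : `StepHolds` from the odd order theorem, Bender's theorem and the case (c3) of the commutative case.
-/

set_option autoImplicit false

universe u

namespace Cfsg.Agent.AschCrit.Final

open Cfsg.Agent.AschCrit.Basic Cfsg.Agent.AschCrit.CommCase Cfsg.Agent.StrongEmb.Split
open Cfsg.Agent.AschCrit.Closed Cfsg.Agent.AschCrit.Basic.Setup

/-- the step of the induction -/
theorem stepHolds
    (hFT : ∀ (K : Type u) [Group K] [Finite K], Odd (Nat.card K) → Group.IsSolvable K)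
    (hB : ∀ (X : Type u) [Group X] [Finite X], BenderHolds X)
    (h3 : ∀ (G Ω : Type u) [Group G] [Finite G] [MulAction G Ω] (z : G) (k : ℕ),
      CaseHyp G Ω z k 1 → (∀ a : Ω, Nat.card (At z a) + 1 = 2 ^ k) →
      Nat.card Ω = (2 ^ k) ^ 3 + 1 → False) :
    Frame.StepHolds.{u} :=
  Frame.stepHolds (CommuteFinal.commuteHolds hFT)
    (commCaseFalse hB CommTwoFinal.caseTwo h3 CommFour.CaseFour.case_four
      (fun G Ω _ _ _ z k hC hat _ => CommFive.caseFive_of_false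
        (fun _ _ _ _ _ _ _ _ c _ hu => c.false hu) G Ω z k hC hat))

end Cfsg.Agent.AschCrit.Final
end

-- part: AschCrit/ThreeOddA
section
/-!
# Aschbacher's criterion, commutative case, unital type: `|cl b| = q ^ 2`, counting

`odd_count` : an involution of `S` fixing `b` is unique, and every point of the `W`-orbit of `b` outside the
`V`-orbit of `b` is `t • b` for an involution `t ∈ S ∖ V`.
-/

set_option autoImplicit false

namespace Cfsg.Agent.AschCrit.ThreeOddA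

open Subgroup Cfsg.Agent.AschCrit.ThreeGeo Cfsg.Agent.AschCrit.ThreeLam

variable {G Ω : Type*} [Group G] [MulAction G Ω]
variable {a b : Ω} {V : Subgroup G} {k : ℕ}

/-- the involutions of `S` outside `V` -/
def KK (S V : Subgroup G) : Set G := {t | t ∈ S ∧ t * t = 1 ∧ t ∉ V}

/-- those fixing `b` -/
def II (S V : Subgroup G) (b : Ω) : Set G := {t | t ∈ KK S V ∧ t • b = b}

/-- those with `t • b ∈ V b` -/
def K1 (S V : Subgroup G) (b : Ω) : Set G := {t | t ∈ KK S V ∧ ∃ x ∈ V, x • b = t • b}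

theorem card_count {q : ℕ} [Finite G] (h : Geo a V q) (hb : b ≠ a) (S : Subgroup G)
    (hSa : ∀ s ∈ S, s • a = a) (hVS : V ≤ S)
    (hStr : ∀ c, c ≠ a → ∃ s ∈ S, s • b = c) :
    (KK S V).ncard * q = q ^ 3 * (II S V b).ncard := by
  haveI := h.finite
  set P : Set (G × Ω) := {p | p.1 ∈ KK S V ∧ p.2 ≠ a ∧ p.1 • p.2 = p.2} with hP
  -- first count
  have hex : ∀ t : KK S V, ∃ c : Ω, c ≠ a ∧ (t : G) • c = c := fun t =>
    h.ex_fix t t.2.2.1 (hSa _ t.2.1) t.2.2.2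
  choose c0 hc0 hc0f using hex
  let F : KK S V × V → P := fun p => ⟨((p.1 : G), (p.2 : G) • c0 p.1), p.1.2,
    Geo.smul_ne (h.V_a _ p.2.2) (hc0 _), by
      show (p.1 : G) • (p.2 : G) • c0 p.1 = (p.2 : G) • c0 p.1
      rw [h.W_smul_V (h.invol_mem_W p.1.2.2.1 (hSa _ p.1.2.1)) p.2.2, hc0f]⟩
  have hF : Function.Bijective F := by
    constructor
    · rintro ⟨t, x⟩ ⟨t', x'⟩ he
      have h1 := Prod.ext_iff.mp (Subtype.ext_iff.mp he)
      have h2 : t = t' := Subtype.ext h1.1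
      subst h2
      have h3 : (x : G) • c0 t = (x' : G) • c0 t := h1.2
      have h4 : x = x' := Subtype.ext (h.eq_of_smul x.2 x'.2 (hc0 t) h3)
      rw [h4]
    · rintro ⟨⟨t, c⟩, ht, hc, htc⟩
      have hne : t ≠ 1 := fun h1 => ht.2.2 (h1 ▸ V.one_mem)
      obtain ⟨x, hx, hxc⟩ := h.orb t ht.2.1 hne (hSa _ ht.1) (c0 ⟨t, ht⟩) c (hc0 _) hc
        (hc0f ⟨t, ht⟩) htc
      exact ⟨(⟨t, ht⟩, ⟨x, hx⟩), Subtype.ext (Prod.ext rfl hxc)⟩
  have e1 : Nat.card P = (KK S V).ncard * q := by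
    rw [← Nat.card_congr (Equiv.ofBijective F hF), Nat.card_prod, h.card_V, Nat.card_coe_set_eq]
  -- second count
  have hs : ∀ c : {c : Ω | c ≠ a}, ∃ s ∈ S, s • b = (c : Ω) := fun c => hStr c c.2
  choose s hsS hsb using hs
  have hconj : ∀ {g t : G}, g ∈ S → t ∈ KK S V → g * t * g⁻¹ ∈ KK S V := by
    rintro g t hg ⟨ht, htt, htV⟩
    refine ⟨S.mul_mem (S.mul_mem hg ht) (S.inv_mem hg), ?_, fun hV => htV ?_⟩
    · calc g * t * g⁻¹ * (g * t * g⁻¹) = g * (t * t) * g⁻¹ := by group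
        _ = 1 := by rw [htt]; group
    · have h1 := h.V_conj g⁻¹ (Geo.inv_a (hSa g hg)) _ hV
      have h2 : g⁻¹ * (g * t * g⁻¹) * g⁻¹⁻¹ = t := by group
      rwa [h2] at h1
  let F' : {c : Ω | c ≠ a} × II S V b → P := fun p =>
    ⟨(s p.1 * (p.2 : G) * (s p.1)⁻¹, (p.1 : Ω)), hconj (hsS p.1) p.2.2.1, p.1.2, by
      show (s p.1 * (p.2 : G) * (s p.1)⁻¹) • (p.1 : Ω) = (p.1 : Ω)
      have h1 : (s p.1)⁻¹ • (p.1 : Ω) = b := by rw [inv_smul_eq_iff, hsb]
      rw [mul_smul, mul_smul, h1, p.2.2.2, hsb]⟩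
  have hF' : Function.Bijective F' := by
    constructor
    · rintro ⟨c, t⟩ ⟨c', t'⟩ he
      have h1 := Prod.ext_iff.mp (Subtype.ext_iff.mp he)
      have h2 : c = c' := Subtype.ext h1.2
      subst h2
      have h3 : s c * (t : G) * (s c)⁻¹ = s c * (t' : G) * (s c)⁻¹ := h1.1
      have h4 : t = t' := Subtype.ext (mul_left_cancel (mul_right_cancel h3))
      rw [h4]
    · rintro ⟨⟨t, c⟩, ht, hc, htc⟩
      have htc' : t • c = c := htc
      refine ⟨(⟨c, hc⟩, ⟨(s ⟨c, hc⟩)⁻¹ * t * s ⟨c, hc⟩, ?_, ?_⟩), ?_⟩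
      · have := hconj (S.inv_mem (hsS ⟨c, hc⟩)) ht
        rwa [inv_inv] at this
      · rw [mul_smul, mul_smul, hsb]
        show (s ⟨c, hc⟩)⁻¹ • t • c = b
        rw [htc', inv_smul_eq_iff, hsb]
      · apply Subtype.ext
        apply Prod.ext
        · show s ⟨c, hc⟩ * ((s ⟨c, hc⟩)⁻¹ * t * s ⟨c, hc⟩) * (s ⟨c, hc⟩)⁻¹ = t
          group
        · rfl
  have e2 : Nat.card P = q ^ 3 * (II S V b).ncard := by
    rw [← Nat.card_congr (Equiv.ofBijective F' hF'), Nat.card_prod, Nat.card_coe_set_eq,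
      Nat.card_coe_set_eq, h.card_pts]
  rw [← e1, e2]

theorem card_K1 {q : ℕ} [Finite G] (h : Geo a V q) (hb : b ≠ a) (S : Subgroup G)
    (hSa : ∀ s ∈ S, s • a = a) (hVS : V ≤ S) :
    (K1 S V b).ncard = q * (II S V b).ncard := by
  let F : V × II S V b → K1 S V b := fun p => ⟨(p.1 : G) * (p.2 : G),
    ⟨S.mul_mem (hVS p.1.2) p.2.2.1.1, h.mul_sq p.2.2.1.2.1 (hSa _ p.2.2.1.1) p.1.2,
      h.mul_not_mem p.2.2.1.2.2 p.1.2⟩, p.1, p.1.2, by rw [mul_smul, p.2.2.2]⟩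
  have hF : Function.Bijective F := by
    constructor
    · rintro ⟨x, t⟩ ⟨x', t'⟩ he
      have h1 : (x : G) * (t : G) = (x' : G) * (t' : G) := Subtype.ext_iff.mp he
      have h2 : ((x : G) * (t : G)) • b = ((x' : G) * (t' : G)) • b := by rw [h1]
      rw [mul_smul, mul_smul, t.2.2, t'.2.2] at h2
      have h3 : x = x' := Subtype.ext (h.eq_of_smul x.2 x'.2 hb h2)
      subst h3
      have h4 : t = t' := Subtype.ext (mul_left_cancel h1)
      rw [h4]
    · rintro ⟨t, ⟨htS, htt, htV⟩, x, hx, hxt⟩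
      have hxi := h.inv_V hx
      refine ⟨(⟨x, hx⟩, ⟨x * t, ⟨S.mul_mem (hVS hx) htS, h.mul_sq htt (hSa _ htS) hx,
        h.mul_not_mem htV hx⟩, ?_⟩), Subtype.ext ?_⟩
      · rw [mul_smul, ← hxt, ← mul_smul, h.V_sq x hx, one_smul]
      · show x * (x * t) = t
        rw [← mul_assoc, h.V_sq x hx, one_mul]
  rw [← Nat.card_coe_set_eq, ← Nat.card_congr (Equiv.ofBijective F hF), Nat.card_prod, h.card_V,
    Nat.card_coe_set_eq]

theorem inj_K2 {q : ℕ} (h : Geo a V q) (hb : b ≠ a) (S : Subgroup G)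
    (hSa : ∀ s ∈ S, s • a = a) (hS2 : ∀ s ∈ S, ∃ n : ℕ, s ^ 2 ^ n = 1) {t t' : G}
    (ht : t ∈ KK S V) (ht' : t' ∈ KK S V) (hn : ∀ x ∈ V, x • b ≠ t • b)
    (he : t • b = t' • b) : t = t' := by
  by_contra hne
  obtain ⟨htS, htt, htV⟩ := ht
  obtain ⟨htS', htt', htV'⟩ := ht'
  have hti : t⁻¹ = t := inv_eq_of_mul_eq_one_right htt
  have hti' : t'⁻¹ = t' := inv_eq_of_mul_eq_one_right htt'
  have hr1 : t * t' ≠ 1 := by
    intro h1
    apply hne
    rw [← hti']
    exact eq_inv_of_mul_eq_one_left h1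
  have hrb : (t * t') • b = b := by
    rw [mul_smul, ← he, ← mul_smul, htt, one_smul]
  obtain ⟨m, hm1, hm2⟩ := exists_pow_invol (hS2 _ (S.mul_mem htS htS')) hr1
  have hinv : t * (t * t') * t⁻¹ = (t * t')⁻¹ := by
    rw [mul_inv_rev, hti', hti, ← mul_assoc, htt, one_mul]
  have hcomm : t * (t * t') ^ m * t⁻¹ = (t * t') ^ m := by
    rw [← conj_pow, hinv, inv_pow]
    exact inv_eq_of_mul_eq_one_right hm1
  have hrb0 : (t * t') ^ m • b = b := pow_smul_eq hrb m
  have hrb1 : (t * t') ^ m • t • b = t • b := by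
    have h1 : (t * t') ^ m * t = t * (t * t') ^ m := by
      have := mul_inv_eq_iff_eq_mul.mp hcomm
      exact this.symm
    rw [← mul_smul, h1, mul_smul, hrb0]
  obtain ⟨x, hx, hxb⟩ := h.orb _ hm1 hm2 (hSa _ (S.pow_mem (S.mul_mem htS htS') m)) b (t • b) hb
    (Geo.smul_ne (hSa t htS) hb) hrb0 hrb1
  exact hn x hx hxb

theorem odd_count [Finite G] (h : Geo a V (2 ^ k)) (hb : b ≠ a) (S : Subgroup G)
    (hSa : ∀ s ∈ S, s • a = a) (hVS : V ≤ S) (hS2 : ∀ s ∈ S, ∃ n : ℕ, s ^ 2 ^ n = 1)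
    (hStr : ∀ c, c ≠ a → ∃ s ∈ S, s • b = c) (hcl : (h.cl b).ncard = 2 ^ k * 2 ^ k)
    {u : G} (huS : u ∈ S) (hu : u * u = 1) (hu1 : u ≠ 1) (hub : u • b = b) :
    (∀ t ∈ S, t * t = 1 → t ≠ 1 → t • b = b → t = u) ∧
    (∀ c ∈ h.cl b, (∀ x ∈ V, x • b ≠ c) → ∃ t ∈ S, t * t = 1 ∧ t ∉ V ∧ t • b = c) := by
  haveI := h.finite
  have h4 := h.four_le
  have huV := not_mem_V h hb hu1 hub
  have c1 := card_count h hb S hSa hVS hStr
  have c2 := card_K1 h hb S hSa hVS
  set q : ℕ := 2 ^ k with hq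
  have hqpos : 0 < q := by omega
  have hsub1 : K1 S V b ⊆ KK S V := fun t ht => ht.1
  have c3 : (KK S V \ K1 S V b).ncard + (K1 S V b).ncard = (KK S V).ncard :=
    Set.ncard_sdiff_add_ncard_of_subset hsub1 (Set.toFinite _)
  have c4 : (h.cl b \ vb b V).ncard + (vb b V).ncard = (h.cl b).ncard :=
    Set.ncard_sdiff_add_ncard_of_subset (vb_sub_cl h b) (Set.toFinite _)
  rw [card_vb h hb, hcl] at c4
  -- the map
  have hmaps : ∀ t ∈ KK S V \ K1 S V b, t • b ∈ h.cl b \ vb b V := by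
    rintro t ⟨ht, ht1⟩
    refine ⟨⟨t, h.invol_mem_W ht.2.1 (hSa t ht.1), rfl⟩, ?_⟩
    rintro ⟨x, hx, hxb⟩
    exact ht1 ⟨ht, x, hx, hxb⟩
  have hinj : Set.InjOn (fun t : G => t • b) (KK S V \ K1 S V b) := by
    rintro t ⟨ht, ht1⟩ t' ⟨ht', -⟩ he
    exact inj_K2 h hb S hSa hS2 ht ht' (fun x hx hxb => ht1 ⟨ht, x, hx, hxb⟩) he
  have c5 : (KK S V \ K1 S V b).ncard ≤ (h.cl b \ vb b V).ncard :=
    Set.ncard_le_ncard_of_injOn _ hmaps hinj (Set.toFinite _)
  have huI : u ∈ II S V b := ⟨⟨huS, hu, huV⟩, hub⟩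
  have hipos : 0 < (II S V b).ncard := (Set.ncard_pos (Set.toFinite _)).mpr ⟨u, huI⟩
  set i := (II S V b).ncard with hi
  set N := (KK S V).ncard with hN
  set M := (KK S V \ K1 S V b).ncard with hM
  set L := (h.cl b \ vb b V).ncard with hL
  have c1' : N = q * q * i := by
    have : N * q = (q * q * i) * q := by rw [c1]; ring
    exact Nat.eq_of_mul_eq_mul_right hqpos this
  have hi1 : i = 1 := by
    rw [c2, c1'] at c3
    by_contra hne
    have h2 : 2 ≤ i := by omega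
    have hqq : 4 * q ≤ q * q := Nat.mul_le_mul_right q h4
    nlinarith only [h4, hq, c3, c4, c5, h2, hqq]
  have c6 : M = L := by
    rw [c2, c1', hi1] at c3
    nlinarith only [hq, c3, c4]
  constructor
  · intro t htS htt ht1 htb
    have htI : t ∈ II S V b := ⟨⟨htS, htt, not_mem_V h hb ht1 htb⟩, htb⟩
    rw [hi, Set.ncard_eq_one] at hi1
    obtain ⟨v, hv⟩ := hi1
    rw [hv] at huI htI
    rw [Set.mem_singleton_iff] at huI htI
    rw [htI, huI]
  · intro c hc hcv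
    have himg : (fun t : G => t • b) '' (KK S V \ K1 S V b) = h.cl b \ vb b V := by
      apply Set.eq_of_subset_of_ncard_le
      · rintro _ ⟨t, ht, rfl⟩
        exact hmaps t ht
      · rw [Set.ncard_image_of_injOn hinj, ← hM, c6]
      · exact Set.toFinite _
    have hc' : c ∈ h.cl b \ vb b V := ⟨hc, by rintro ⟨x, hx, hxb⟩; exact hcv x hx hxb⟩
    rw [← himg] at hc'
    obtain ⟨t, ⟨ht, -⟩, htc⟩ := hc'
    exact ⟨t, ht.1, ht.2.1, ht.2.2, htc⟩

end Cfsg.Agent.AschCrit.ThreeOddA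
end

-- part: AschCrit/ThreeOddB
section
/-!
# Aschbacher's criterion, commutative case, unital type: `W`-orbits of length `q ^ 2`

The homocyclic subgroup `Q` of a Sylow 2-subgroup `S` of `G_a`, inverted by the involutions of
`S ∖ V`.
-/

set_option autoImplicit false

namespace Cfsg.Agent.AschCrit.ThreeOddB

open Subgroup Cfsg.Agent.AschCrit.ThreeGeo Cfsg.Agent.AschCrit.ThreeLam

variable {G Ω : Type*} [Group G] [MulAction G Ω]

structure Ctx (a b : Ω) (V S : Subgroup G) (k : ℕ) (u : G) : Prop where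
  geo : Geo a V (2 ^ k)
  hb : b ≠ a
  hSa : ∀ s ∈ S, s • a = a
  hVS : V ≤ S
  hS2 : ∀ s ∈ S, ∃ n : ℕ, s ^ 2 ^ n = 1
  hStr : ∀ c, c ≠ a → ∃ s ∈ S, s • b = c
  hcl : (geo.cl b).ncard = 2 ^ k * 2 ^ k
  huS : u ∈ S
  hu : u * u = 1
  hu1 : u ≠ 1
  hub : u • b = b
  hI : ∀ t ∈ S, t * t = 1 → t ≠ 1 → t • b = b → t = u
  hK : ∀ c ∈ geo.cl b, (∀ x ∈ V, x • b ≠ c) → ∃ t ∈ S, t * t = 1 ∧ t ∉ V ∧ t • b = c
  hTh : geo.Th u = geo.cl b
  hconj : ∀ g ∈ geo.W, ∃ y ∈ V, (g * u * g⁻¹) • b = y • b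

namespace Ctx

variable {a b : Ω} {V S : Subgroup G} {k : ℕ} {u : G}

theorem u_not_mem (h : Ctx a b V S k u) : u ∉ V := not_mem_V h.geo h.hb h.hu1 h.hub

theorem hua (h : Ctx a b V S k u) : u • a = a := h.hSa u h.huS

theorem u_W (h : Ctx a b V S k u) : u ∈ h.geo.W := h.geo.invol_mem_W h.hu h.hua

theorem inv_u (h : Ctx a b V S k u) : u⁻¹ = u := inv_eq_of_mul_eq_one_right h.hu

theorem V_conj' (h : Ctx a b V S k u) {s x : G} (hs : s ∈ S) : s * x * s⁻¹ ∈ V ↔ x ∈ V := by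
  constructor
  · intro h1
    have h2 := h.geo.V_conj s⁻¹ (h.hSa _ (S.inv_mem hs)) _ h1
    have h3 : s⁻¹ * (s * x * s⁻¹) * s⁻¹⁻¹ = x := by group
    rwa [h3] at h2
  · exact h.geo.V_conj s (h.hSa s hs) x

/-- the involutions of `S` outside `V` -/
def KS (_ : Ctx a b V S k u) : Set G := {t | t ∈ S ∧ t * t = 1 ∧ t ∉ V}

theorem u_KS (h : Ctx a b V S k u) : u ∈ h.KS := ⟨h.huS, h.hu, h.u_not_mem⟩

theorem KS_W (h : Ctx a b V S k u) {t : G} (ht : t ∈ h.KS) : t ∈ h.geo.W :=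
  h.geo.invol_mem_W ht.2.1 (h.hSa t ht.1)

theorem inv_KS (h : Ctx a b V S k u) {t : G} (ht : t ∈ h.KS) : t⁻¹ = t :=
  inv_eq_of_mul_eq_one_right ht.2.1

theorem KS_conj (h : Ctx a b V S k u) {s t : G} (hs : s ∈ S) (ht : t ∈ h.KS) :
    s * t * s⁻¹ ∈ h.KS := by
  refine ⟨S.mul_mem (S.mul_mem hs ht.1) (S.inv_mem hs), ?_, fun h1 => ht.2.2
    ((h.V_conj' hs).mp h1)⟩
  calc s * t * s⁻¹ * (s * t * s⁻¹) = s * (t * t) * s⁻¹ := by group
    _ = 1 := by rw [ht.2.1]; group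

theorem KS_conj' (h : Ctx a b V S k u) {s t : G} (hs : s ∈ S) (ht : s * t * s⁻¹ ∈ h.KS) :
    t ∈ h.KS := by
  have h1 := h.KS_conj (S.inv_mem hs) ht
  have h3 : s⁻¹ * (s * t * s⁻¹) * s⁻¹⁻¹ = t := by group
  rwa [h3] at h1

theorem KS_eq (h : Ctx a b V S k u) {t : G} (ht : t ∈ h.KS) (htb : t • b = b) : t = u := by
  refine h.hI t ht.1 ht.2.1 ?_ htb
  rintro rfl
  exact ht.2.2 V.one_mem

/-- all elements of `KS` are conjugate in `S` to `u` -/
theorem KS_conj_u (h : Ctx a b V S k u) {t : G} (ht : t ∈ h.KS) : ∃ s ∈ S, t = s * u * s⁻¹ := by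
  obtain ⟨c, hca, htc⟩ := h.geo.ex_fix t ht.2.1 (h.hSa t ht.1) ht.2.2
  obtain ⟨s, hs, rfl⟩ := h.hStr c hca
  refine ⟨s, hs, ?_⟩
  have h1 := h.KS_conj (S.inv_mem hs) ht
  rw [inv_inv] at h1
  have h2 := h.KS_eq h1 (by rw [mul_smul, mul_smul, htc, inv_smul_smul])
  rw [← h2]
  group

theorem exists_out (h : Ctx a b V S k u) : ∃ c ∈ h.geo.cl b, ∀ x ∈ V, x • b ≠ c := by
  by_contra hcon
  push Not at hcon
  have h1 : h.geo.cl b ⊆ vb b V := fun c hc => by
    obtain ⟨x, hx, hxc⟩ := hcon c hc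
    exact ⟨x, hx, hxc⟩
  haveI := h.geo.finite
  have h2 := Set.ncard_le_ncard h1 (Set.toFinite _)
  rw [h.hcl, card_vb h.geo h.hb] at h2
  have := h.geo.four_le
  nlinarith

/-- `S ∩ W ∩ G_b = {1, u}` -/
theorem stab_cases (h : Ctx a b V S k u) {t : G} (htS : t ∈ S) (htW : t ∈ h.geo.W)
    (htb : t • b = b) : t = 1 ∨ t = u := by
  by_cases ht1 : t = 1
  · exact Or.inl ht1
  right
  have htu : t * u * t⁻¹ = u := by
    apply h.KS_eq (h.KS_conj htS h.u_KS)
    have : t⁻¹ • b = b := by rw [inv_smul_eq_iff, htb]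
    rw [mul_smul, mul_smul, this, h.hub, htb]
  have htu' : t * u = u * t := by rwa [mul_inv_eq_iff_eq_mul] at htu
  obtain ⟨c, hc, hcb⟩ := h.exists_out
  have hc' := hc
  rw [← h.hTh] at hc'
  obtain ⟨hca, x, hx, hxc⟩ := hc'
  have h1 : (x * u) • c = c := by rw [mul_smul, hxc, ← mul_smul, h.geo.V_sq x hx, one_smul]
  have h2 : (x * u) • t • c = t • c := by
    have h3 : x * u * t = t * (x * u) := by
      rw [mul_assoc, ← htu', ← mul_assoc, ← htW.2 x hx, mul_assoc]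
    rw [← mul_smul, h3, mul_smul, h1]
  have hne : x * u ≠ 1 := by
    intro h3
    apply h.u_not_mem
    rw [mul_eq_one_iff_inv_eq] at h3
    rw [← h3]; exact V.inv_mem hx
  obtain ⟨y, hy, hyc⟩ := h.geo.orb (x * u) (h.geo.mul_sq h.hu h.hua hx) hne
    (by rw [mul_smul, h.hua, h.geo.V_a x hx]) c (t • c) hca (Geo.smul_ne htW.1 hca) h1 h2
  have h3 : (t * t) • c = c := by
    rw [mul_smul, ← hyc, h.geo.W_smul_V htW hy, ← hyc, ← mul_smul, h.geo.V_sq y hy, one_smul]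
  have h4 : t * t = 1 := by
    by_contra hne2
    obtain ⟨n, hn⟩ := h.hS2 (t * t) (S.mul_mem htS htS)
    obtain ⟨m, hm1, hm2⟩ := exists_pow_invol ⟨n, hn⟩ hne2
    have h5 : (t * t) • b = b := by rw [mul_smul, htb, htb]
    have h6 : (t * t) • a = a := by rw [mul_smul, htW.1, htW.1]
    obtain ⟨z, hz, hzc⟩ := h.geo.orb _ hm1 hm2 (pow_smul_eq h6 m) b c h.hb hca
      (pow_smul_eq h5 m) (pow_smul_eq h3 m)
    exact hcb z hz hzc
  exact h.hI t htS h4 ht1 htb

theorem KS_inj (h : Ctx a b V S k u) {t t' : G} (ht : t ∈ h.KS) (ht' : t' ∈ h.KS)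
    (he : t • b = t' • b) (hout : ∀ x ∈ V, x • b ≠ t • b) : t = t' := by
  by_contra hne
  have hr1 : t * t' ≠ 1 := by
    intro h1
    apply hne
    rw [← inv_eq_iff_mul_eq_one] at h1
    rw [← h1, h.inv_KS ht]
  have h1 : (t * t') • b = b := by
    rw [mul_smul, ← he, ← mul_smul, ht.2.1, one_smul]
  have h2 : (t * t') • a = a := by rw [mul_smul, h.hSa t' ht'.1, h.hSa t ht.1]
  obtain ⟨n, hn⟩ := h.hS2 (t * t') (S.mul_mem ht.1 ht'.1)
  obtain ⟨m, hm1, hm2⟩ := exists_pow_invol ⟨n, hn⟩ hr1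
  have h3 : t * (t * t') * t⁻¹ = (t * t')⁻¹ := by
    rw [mul_inv_rev, h.inv_KS ht, h.inv_KS ht', ← mul_assoc, ht.2.1, one_mul]
  have h4 : t * (t * t') ^ m * t⁻¹ = (t * t') ^ m := by
    rw [← conj_pow, h3, inv_pow]
    exact inv_eq_of_mul_eq_one_right hm1
  have h5 : (t * t') ^ m • t • b = t • b := by
    rw [← mul_smul]
    have : (t * t') ^ m * t = t * (t * t') ^ m := by
      rw [← mul_inv_eq_iff_eq_mul.mp h4]
    rw [this, mul_smul, pow_smul_eq h1 m]
  obtain ⟨x, hx, hxb⟩ := h.geo.orb _ hm1 hm2 (pow_smul_eq h2 m) b (t • b) h.hb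
    (Geo.smul_ne (h.hSa t ht.1) h.hb) (pow_smul_eq h1 m) h5
  exact hout x hx hxb

/-- exactly one of `g`, `g u` is an involution outside `V` -/
theorem exactly_u (h : Ctx a b V S k u) {g : G} (hgS : g ∈ S) (hgW : g ∈ h.geo.W) :
    (g ∈ h.KS ∧ g * u ∉ h.KS) ∨ (g ∉ h.KS ∧ g * u ∈ h.KS) := by
  by_cases hg : ∀ x ∈ V, x • b ≠ g • b
  · obtain ⟨t, htS, ht2, htV, htb⟩ := h.hK (g • b) ⟨g, hgW, rfl⟩ hg
    have htK : t ∈ h.KS := ⟨htS, ht2, htV⟩
    have h1 : (t * g) • b = b := by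
      rw [mul_smul, ← htb, ← mul_smul, ht2, one_smul]
    have htu : t * u ∉ h.KS := by
      intro h2
      have h3 : t = t * u := h.KS_inj htK h2 (by rw [mul_smul, h.hub]) (by rwa [htb])
      exact h.hu1 (by simpa using h3)
    rcases h.stab_cases (S.mul_mem htS hgS) (h.geo.W.mul_mem (h.KS_W htK) hgW) h1 with h2 | h2
    · have h3 : g = t := by
        rw [← inv_eq_iff_mul_eq_one, h.inv_KS htK] at h2
        exact h2.symm
      subst h3
      exact Or.inl ⟨htK, htu⟩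
    · have h3 : g = t * u := by rw [← h2, ← mul_assoc, ht2, one_mul]
      subst h3
      refine Or.inr ⟨htu, ?_⟩
      rwa [mul_assoc, h.hu, mul_one]
  · push Not at hg
    obtain ⟨x, hx, hxb⟩ := hg
    have h1 : (x * g) • b = b := by
      rw [mul_smul, ← hxb, ← mul_smul, h.geo.V_sq x hx, one_smul]
    have hxu : x * u ∈ h.KS :=
      ⟨S.mul_mem (h.hVS hx) h.huS, h.geo.mul_sq h.hu h.hua hx, h.geo.mul_not_mem h.u_not_mem hx⟩
    rcases h.stab_cases (S.mul_mem (h.hVS hx) hgS)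
      (h.geo.W.mul_mem (h.geo.V_le_W hx) hgW) h1 with h2 | h2
    · have h3 : g = x := by
        rw [← inv_eq_iff_mul_eq_one, h.geo.inv_V hx] at h2
        exact h2.symm
      subst h3
      exact Or.inr ⟨fun h4 => h4.2.2 hx, hxu⟩
    · have h3 : g = x * u := by rw [← h2, ← mul_assoc, h.geo.V_sq x hx, one_mul]
      subst h3
      refine Or.inl ⟨hxu, fun h4 => ?_⟩
      rw [mul_assoc, h.hu, mul_one] at h4
      exact h4.2.2 hx

theorem exactly (h : Ctx a b V S k u) {g t : G} (hgS : g ∈ S) (hgW : g ∈ h.geo.W)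
    (ht : t ∈ h.KS) :
    (g ∈ h.KS ∧ g * t ∉ h.KS) ∨ (g ∉ h.KS ∧ g * t ∈ h.KS) := by
  obtain ⟨s, hs, rfl⟩ := h.KS_conj_u ht
  have hsa := h.hSa s hs
  have h1 : s⁻¹ * g * s ∈ S := S.mul_mem (S.mul_mem (S.inv_mem hs) hgS) hs
  have h2 : s⁻¹ * g * s ∈ h.geo.W := by
    have := h.geo.W_conj (Geo.inv_a hsa) hgW
    rwa [inv_inv] at this
  have e1 : s * (s⁻¹ * g * s) * s⁻¹ = g := by group
  have e2 : s * (s⁻¹ * g * s * u) * s⁻¹ = g * (s * u * s⁻¹) := by group
  rcases h.exactly_u h1 h2 with ⟨h3, h4⟩ | ⟨h3, h4⟩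
  · left
    constructor
    · have := h.KS_conj hs h3
      rwa [e1] at this
    · intro h5
      rw [← e2] at h5
      exact h4 (h.KS_conj' hs h5)
  · right
    constructor
    · intro h5
      rw [← e1] at h5
      exact h3 (h.KS_conj' hs h5)
    · have := h.KS_conj hs h4
      rwa [e2] at this

/-- the subgroup `Q` -/
def Q (h : Ctx a b V S k u) : Subgroup G where
  carrier := {g | g ∈ S ∧ g ∈ h.geo.W ∧ g ∉ h.KS}
  one_mem' := ⟨S.one_mem, h.geo.W.one_mem, fun h1 => h1.2.2 V.one_mem⟩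
  inv_mem' := by
    rintro g ⟨h1, h2, h3⟩
    refine ⟨S.inv_mem h1, h.geo.W.inv_mem h2, fun h4 => h3 ?_⟩
    have h5 := h.inv_KS h4
    rw [inv_inv] at h5
    rwa [h5]
  mul_mem' := by
    rintro g g' ⟨h1, h2, h3⟩ ⟨h1', h2', h3'⟩
    refine ⟨S.mul_mem h1 h1', h.geo.W.mul_mem h2 h2', ?_⟩
    have h4 : g' * u ∈ h.KS := by
      rcases h.exactly_u h1' h2' with h5 | h5
      · exact absurd h5.1 h3'
      · exact h5.2
    have h5 : g * (g' * u) ∈ h.KS := by
      rcases h.exactly h1 h2 h4 with h5 | h5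
      · exact absurd h5.1 h3
      · exact h5.2
    intro h6
    rcases h.exactly_u (S.mul_mem h1 h1') (h.geo.W.mul_mem h2 h2') with h7 | h7
    · apply h7.2
      rwa [mul_assoc]
    · exact h7.1 h6

theorem mem_Q (h : Ctx a b V S k u) {g : G} : g ∈ h.Q ↔ g ∈ S ∧ g ∈ h.geo.W ∧ g ∉ h.KS := Iff.rfl

theorem Q_conj (h : Ctx a b V S k u) {s g : G} (hs : s ∈ S) (hg : g ∈ h.Q) :
    s * g * s⁻¹ ∈ h.Q := by
  obtain ⟨h1, h2, h3⟩ := hg
  exact ⟨S.mul_mem (S.mul_mem hs h1) (S.inv_mem hs), h.geo.W_conj (h.hSa s hs) h2,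
    fun h4 => h3 (h.KS_conj' hs h4)⟩

theorem Q_inv (h : Ctx a b V S k u) {t g : G} (ht : t ∈ h.KS) (hg : g ∈ h.Q) :
    t * g * t⁻¹ = g⁻¹ := by
  obtain ⟨h1, h2, h3⟩ := hg
  have h4 : g * t ∈ h.KS := by
    rcases h.exactly h1 h2 ht with h5 | h5
    · exact absurd h5.1 h3
    · exact h5.2
  have h5 := h4.2.1
  rw [h.inv_KS ht, eq_inv_iff_mul_eq_one]
  have h6 : t * g * t * g = g⁻¹ * (g * t * (g * t)) * g := by group
  rw [h6, h5]
  group

theorem Q_comm (h : Ctx a b V S k u) {g g' : G} (hg : g ∈ h.Q) (hg' : g' ∈ h.Q) :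
    g * g' = g' * g := by
  have h1 := h.Q_inv h.u_KS (h.Q.mul_mem hg hg')
  have h2 : u * (g * g') * u⁻¹ = (u * g * u⁻¹) * (u * g' * u⁻¹) := by group
  rw [h2, h.Q_inv h.u_KS hg, h.Q_inv h.u_KS hg', ← mul_inv_rev] at h1
  exact (inv_injective h1).symm

theorem V_le_Q (h : Ctx a b V S k u) : V ≤ h.Q :=
  fun _ hx => ⟨h.hVS hx, h.geo.V_le_W hx, fun h1 => h1.2.2 hx⟩

theorem Q_mem_V (h : Ctx a b V S k u) {g : G} (hg : g ∈ h.Q) (hg2 : g * g = 1) : g ∈ V := by
  by_contra h1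
  exact hg.2.2 ⟨hg.1, hg2, h1⟩

theorem Q_sq (h : Ctx a b V S k u) {g : G} (hg : g ∈ h.Q) : g * g ∈ V := by
  obtain ⟨y, hy, hyb⟩ := h.hconj g hg.2.1
  have hK := h.KS_conj hg.1 h.u_KS
  have h1 : y * (g * u * g⁻¹) = u := by
    apply h.KS_eq
    · exact ⟨S.mul_mem (h.hVS hy) hK.1, h.geo.mul_sq hK.2.1 (h.hSa _ hK.1) hy,
        h.geo.mul_not_mem hK.2.2 hy⟩
    · rw [mul_smul, hyb, ← mul_smul, h.geo.V_sq y hy, one_smul]
  have h2 := h.Q_inv h.u_KS hg
  have h3 : g * g = g * u * g⁻¹ * u := by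
    have h4 : g = u * g⁻¹ * u := by
      have h5 := congrArg (fun z => z⁻¹) h2
      simp only [mul_inv_rev, inv_inv] at h5
      rw [h.inv_u] at h5
      rw [mul_assoc]
      exact h5.symm
    calc g * g = g * (u * g⁻¹ * u) := by rw [← h4]
      _ = g * u * g⁻¹ * u := by group
  have h5 : g * u * g⁻¹ = y⁻¹ * u := eq_inv_mul_iff_mul_eq.mpr h1
  rw [h3, h5, mul_assoc, h.hu, mul_one]
  exact V.inv_mem hy

theorem card_Q (h : Ctx a b V S k u) : Nat.card h.Q = 2 ^ k * 2 ^ k := by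
  haveI := h.geo.finite
  rw [← h.hcl, ← Nat.card_coe_set_eq]
  apply Nat.card_congr
  refine Equiv.ofBijective (fun g : h.Q => (⟨(g : G) • b, (g : G), g.2.2.1, rfl⟩ : h.geo.cl b)) ?_
  constructor
  · intro g g' he
    have h1 : (g : G) • b = (g' : G) • b := Subtype.ext_iff.mp he
    have h2 : ((g' : G)⁻¹ * g) • b = b := by rw [mul_smul, h1, inv_smul_smul]
    have h3 : (g' : G)⁻¹ * g ∈ h.Q := h.Q.mul_mem (h.Q.inv_mem g'.2) g.2
    rcases h.stab_cases h3.1 h3.2.1 h2 with h4 | h4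
    · rw [inv_mul_eq_one] at h4
      exact Subtype.ext h4.symm
    · rw [h4] at h3
      exact absurd h.u_KS h3.2.2
  · rintro ⟨c, hc⟩
    have h1 : ∃ g ∈ S, g ∈ h.geo.W ∧ g • b = c := by
      by_cases hcb : ∀ x ∈ V, x • b ≠ c
      · obtain ⟨t, htS, ht2, htV, htb⟩ := h.hK c hc hcb
        exact ⟨t, htS, h.KS_W ⟨htS, ht2, htV⟩, htb⟩
      · push Not at hcb
        obtain ⟨x, hx, hxb⟩ := hcb
        exact ⟨x, h.hVS hx, h.geo.V_le_W hx, hxb⟩
    obtain ⟨g, hgS, hgW, hgc⟩ := h1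
    rcases h.exactly_u hgS hgW with h2 | h2
    · exact ⟨⟨g * u, S.mul_mem hgS h.huS, h.geo.W.mul_mem hgW h.u_W, h2.2⟩,
        Subtype.ext (by show (g * u) • b = c; rw [mul_smul, h.hub, hgc])⟩
    · exact ⟨⟨g, hgS, hgW, h2.1⟩, Subtype.ext hgc⟩

end Ctx

end Cfsg.Agent.AschCrit.ThreeOddB
end

-- part: AschCrit/ThreeOddC
section
/-!
# Aschbacher's criterion, commutative case, unital type: `W`-orbits of length `q ^ 2`, `k` odd, the end

`Q` is a homocyclic group of exponent 4 and odd rank, normal in the Sylow 2-subgroup `S`, inverted by all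
involutions of `S ∖ V`.  The determinant character of `S` on `Q` is `-1` at all these involutions; its kernel
contains no conjugate of an involution fixing two points, so `G` has a subgroup of index 2 by Thompson's
transfer lemma.
-/

set_option autoImplicit false

namespace Cfsg.Agent.AschCrit.ThreeOddC

open Subgroup ThreeGeo

variable {G Ω : Type*} [Group G] [MulAction G Ω] {a b : Ω} {V : Subgroup G} {k : ℕ}

theorem neg_one_ne : (-1 : (ZMod 4)ˣ) ≠ 1 := by decide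

theorem units_cases (x : (ZMod 4)ˣ) : x = 1 ∨ x = -1 := by
  revert x
  decide

/-- the end of the case `λ = q ^ 2`, `k` odd -/
theorem odd_end [Finite G] (h : Geo a V (2 ^ k)) (hk : Odd k) (hb : b ≠ a) (S : Sylow 2 G)
    (hSa : ∀ s ∈ S, s • a = a) {u : G} (huS : u ∈ S) (hu : u * u = 1) (hu1 : u ≠ 1)
    (hub : u • b = b) (Q : Subgroup G) (hQS : Q ≤ (S : Subgroup G))
    (hQconj : ∀ s ∈ S, ∀ g ∈ Q, s * g * s⁻¹ ∈ Q)
    (hQcomm : ∀ g ∈ Q, ∀ g' ∈ Q, g * g' = g' * g) (hQcard : Nat.card Q = 2 ^ k * 2 ^ k)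
    (hVQ : V ≤ Q) (hQsq : ∀ g ∈ Q, g * g ∈ V) (hQ1 : ∀ g ∈ Q, g * g = 1 → g ∈ V)
    (hinv : ∀ t ∈ S, t * t = 1 → t ∉ V → ∀ g ∈ Q, t * g * t⁻¹ = g⁻¹) :
    ∃ M : Subgroup G, M.Normal ∧ M.index = 2 := by
  obtain ⟨χ, hχ⟩ := ThreeDet.exists_hom (S : Subgroup G) Q V hk hQconj hQcomm hQcard hVQ h.card_V
    hQ1 h.V_sq hQsq
  have huV : u ∉ V := fun huV => hb (h.V_free u huV hu1 b hub)
  have hχu : χ ⟨u, huS⟩ = -1 := hχ ⟨u, huS⟩ (hinv u huS hu huV)
  set S0 : Subgroup G := χ.ker.map (S : Subgroup G).subtype with hS0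
  have hle : S0 ≤ (S : Subgroup G) := by
    rintro x ⟨y, _, rfl⟩
    exact y.2
  have hidx : S0.relIndex (S : Subgroup G) = 2 := by
    have hmem : ∀ s : (S : Subgroup G), (s : G) ∈ S0 ↔ χ s = 1 := by
      intro s
      constructor
      · rintro ⟨y, hy, hys⟩
        have : y = s := Subtype.ext hys
        rw [← this]
        exact hy
      · intro hs
        exact ⟨s, hs, rfl⟩
    rw [relIndex_eq_two_iff]
    refine ⟨u, huS, fun s hs => ?_⟩
    have h1 : s * u ∈ S0 ↔ χ (⟨s, hs⟩ * ⟨u, huS⟩) = 1 := hmem (⟨s, hs⟩ * ⟨u, huS⟩)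
    have h2 : s ∈ S0 ↔ χ ⟨s, hs⟩ = 1 := hmem ⟨s, hs⟩
    rw [h1, h2, map_mul, hχu]
    rcases units_cases (χ ⟨s, hs⟩) with h3 | h3
    · right
      exact ⟨h3, by rw [h3]; decide⟩
    · left
      exact ⟨by rw [h3]; decide, by rw [h3]; decide⟩
  rcases Transfer.ThompsonTransfer.thompson_transfer S S0 hle hidx u (by rw [pow_two, hu]) with
    ⟨M, hM, hM2, -⟩ | ⟨g, hg⟩
  · exact ⟨M, hM, hM2⟩
  · exfalso
    have hgS : g * u * g⁻¹ ∈ S := hle hg
    have hsq : g * u * g⁻¹ * (g * u * g⁻¹) = 1 := by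
      calc g * u * g⁻¹ * (g * u * g⁻¹) = g * (u * u) * g⁻¹ := by group
        _ = 1 := by rw [hu]; group
    have hgV : g * u * g⁻¹ ∈ V := by
      by_contra hV
      have h1 := hχ ⟨g * u * g⁻¹, hgS⟩ (hinv _ hgS hsq hV)
      obtain ⟨y, hy, hyg⟩ := hg
      have h2 : y = ⟨g * u * g⁻¹, hgS⟩ := Subtype.ext hyg
      rw [h2] at hy
      have h3 : χ ⟨g * u * g⁻¹, hgS⟩ = 1 := hy
      rw [h3] at h1
      exact neg_one_ne h1.symm
    have hne : g * u * g⁻¹ ≠ 1 := by
      intro h1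
      apply hu1
      calc u = g⁻¹ * (g * u * g⁻¹) * g := by group
        _ = 1 := by rw [h1]; group
    have e1 : g • a = a := h.V_free _ hgV hne (g • a) (by
      rw [mul_smul, mul_smul, inv_smul_smul, hSa u huS])
    have e2 : g • b = a := h.V_free _ hgV hne (g • b) (by
      rw [mul_smul, mul_smul, inv_smul_smul, hub])
    exact hb (MulAction.injective g (e2.trans e1.symm))

end Cfsg.Agent.AschCrit.ThreeOddC
end

-- part: AschCrit/ThreeMid
section
/-!
# The unital case: the centraliser of `V` has orbits of length `q ^ 2`, `k` even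

The group `M` induced by `G_a` on `V` (of order `2 ^ k`) has a subgroup `Γ` of index `2 ^ k` (the image of the
stabiliser of the `C(V)`-orbit of `b`) containing a torus `H` which is regular on `V ∖ 1`; `ThreeEven` gives a
contradiction.
-/

set_option autoImplicit false

namespace Cfsg.Agent.AschCrit.ThreeMid

open Subgroup ThreeGeo

variable {G Ω : Type*} [Group G] [MulAction G Ω] {a b : Ω} {V H : Subgroup G} {k : ℕ}

/-- elements commuting with a transitive group are determined by one image -/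
theorem ext_of_comm (hG : Geo a V (2 ^ k)) {L : Subgroup (MulAut V)}
    (htr : ∀ x y : V, x ≠ 1 → y ≠ 1 → ∃ l ∈ L, l x = y) {g h : MulAut V}
    (hg : ∀ l ∈ L, g * l = l * g) (hh : ∀ l ∈ L, h * l = l * h) {x : V} (hx : x ≠ 1)
    (hgh : g x = h x) : g = h := by
  ext y
  by_cases hy : y = 1
  · rw [hy, map_one, map_one]
  obtain ⟨l, hl, rfl⟩ := htr x y hx hy
  have h1 : g (l x) = (g * l) x := rfl
  have h2 : h (l x) = (h * l) x := rfl
  rw [h1, h2, hg l hl, hh l hl]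
  show ((l (g x) : V) : G) = ((l (h x) : V) : G)
  rw [hgh]

theorem even_false [Finite G] (hG : Geo a V (2 ^ k)) (hT : Tor a b V H) (hk : Even k)
    (hcl : (hG.cl b).ncard = 2 ^ k * 2 ^ k) : False := by
  classical
  haveI : Finite Ω := hG.finite
  have hq4 := hG.four_le
  have hk2 : 2 ≤ k := by
    by_contra hcon
    have h1 : 2 ^ k ≤ 2 ^ 1 := Nat.pow_le_pow_right (by norm_num) (by omega)
    omega
  haveI : Finite (MulAut V) := by
    haveI : Finite V := inferInstance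
    exact Finite.of_injective (fun e : MulAut V => (e : V → V)) DFunLike.coe_injective
  set f := hG.actV.rangeRestrict with hf
  have hfs : Function.Surjective f := hG.actV.rangeRestrict_surjective
  have hfapp : ∀ (g : MulAction.stabilizer G a) (x : V), (((f g : MulAut V) x : V) : G) =
      (g : G) * x * (g : G)⁻¹ := fun _ _ => rfl
  have hfeq : ∀ g g' : MulAction.stabilizer G a, (∀ x ∈ V, (g : G) * x * (g : G)⁻¹ =
      (g' : G) * x * (g' : G)⁻¹) → f g = f g' := by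
    intro g g' h
    apply Subtype.ext
    ext x
    exact h x x.2
  have hker : ∀ g : MulAction.stabilizer G a, f g = 1 ↔ (g : G) ∈ hG.W := by
    intro g
    rw [← hG.actV_eq_one_iff, Subtype.ext_iff]
    rfl
  set N := (hG.N1 b).subgroupOf (MulAction.stabilizer G a) with hN
  set Γ := N.map f with hΓ
  set H' := (H.subgroupOf (MulAction.stabilizer G a)).map f with hH'
  have hkerN : f.ker ≤ N := by
    intro g hg
    rw [MonoidHom.mem_ker, hker] at hg
    exact hG.W_le_N1 b hg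
  have memΓ : ∀ g : MulAction.stabilizer G a, f g ∈ Γ ↔ (g : G) ∈ hG.N1 b := by
    intro g
    constructor
    · rintro ⟨g', hg', hgg⟩
      have h1 : g'⁻¹ * g ∈ f.ker := by
        rw [MonoidHom.mem_ker, map_mul, map_inv, hgg, inv_mul_cancel]
      have h2 := N.mul_mem hg' (hkerN h1)
      rw [mul_inv_cancel_left] at h2
      exact h2
    · intro h
      exact ⟨g, h, rfl⟩
  have memH : ∀ h (hh : h ∈ H), f ⟨h, hT.H_a h hh⟩ ∈ H' := fun h hh => ⟨_, hh, rfl⟩
  -- transitivity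
  have htr : ∀ x y : V, x ≠ 1 → y ≠ 1 → ∃ l ∈ H', (l : MulAut V) x = y := by
    intro x y hx hy
    obtain ⟨h, hh, hxy⟩ := hT.H_trans x x.2 (by simpa using hx) y y.2 (by simpa using hy)
    exact ⟨_, memH h hh, Subtype.ext hxy⟩
  -- cyclicity
  have := hT.H_cyc
  have hcyc0 : IsCyclic (H.subgroupOf (MulAction.stabilizer G a)) := by
    let ι : H.subgroupOf (MulAction.stabilizer G a) →* H :=
      { toFun := fun x => ⟨((x : MulAction.stabilizer G a) : G), x.2⟩
        map_one' := rfl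
        map_mul' := fun _ _ => rfl }
    exact isCyclic_of_injective ι (fun x y hxy => by
      have h1 : (((x : MulAction.stabilizer G a) : G)) = ((y : MulAction.stabilizer G a) : G) :=
        congrArg (Subtype.val : H → G) hxy
      exact Subtype.ext (Subtype.ext h1))
  have hcyc : IsCyclic H' := isCyclic_of_surjective (f.subgroupMap
    (H.subgroupOf (MulAction.stabilizer G a))) (f.subgroupMap_surjective _)
  have hcomm : ∀ h ∈ H', ∀ h' ∈ H', h * h' = h' * h := by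
    intro h hh h' hh'
    letI := IsCyclic.commGroup (α := H')
    have := mul_comm (⟨h, hh⟩ : H') ⟨h', hh'⟩
    exact Subtype.ext_iff.mp this
  have hL : ∀ x y : V, x ≠ 1 → y ≠ 1 → ∃ l ∈ H'.map (Subgroup.subtype _), (l : MulAut V) x = y := by
    intro x y hx hy
    obtain ⟨l, hl, hxy⟩ := htr x y hx hy
    exact ⟨l, ⟨l, hl, rfl⟩, hxy⟩
  have hdet : ∀ g h : hG.actV.range, (∀ l ∈ H', g * l = l * g) → (∀ l ∈ H', h * l = l * h) →
      ∀ x : V, x ≠ 1 → (g : MulAut V) x = (h : MulAut V) x → g = h := by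
    intro g h hg hh x hx hgh
    apply Subtype.ext
    refine ext_of_comm hG hL ?_ ?_ hx hgh
    · rintro _ ⟨l, hl, rfl⟩
      exact congrArg Subtype.val (hg l hl)
    · rintro _ ⟨l, hl, rfl⟩
      exact congrArg Subtype.val (hh l hl)
  -- a nontrivial element of `V`
  have hcardV : Nat.card V = 2 ^ k := hG.card_V
  have hVn : Nontrivial V := by
    rw [← Finite.one_lt_card_iff_nontrivial]
    omega
  obtain ⟨x0, hx0⟩ := exists_ne (1 : V)
  have hcardH : Nat.card H' + 1 = 2 ^ k := by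
    let F : H' → {y : V // y ≠ 1} := fun h => ⟨((h : hG.actV.range) : MulAut V) x0, by
      intro h1
      exact hx0 ((MulEquiv.map_eq_one_iff _).mp h1)⟩
    have hF : Function.Bijective F := by
      constructor
      · intro h h' hh
        apply Subtype.ext
        exact hdet _ _ (fun l hl => hcomm _ h.2 _ hl) (fun l hl => hcomm _ h'.2 _ hl) x0 hx0
          (Subtype.ext_iff.mp hh)
      · rintro ⟨y, hy⟩
        obtain ⟨l, hl, hxy⟩ := htr x0 y hx0 hy
        exact ⟨⟨l, hl⟩, Subtype.ext hxy⟩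
    rw [Nat.card_congr (Equiv.ofBijective F hF), ← hcardV,
      ← Nat.card_congr (Equiv.optionSubtypeNe (1 : V)), Finite.card_option]
  refine ThreeEven.false_of_three (M := hG.actV.range) (Γ := Γ) (H := H') (k := k) (by omega) ?_
    hcardH ?_ hcyc ?_ ?_ ?_ ?_ ?_
  · -- index
    rw [hΓ, Subgroup.index_map_eq _ hfs hkerN]
    have h1 := hG.card_cl_mul hT.ne
    rw [hcl] at h1
    have h2 : 0 < 2 ^ k * 2 ^ k := by positivity
    apply Nat.eq_of_mul_eq_mul_left h2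
    show _ * (hG.N1 b).relIndex (MulAction.stabilizer G a) = _
    rw [h1]; ring
  · -- `H' ≤ Γ`
    rintro _ ⟨h, hh, rfl⟩
    rw [memΓ]
    exact ⟨h.2, 1, hG.W.one_mem, by rw [one_smul]; exact (hT.H_b h hh).symm⟩
  · -- `3 ∣ |H'|`
    obtain ⟨j, hj⟩ := hk
    have h1 : Nat.card H' = 4 ^ j - 1 := by
      have : (2 : ℕ) ^ k = 4 ^ j := by
        rw [hj, pow_add, ← mul_pow]
        norm_num
      omega
    rw [h1]
    have := Nat.sub_dvd_pow_sub_pow 4 1 j
    simpa only [_root_.Nat.add_one_sub_one, _root_.one_pow] using this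
  · -- normality
    rintro _ ⟨n, hn, rfl⟩ _ ⟨h, hh, rfl⟩
    obtain ⟨hna, w, hw, hwb⟩ := hn
    have hna' : (n : G) • a = a := hna
    have hwb' : w • b = (n : G) • b := hwb
    obtain ⟨n', hn'⟩ : ∃ n' : G, n' = w⁻¹ * n := ⟨_, rfl⟩
    have hn'a : n' • a = a := by
      rw [hn', mul_smul, hna', Geo.inv_a hw.1]
    have hn'b : n' • b = b := by
      rw [hn', mul_smul, ← hwb', inv_smul_smul]
    obtain ⟨h', hh', hhx⟩ := hT.H_norm n' hn'a hn'b h hh
    have e1 : f n = f ⟨n', hn'a⟩ := by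
      have : n = ⟨w, hw.1⟩ * ⟨n', hn'a⟩ := by
        apply Subtype.ext
        show (n : G) = w * n'
        rw [hn', mul_inv_cancel_left]
      rw [this, map_mul, (hker ⟨w, hw.1⟩).mpr hw, one_mul]
    have e2 : f n * f h * (f n)⁻¹ = f ⟨h', hT.H_a h' hh'⟩ := by
      rw [e1, ← map_inv, ← map_mul, ← map_mul]
      apply hfeq
      intro x hx
      exact hhx x hx
    rw [e2]
    exact memH h' hh'
  · -- strong normaliser condition
    rintro _ ⟨h, hh, rfl⟩ hne g hg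
    obtain ⟨m, rfl⟩ := hfs g
    rw [← map_inv, ← map_mul, ← map_mul, memΓ] at hg
    rw [memΓ]
    by_contra hm
    have hma : (m : G) • a = a := m.2
    obtain ⟨-, w, hw, hwb⟩ := hg
    have hwb' : w • b = ((m : G)⁻¹ * h * m) • b := hwb
    set X : Set Ω := {c | ∃ w ∈ hG.W, w • (m : G) • b = c} with hX
    have hXcard : X.ncard = 2 ^ k * 2 ^ k := by
      rw [← hcl]
      have : X = (fun c => (m : G) • c) '' (hG.cl b) := by
        ext c
        constructor
        · rintro ⟨w, hw, rfl⟩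
          refine ⟨((m : G)⁻¹ * w * m) • b, ⟨_, ?_, rfl⟩, ?_⟩
          · have := hG.W_conj (Geo.inv_a hma) hw
            rwa [inv_inv] at this
          · show (m : G) • ((m : G)⁻¹ * w * m) • b = w • (m : G) • b
            rw [← mul_smul, ← mul_smul]
            congr 1
            group
        · rintro ⟨_, ⟨w, hw, rfl⟩, rfl⟩
          refine ⟨(m : G) * w * (m : G)⁻¹, hG.W_conj hma hw, ?_⟩
          show ((m : G) * w * (m : G)⁻¹) • (m : G) • b = (m : G) • w • b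
          rw [← mul_smul, ← mul_smul]
          congr 1
          group
      rw [this, Set.ncard_image_of_injective _ (MulAction.injective (m : G))]
    have hXb : ∀ c ∈ X, ∀ w ∈ hG.W, w • b ≠ c := by
      rintro c ⟨w1, hw1, rfl⟩ w hw hc
      apply hm
      refine ⟨hma, w1⁻¹ * w, hG.W.mul_mem (hG.W.inv_mem hw1) hw, ?_⟩
      rw [mul_smul, hc, inv_smul_smul]
    have hXa : ∀ c ∈ X, c ≠ a := by
      rintro c ⟨w1, hw1, rfl⟩
      exact Geo.smul_ne hw1.1 (Geo.smul_ne hma hT.ne)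
    have hhX : ∀ c ∈ X, (h : G) • c ∈ X := by
      rintro _ ⟨w1, hw1, rfl⟩
      have hha : (h : G) • a = a := h.2
      refine ⟨(h : G) * w1 * (h : G)⁻¹ * ((m : G) * w * (m : G)⁻¹),
        hG.W.mul_mem (hG.W_conj hha hw1) (hG.W_conj hma hw), ?_⟩
      have e1 : ((m : G) * w * (m : G)⁻¹) • (m : G) • b = (h : G) • (m : G) • b := by
        rw [mul_smul, mul_smul, inv_smul_smul, hwb', mul_smul, mul_smul, smul_inv_smul]
      rw [mul_smul, e1, mul_smul, mul_smul, inv_smul_smul]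
    have hKX : ∀ k' ∈ zpowers (h : G), ∀ c ∈ X, k' • c ∈ X := by
      intro k' hk'
      rw [← mem_powers_iff_mem_zpowers] at hk'
      obtain ⟨j, rfl⟩ := hk'
      show ∀ c ∈ X, (h : G) ^ j • c ∈ X
      induction j with
      | zero => intro c hc; simpa using hc
      | succ j ih =>
        intro c hc
        rw [pow_succ, mul_smul]
        exact ih _ (hhX c hc)
    have hKH : zpowers (h : G) ≤ H := by
      rw [zpowers_le]; exact hh
    apply hne
    rw [hker]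
    refine ⟨h.2, fun x hx => ?_⟩
    have hdvd := index_dvd (zpowers (h : G)) (MulAction.stabilizer G (x • b)) _ X rfl hKX (by
      intro c hc k' hk' hk'c
      have h1 := hT.H_out k' (hKH hk') c (hXa c hc)
        (fun y hy => hXb c hc y (hG.V_le_W hy)) hk'c x hx
      show k' • x • b = x • b
      rw [← mul_smul, h1, mul_smul, hT.H_b k' (hKH hk')])
    rw [hXcard, ← pow_add] at hdvd
    have hodd : Odd ((MulAction.stabilizer G (x • b)).relIndex (zpowers (h : G))) := by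
      apply hT.H_odd.of_dvd_nat
      exact (relIndex_dvd_card _ _).trans (card_dvd_of_le hKH)
    have h1 : (MulAction.stabilizer G (x • b)).relIndex (zpowers (h : G)) = 1 := by
      obtain ⟨j, -, hj⟩ := (Nat.dvd_prime_pow Nat.prime_two).mp hdvd
      rw [hj] at hodd ⊢
      rcases Nat.eq_zero_or_pos j with rfl | hj0
      · rfl
      · exfalso
        rw [← Nat.not_even_iff_odd] at hodd
        exact hodd ((Nat.even_pow.mpr ⟨even_two, by omega⟩))
    rw [relIndex_eq_one] at h1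
    have h2 : (h : G) • x • b = x • b := h1 (mem_zpowers _)
    have h3 : ((h : G) * x * (h : G)⁻¹) • b = x • b := by
      rw [mul_smul, mul_smul, inv_smul_eq_iff.mpr (hT.H_b h hh).symm, h2]
    have h4 := hG.eq_of_smul (hG.V_conj h h.2 x hx) hx hT.ne h3
    rw [mul_inv_eq_iff_eq_mul] at h4
    exact h4
  · -- self-centralising
    intro g hg
    have hgx : (g : MulAut V) x0 ≠ 1 := fun h1 => hx0 ((MulEquiv.map_eq_one_iff _).mp h1)
    obtain ⟨h, hh, hhx⟩ := htr x0 _ hx0 hgx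
    have := hdet g h (fun l hl => hg l hl) (fun l hl => hcomm h hh l hl) x0 hx0 hhx.symm
    rw [this]
    exact hh
  · -- no normal 2-subgroup
    intro K hK hK2
    haveI : Fact (Nat.Prime 2) := ⟨Nat.prime_two⟩
    letI : MulAction (K.map (Subgroup.subtype _)) V := inferInstance
    have hK2' : IsPGroup 2 (K.map (Subgroup.subtype hG.actV.range)) := hK2.map _
    have h1 := hK2'.card_modEq_card_fixedPoints V
    rw [hcardV] at h1
    have h2 : 2 ∣ Nat.card (MulAction.fixedPoints (K.map (Subgroup.subtype hG.actV.range)) V) := by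
      rw [← Nat.modEq_zero_iff_dvd]
      refine h1.symm.trans ?_
      rw [Nat.modEq_zero_iff_dvd]
      exact dvd_pow_self 2 (by omega)
    have h3 : ∃ y : V, y ≠ 1 ∧ ∀ l ∈ K, ((l : hG.actV.range) : MulAut V) y = y := by
      by_contra hcon
      push Not at hcon
      have h4 : MulAction.fixedPoints (K.map (Subgroup.subtype hG.actV.range)) V = {1} := by
        ext y
        constructor
        · intro hy
          by_contra hy1
          obtain ⟨l, hl, hly⟩ := hcon y hy1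
          exact hly (hy ⟨(l : MulAut V), ⟨l, hl, rfl⟩⟩)
        · rintro rfl
          rintro ⟨l, hl⟩
          exact map_one l
      rw [h4, Nat.card_unique] at h2
      omega
    obtain ⟨y, hy1, hy⟩ := h3
    rw [eq_bot_iff]
    intro l hl
    rw [mem_bot]
    apply Subtype.ext
    apply MulEquiv.ext
    intro z
    by_cases hz : z = 1
    · rw [hz, map_one, map_one]
    obtain ⟨g, -, hgz⟩ := htr y z hy1 hz
    have h5 := hy _ (hK.conj_mem l hl g⁻¹)
    rw [inv_inv] at h5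
    have h6 : ((g⁻¹ * l * g : hG.actV.range) : MulAut V) y =
        (g : MulAut V)⁻¹ ((l : MulAut V) ((g : MulAut V) y)) := rfl
    rw [h6, hgz] at h5
    have h7 := congrArg (g : MulAut V) h5
    rw [hgz] at h7
    have h8 : ((g : MulAut V) * (g : MulAut V)⁻¹) ((l : MulAut V) z) = z := h7
    rw [mul_inv_cancel] at h8
    exact h8

end Cfsg.Agent.AschCrit.ThreeMid
end

-- part: AschCrit/ThreeFull
section
/-!
# Aschbacher's criterion, commutative case, unital type: `W` transitive on the points `≠ a`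

`W = C_{G_a}(V)` transitive on `Ω \ {a}`.  Then `G_a` induces on `V` a group of odd order (its Sylow 2-subgroups
are cyclic, and `G_a` has no quotient of order 2), so a Sylow 2-subgroup `S` of `G_a` centralises `V`, and
`ThreeCore.Core` applies: `G` has a subgroup of index 2.
-/

set_option autoImplicit false

universe u

namespace Cfsg.Agent.AschCrit.ThreeFull

open Subgroup ThreeGeo

section

variable {G Ω : Type*} [Group G] [MulAction G Ω] [Finite G] {a b : Ω} {V H : Subgroup G} {q : ℕ}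

/-- every element induced by `G_a` on `V` is induced by an element of `G_{ab}` -/
theorem exists_ab (hG : Geo a V q) (hb : b ≠ a) (htr : ∀ c : Ω, c ≠ a → ∃ w ∈ hG.W, w • b = c)
    (g : MulAction.stabilizer G a) :
    ∃ g' : MulAction.stabilizer G a, (g' : G) • b = b ∧ hG.actV g' = hG.actV g := by
  have hga : (g : G) • a = a := g.2
  obtain ⟨w, hw, hwb⟩ := htr ((g : G) • b) (Geo.smul_ne hga hb)
  let w' : MulAction.stabilizer G a := ⟨w, hw.1⟩
  refine ⟨w'⁻¹ * g, ?_, ?_⟩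
  · show (w⁻¹ * (g : G)) • b = b
    rw [mul_smul, ← hwb, inv_smul_smul]
  · have h1 : hG.actV w' = 1 := (hG.actV_eq_one_iff).mpr hw
    rw [map_mul, map_inv, h1, inv_one, one_mul]

/-- the group induced by `H` on `V` -/
def XX (hG : Geo a V q) (H : Subgroup G) : Subgroup (MulAut V) :=
  (H.subgroupOf (MulAction.stabilizer G a)).map hG.actV

theorem mem_XX (hG : Geo a V q) {r : MulAut V} :
    r ∈ XX hG H ↔ ∃ h : MulAction.stabilizer G a, (h : G) ∈ H ∧ hG.actV h = r := by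
  constructor
  · rintro ⟨h, hh, rfl⟩
    exact ⟨h, hh, rfl⟩
  · rintro ⟨h, hh, rfl⟩
    exact ⟨h, hh, rfl⟩

theorem odd_XX (hG : Geo a V q) (hT : Tor a b V H) : Odd (Nat.card (XX hG H)) := by
  have hle : H ≤ MulAction.stabilizer G a := fun h hh => hT.H_a h hh
  have h1 : Nat.card (H.subgroupOf (MulAction.stabilizer G a)) = Nat.card H :=
    Nat.card_congr (subgroupOfEquivOfLe hle).toEquiv
  refine hT.H_odd.of_dvd_nat ?_
  rw [← h1]
  exact Subgroup.card_map_dvd (H := H.subgroupOf (MulAction.stabilizer G a)) hG.actV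

theorem trans_XX (hG : Geo a V q) (hT : Tor a b V H) (x y : V) (hx : x ≠ 1) (hy : y ≠ 1) :
    ∃ g ∈ XX hG H, g x = y := by
  obtain ⟨h, hh, hxy⟩ := hT.H_trans x x.2 (fun hh => hx (Subtype.ext hh)) y y.2
    (fun hh => hy (Subtype.ext hh))
  exact ⟨hG.actV ⟨h, hT.H_a h hh⟩, (mem_XX hG).mpr ⟨⟨h, hT.H_a h hh⟩, hh, rfl⟩, Subtype.ext hxy⟩

theorem conj_XX (hG : Geo a V q) (hT : Tor a b V H)
    (htr : ∀ c : Ω, c ≠ a → ∃ w ∈ hG.W, w • b = c) (r : MulAut V) (hr : r ∈ hG.actV.range)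
    (g : MulAut V) (hg : g ∈ XX hG H) : r * g * r⁻¹ ∈ XX hG H := by
  obtain ⟨m, rfl⟩ := hr
  obtain ⟨m', hm'b, hm'⟩ := exists_ab hG hT.ne htr m
  rw [← hm']
  obtain ⟨h, hh, rfl⟩ := (mem_XX hG).mp hg
  obtain ⟨h', hh', hx⟩ := hT.H_norm m' m'.2 hm'b h hh
  refine (mem_XX hG).mpr ⟨⟨h', hT.H_a h' hh'⟩, hh', ?_⟩
  rw [← map_inv, ← map_mul, ← map_mul]
  ext x
  exact (hx x x.2).symm

end

section

variable {G Ω : Type u} [Group G] [MulAction G Ω] [Finite G] {a b : Ω} {V H : Subgroup G} {q : ℕ}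

/-- `G_a` induces a group of odd order on `V` -/
theorem odd_range (hG : Geo a V q) (hT : Tor a b V H)
    (htr : ∀ c : Ω, c ≠ a → ∃ w ∈ hG.W, w • b = c)
    (hhom : ∀ (P : Type u) [CommGroup P], IsPGroup 2 P →
      ∀ φ : MulAction.stabilizer G a →* P, φ = 1) : ¬ 2 ∣ Nat.card hG.actV.range := by
  intro h2Q
  have hf2 : Fact (Nat.Prime 2) := ⟨Nat.prime_two⟩
  obtain ⟨P⟩ : Nonempty (Sylow 2 hG.actV.range) := inferInstance
  have hVsq : ∀ x : V, x * x = 1 := fun x => Subtype.ext (hG.V_sq x x.2)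
  have hPc : IsCyclic P := by
    have h1 : (IsCyclic ((P : Subgroup hG.actV.range).map hG.actV.range.subtype) :) := by
      refine TransCyclic.isCyclic hVsq (odd_XX hG hT) (trans_XX hG hT) (P.2.map _) ?_
      rintro _ ⟨r, hr, rfl⟩ g hg
      exact conj_XX hG hT htr r.1 r.2 g hg
    exact isCyclic_of_surjective
      (((P : Subgroup hG.actV.range).equivMapOfInjective hG.actV.range.subtype
        hG.actV.range.subtype_injective).symm :)
      ((P : Subgroup hG.actV.range).equivMapOfInjective hG.actV.range.subtype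
        hG.actV.range.subtype_injective).symm.surjective
  have hmin : (Nat.card hG.actV.range).minFac = 2 := (Nat.minFac_eq_two_iff _).mpr h2Q
  have hN := hPc.normalizer_le_centralizer hmin
  have hcomm : ∀ x y : P, x * y = y * x := fun x y =>
    (IsCyclic.commGroup (α := P)).mul_comm x y
  let _ : CommGroup P := { (inferInstance : Group P) with mul_comm := hcomm }
  let φ : MulAction.stabilizer G a →* P :=
    (MonoidHom.transferSylow P hN).comp hG.actV.rangeRestrict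
  have hφ : φ = 1 := hhom P P.2 φ
  have h2P : 2 ∣ Nat.card P := P.dvd_card_of_dvd_card h2Q
  obtain ⟨x, hx⟩ := exists_prime_orderOf_dvd_card' 2 h2P
  have h1 : MonoidHom.transferSylow P hN (x : hG.actV.range) = 1 := by
    obtain ⟨g, hg⟩ := hG.actV.rangeRestrict_surjective (x : hG.actV.range)
    rw [← hg]
    exact DFunLike.congr_fun hφ g
  rw [MonoidHom.transferSylow_eq_pow P hN (x : hG.actV.range) x.2] at h1
  have h3 : (x : hG.actV.range) ^ (P : Subgroup hG.actV.range).index = 1 := congrArg Subtype.val h1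
  have h4 : orderOf x ∣ (P : Subgroup hG.actV.range).index := by
    apply orderOf_dvd_of_pow_eq_one
    exact Subtype.ext h3
  rw [hx] at h4
  exact P.not_dvd_index h4

theorem two_le_W (hG : Geo a V q) (hT : Tor a b V H)
    (htr : ∀ c : Ω, c ≠ a → ∃ w ∈ hG.W, w • b = c)
    (hhom : ∀ (P : Type u) [CommGroup P], IsPGroup 2 P →
      ∀ φ : MulAction.stabilizer G a →* P, φ = 1) {S : Subgroup G} (hS2 : IsPGroup 2 S)
    (hS : ∀ s ∈ S, s • a = a) : S ≤ hG.W := by
  intro s hs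
  have hodd := odd_range hG hT htr hhom
  have h1 : hG.actV ⟨s, hS s hs⟩ = 1 := by
    obtain ⟨n, hn⟩ := (IsPGroup.iff_orderOf.mp hS2) ⟨s, hs⟩
    have h2 : (⟨s, hS s hs⟩ : MulAction.stabilizer G a) ^ 2 ^ n = 1 := by
      have h3 : (⟨s, hs⟩ : S) ^ 2 ^ n = 1 := by rw [← hn]; exact pow_orderOf_eq_one _
      have h4 : s ^ 2 ^ n = 1 := congrArg Subtype.val h3
      exact Subtype.ext h4
    have h3 : orderOf (hG.actV ⟨s, hS s hs⟩) ∣ 2 ^ n := by
      apply orderOf_dvd_of_pow_eq_one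
      rw [← map_pow, h2, map_one]
    obtain ⟨j, -, hj⟩ := (Nat.dvd_prime_pow Nat.prime_two).mp h3
    rcases Nat.eq_zero_or_pos j with rfl | hj0
    · rw [pow_zero] at hj
      exact orderOf_eq_one_iff.mp hj
    · exfalso
      apply hodd
      have h4 : orderOf (⟨hG.actV ⟨s, hS s hs⟩, ⟨_, rfl⟩⟩ : hG.actV.range) =
          orderOf (hG.actV ⟨s, hS s hs⟩) :=
        (orderOf_injective hG.actV.range.subtype hG.actV.range.subtype_injective _).symm
      have h5 := _root_.orderOf_dvd_natCard (⟨hG.actV ⟨s, hS s hs⟩, ⟨_, rfl⟩⟩ : hG.actV.range)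
      rw [h4, hj] at h5
      exact (dvd_pow_self 2 hj0.ne').trans h5
  exact (hG.actV_eq_one_iff).mp h1

theorem full_false {k : ℕ} (hG : Geo a V (2 ^ k)) (hT : Tor a b V H) (S : Sylow 2 G)
    (hS : ∀ s ∈ S, s • a = a) (htr : ∀ c : Ω, c ≠ a → ∃ w ∈ hG.W, w • b = c)
    (hhom : ∀ (P : Type u) [CommGroup P], IsPGroup 2 P →
      ∀ φ : MulAction.stabilizer G a →* P, φ = 1)
    (hidx : ¬ ∃ M : Subgroup G, M.Normal ∧ M.index = 2) : False := by
  have hf2 : Fact (Nat.Prime 2) := ⟨Nat.prime_two⟩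
  have hSW : (S : Subgroup G) ≤ hG.W := two_le_W hG hT htr hhom S.2 hS
  have hSa : (S : Subgroup G) ≤ MulAction.stabilizer G a := hS
  -- `V ≤ S`
  have hV2 : IsPGroup 2 V := by
    intro x
    exact ⟨1, by rw [pow_one, pow_two]; exact Subtype.ext (hG.V_sq x x.2)⟩
  have hVS : V ≤ (S : Subgroup G) := by
    have h1 : (S : Subgroup G) ≤ normalizer (V : Set G) := by
      rw [le_normalizer_iff]
      intro g hg x hx
      exact hG.V_conj g (hS g hg) x hx
    have h2 : IsPGroup 2 ((S : Subgroup G) ⊔ V : Subgroup G) := S.2.to_sup_of_normal_right' hV2 h1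
    have h3 := S.3 h2 le_sup_left
    exact le_sup_right.trans h3.le
  -- odd index
  have hoddS : Odd ((S : Subgroup G).relIndex (MulAction.stabilizer G a)) := by
    have h1 := relIndex_mul_index hSa
    rw [← Nat.not_even_iff_odd, even_iff_two_dvd]
    intro h2
    exact S.not_dvd_index (h1 ▸ h2.mul_right _)
  have hrel : (MulAction.stabilizer G b).relIndex (MulAction.stabilizer G a) = 2 ^ (k * 3) := by
    rw [hG.relIndex_stab_a hT.ne, pow_mul]
  have htrans : ∀ c : Ω, c ≠ a → ∃ s ∈ (S : Subgroup G), s • b = c := by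
    intro c hc
    obtain ⟨g, hg, hgc⟩ := hG.trans b c hT.ne hc
    obtain ⟨s, hs, hsb⟩ := trans_of_odd (S : Subgroup G) _ hSa hoddS b _ hrel g hg
    exact ⟨s, hs, by rw [hsb, hgc]⟩
  have hoddT : Odd (((S : Subgroup G) ⊓ MulAction.stabilizer G b).relIndex
      (MulAction.stabilizer G a ⊓ MulAction.stabilizer G b)) :=
    odd_stab (S : Subgroup G) _ hSa hoddS b _ hrel
  -- a 2-subgroup of `G_{ab}` containing `T` is contained in `T`
  have hmax : ∀ R : Subgroup G, IsPGroup 2 R → (S : Subgroup G) ⊓ MulAction.stabilizer G b ≤ R →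
      R ≤ MulAction.stabilizer G a ⊓ MulAction.stabilizer G b →
      R ≤ (S : Subgroup G) ⊓ MulAction.stabilizer G b := by
    intro R hR hTR hRab
    have h1 := relIndex_mul_relIndex _ _ _ hTR hRab
    have h2 : Odd (((S : Subgroup G) ⊓ MulAction.stabilizer G b).relIndex R) := by
      refine hoddT.of_dvd_nat ?_
      rw [← h1]
      exact dvd_mul_right _ _
    obtain ⟨n, hn⟩ := hR.index (((S : Subgroup G) ⊓ MulAction.stabilizer G b).subgroupOf R)
    have h3 : (((S : Subgroup G) ⊓ MulAction.stabilizer G b).relIndex R) = 2 ^ n := hn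
    have h4 : n = 0 := by
      by_contra h0
      rw [h3] at h2
      exact (Nat.not_odd_iff_even.mpr ((Nat.even_pow' h0).mpr even_two)) h2
    rw [h4, pow_zero] at h3
    exact relIndex_eq_one.mp h3
  have hC : ThreeCore.Core a b V H ((S : Subgroup G) ⊓ MulAction.stabilizer G b)
      (S : Subgroup G) (2 ^ k) := by
    refine ⟨hT.ne, hG.four_le, hG.card_V, hG.V_sq, hG.V_a, hG.V_free, hG.V_conj, hVS,
      inf_le_left, S.2, hS, fun s hs => (hSW hs).2, fun s hs hsb => ⟨hs, hsb⟩,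
      fun t ht => ht.2, ?_, htrans, ?_, ?_, ?_, ?_, hT.H_a, hT.H_b, hT.H_comm, hT.H_trans,
      hT.H_odd, ?_⟩
    · -- `T ≠ 1`
      obtain ⟨u, hu, hu1, hua, hub⟩ := hG.pair b hT.ne
      by_contra hno
      push Not at hno
      have hbot : (S : Subgroup G) ⊓ MulAction.stabilizer G b = ⊥ := by
        rw [eq_bot_iff]
        intro t ht
        exact mem_bot.mpr (hno t ht)
      have hR : IsPGroup 2 (zpowers u) := by
        rw [IsPGroup.iff_card]
        refine ⟨1, ?_⟩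
        rw [Nat.card_zpowers, pow_one]
        exact orderOf_eq_prime (by rw [pow_two]; exact hu) hu1
      have h1 := hmax (zpowers u) hR (by rw [hbot]; exact bot_le)
        (by rw [zpowers_le]; exact ⟨hua, hub⟩)
      rw [hbot, zpowers_le, mem_bot] at h1
      exact hu1 h1
    · -- `|S| = q ^ 3 |T|`
      have h1 : (MulAction.stabilizer G b).relIndex (S : Subgroup G) = (2 ^ k) ^ 3 := by
        rw [relIndex_stab, ← hG.card_pts]
        congr 1
        ext c
        constructor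
        · rintro ⟨g, hg, rfl⟩
          exact Geo.smul_ne (hS g hg) hT.ne
        · intro hc
          obtain ⟨s, hs, hsc⟩ := htrans c hc
          exact ⟨s, hs, hsc⟩
      have h2 := card_mul_index (((S : Subgroup G) ⊓ MulAction.stabilizer G b).subgroupOf
        (S : Subgroup G))
      have h3 : (((S : Subgroup G) ⊓ MulAction.stabilizer G b).subgroupOf
          (S : Subgroup G)).index = (2 ^ k) ^ 3 := by
        rw [← h1, ← inf_relIndex_left]
        rfl
      have h4 : Nat.card (((S : Subgroup G) ⊓ MulAction.stabilizer G b).subgroupOf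
          (S : Subgroup G)) = Nat.card ((S : Subgroup G) ⊓ MulAction.stabilizer G b : Subgroup G) :=
        Nat.card_congr (subgroupOfEquivOfLe inf_le_left).toEquiv
      rw [h3, h4, mul_comm] at h2
      exact h2.symm
    · -- `T_max`
      rintro y hya hyb ⟨n, hn⟩ hyt
      have hy2 : IsPGroup 2 (zpowers y) := by
        rw [IsPGroup.iff_card]
        obtain ⟨j, -, hj⟩ := (Nat.dvd_prime_pow Nat.prime_two).mp (orderOf_dvd_of_pow_eq_one hn)
        exact ⟨j, by rw [Nat.card_zpowers, hj]⟩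
      have hT2 : IsPGroup 2 ((S : Subgroup G) ⊓ MulAction.stabilizer G b : Subgroup G) :=
        S.2.to_le inf_le_left
      have h1 : zpowers y ≤ normalizer
          (((S : Subgroup G) ⊓ MulAction.stabilizer G b : Subgroup G) : Set G) := by
        rw [zpowers_le, mem_normalizer_iff]
        intro t
        constructor
        · intro ht
          have : y * t * y⁻¹ = t := by rw [hyt t ht, mul_inv_cancel_right]
          rw [this]; exact ht
        · intro ht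
          have h2 := hyt _ ht
          have h3 : y * t * y⁻¹ = t := by
            have h4 : y * (y * t * y⁻¹) * y⁻¹ = y * t * y⁻¹ := by
              rw [h2, mul_inv_cancel_right]
            have h5 := mul_right_cancel h4
            exact mul_left_cancel h5
          rwa [h3] at ht
      have h2 := hy2.to_sup_of_normal_right' hT2 h1
      have h3 := hmax _ h2 le_sup_right (by
        rw [sup_le_iff]
        refine ⟨?_, inf_le_inf_right _ hSa⟩
        rw [zpowers_le]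
        exact ⟨hya, hyb⟩)
      exact h3 (mem_sup_left (mem_zpowers y))
    · -- `invol`
      intro t ht htt htV
      exact hG.ex_fix t htt (hS t ht) htV
    · -- `fix`
      intro t ht ht1 c d hc hd htc htd
      obtain ⟨n, hn⟩ := (IsPGroup.iff_orderOf.mp S.2) ⟨t, ht⟩
      have h2 : t ^ 2 ^ n = 1 := by
        have h3 : (⟨t, ht⟩ : (S : Subgroup G)) ^ 2 ^ n = 1 := by rw [← hn]; exact pow_orderOf_eq_one _
        exact congrArg Subtype.val h3
      obtain ⟨m, hm, hm1⟩ := exists_pow_invol ⟨n, h2⟩ ht1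
      exact hG.orb _ hm hm1 (pow_smul_eq (hS t ht) m) c d hc hd (pow_smul_eq htc m)
        (pow_smul_eq htd m)
    · -- `H_ex`
      obtain ⟨⟨g, hg⟩, hgen⟩ := hT.H_cyc.exists_generator
      refine ⟨g, hg, fun x hx hx1 hfix => ?_⟩
      have hcomm : ∀ h ∈ H, h * x * h⁻¹ = x := by
        intro h hh
        obtain ⟨n, hn⟩ := mem_zpowers_iff.mp (hgen ⟨h, hh⟩)
        have h1 : g ^ n = h := congrArg Subtype.val hn
        have h2 : Commute g x := mul_inv_eq_iff_eq_mul.mp hfix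
        have h3 : Commute (g ^ n) x := h2.zpow_left n
        rw [← h1, h3.eq, mul_inv_cancel_right]
      -- another element of `V`
      have hex : ∃ y ∈ V, y ≠ 1 ∧ y ≠ x := by
        by_contra hno
        push Not at hno
        have h1 : (V : Set G) ⊆ {1, x} := by
          intro y hy
          by_cases h2 : y = 1
          · exact Or.inl h2
          · exact Or.inr (hno y hy h2)
        have h2 := Set.ncard_le_ncard h1 (Set.toFinite _)
        have h3 : (V : Set G).ncard = 2 ^ k := by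
          rw [← hG.card_V, ← Nat.card_coe_set_eq]
          rfl
        have h4 := Set.ncard_insert_le (1 : G) {x}
        rw [Set.ncard_singleton] at h4
        have h5 := hG.four_le
        omega
      obtain ⟨y, hy, hy1, hyx⟩ := hex
      obtain ⟨h, hh, hxy⟩ := hT.H_trans x hx hx1 y hy hy1
      exact hyx (by rw [← hxy, hcomm h hh])
  exact hidx (hC.exists_index_two S rfl)

end

end Cfsg.Agent.AschCrit.ThreeFull
end

-- part: AschCrit/ThreeHyp
section
/-!
# Aschbacher's criterion, commutative case, unital type: the geometry from `CaseHyp`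
-/

set_option autoImplicit false

universe u

open Subgroup

namespace Cfsg.Agent.AschCrit.ThreeHyp

open Cfsg.Agent.TwoFusion.StronglyEmbeddedBasic Cfsg.Agent.AschCrit.Basic
open Cfsg.Agent.AschCrit.Basic.Setup Cfsg.Agent.AschCrit.Closed Cfsg.Agent.AschCrit.Descent
open Cfsg.Agent.AschCrit.NonIso Cfsg.Agent.AschCrit.BGroup Cfsg.Agent.AschCrit.CommTypes
open Cfsg.Agent.AschCrit.CommFrame Cfsg.Agent.AschCrit.CommCase

/-- the geometry of the unital type -/
theorem geo {G Ω : Type u} [Group G] [Finite G] [MulAction G Ω] {z : G} {k : ℕ}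
    (hC : CaseHyp G Ω z k 1) (hat : ∀ a : Ω, Nat.card (At z a) + 1 = 2 ^ k)
    (hΩ : Nat.card Ω = (2 ^ k) ^ 3 + 1) (a : Ω) :
    ThreeGeo.Geo a (vGrp hC.setup hC.faithful hC.comm a) (2 ^ k) := by
  classical
  have hfinΩ : Finite Ω := hC.setup.finite_points
  set V := vGrp hC.setup hC.faithful hC.comm a with hVdef
  have hV : ∀ x, x ∈ V ↔ x = 1 ∨ x ∈ At z a := fun x => mem_vGrp hC.setup hC.faithful hC.comm
  have hcard : Nat.card V = 2 ^ k := by rw [card_V hC.setup hV, hat]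
  have hVa : ∀ x ∈ V, x • a = a := by
    intro x hx
    rcases (hV x).mp hx with rfl | hx
    · exact one_smul _ _
    · exact hx.2
  have hfree : ∀ x ∈ V, x ≠ 1 → ∀ c : Ω, x • c = c → c = a := by
    intro x hx h1 c hc
    have h2 := ((hV x).mp hx).resolve_left h1
    exact (hC.setup.uniq h2.1 h2.2 hc).symm
  have hbad : ∀ u : G, u * u = 1 → u ≠ 1 → ∀ c : Ω, c ≠ a → u • a = a → u • c = c → Bad Ω u :=
    fun u hu h1 c hca hua huc =>
      ⟨orderOf_eq_two_of_mul_self hu h1, a, c, Ne.symm hca, hua, huc⟩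
  have hcent : ∀ u : G, u * u = 1 → u • a = a → ∀ x ∈ V, u * x = x * u := by
    intro u hu hua x hx
    by_cases h1 : u = 1
    · rw [h1, one_mul, mul_one]
    rcases isConj_or_bad hC.setup hC.faithful (orderOf_eq_two_of_mul_self hu h1) with h2 | h2
    · exact commute_of_mem_V hC.comm hV ((hV u).mpr (Or.inr ⟨h2, hua⟩)) hx
    · exact (commute_of_card hC.setup hV hcard (hC.card_atC u h2 a hua) x hx).symm
  refine ⟨?_, hcard, fun x hx => congrArg Subtype.val (mul_self_V hC.setup hV ⟨x, hx⟩), hVa, hfree, ?_, ?_,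
    fun c d hc hd => hC.two_trans a c a d (Ne.symm hc) (Ne.symm hd), hcent, ?_, ?_, ?_⟩
  · calc 4 = 2 ^ 2 := by norm_num
      _ ≤ 2 ^ k := Nat.pow_le_pow_right (by norm_num) hC.two_le
  · intro g hg x hx
    rcases (hV x).mp hx with rfl | hx
    · simp [one_mem]
    · refine (hV _).mpr (Or.inr ?_)
      have h1 := conj_mem_At g hx
      rwa [hg] at h1
  · have h1 : ({a} : Set Ω).ncard + ({a} : Set Ω)ᶜ.ncard = Nat.card Ω :=
      Set.ncard_add_ncard_compl _
    have h2 : {c : Ω | c ≠ a} = ({a} : Set Ω)ᶜ := by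
      ext c
      rfl
    rw [h2]
    rw [Set.ncard_singleton, hΩ] at h1
    omega
  · intro u hu h1 hua c d hc hd huc hud
    have hb := hbad u hu h1 c hc hua huc
    have h2 := hC.card_fix u hb
    have h3 : Nat.card {e : Ω // u • e = e ∧ e ≠ a} = 2 ^ k := by
      have h4 : ({a} : Set Ω).ncard + {e : Ω | u • e = e ∧ e ≠ a}.ncard =
          {e : Ω | u • e = e}.ncard := by
        rw [← Set.ncard_union_eq (by
          rw [Set.disjoint_left]
          rintro x hx ⟨-, h5⟩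
          exact h5 hx)]
        congr 1
        ext e
        constructor
        · rintro (h5 | h5)
          · have h6 : e = a := h5
            rw [h6]; exact hua
          · exact h5.1
        · intro h5
          by_cases h6 : e = a
          · exact Or.inl h6
          · exact Or.inr ⟨h5, h6⟩
      have h5 : Nat.card {c : Ω // u • c = c} = {e : Ω | u • e = e}.ncard := rfl
      have h6 : Nat.card {e : Ω // u • e = e ∧ e ≠ a} = {e : Ω | u • e = e ∧ e ≠ a}.ncard := rfl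
      rw [Set.ncard_singleton, ← h5, ← h6, h2, pow_one] at h4
      omega
    let F : V → {e : Ω // u • e = e ∧ e ≠ a} := fun x => ⟨(x : G) • c, by
      rw [← mul_smul, hcent u hu hua x x.2, mul_smul, huc], fun h4 => hc (by
        have h5 : (x : G) • a = a := hVa x x.2
        exact smul_left_cancel (x : G) (h4.trans h5.symm))⟩
    have hF : Function.Injective F := by
      intro x y hxy
      have h4 : (x : G) • c = (y : G) • c := congrArg Subtype.val hxy
      have h5 : ((y : G)⁻¹ * x) • c = c := by rw [mul_smul, h4, inv_smul_smul]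
      by_contra hne
      have h6 : (y : G)⁻¹ * x ≠ 1 := by
        intro h7
        exact hne (Subtype.ext (inv_mul_eq_one.mp h7).symm)
      exact hc (hfree _ (V.mul_mem (V.inv_mem y.2) x.2) h6 c h5)
    have hF' := hF.bijective_of_nat_card_le (by rw [h3, hcard])
    obtain ⟨x, hx⟩ := hF'.2 ⟨d, hud, hd⟩
    exact ⟨x, x.2, congrArg Subtype.val hx⟩
  · intro u hu hua huV
    have h1 : u ≠ 1 := by
      rintro rfl
      exact huV V.one_mem
    rcases isConj_or_bad hC.setup hC.faithful (orderOf_eq_two_of_mul_self hu h1) with h2 | h2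
    · exact absurd ((hV u).mpr (Or.inr ⟨h2, hua⟩)) huV
    · obtain ⟨-, c, d, hcd, hc, hd⟩ := h2
      by_cases hca : c = a
      · exact ⟨d, fun h3 => hcd (hca.trans h3.symm), hd⟩
      · exact ⟨c, hca, hc⟩
  · intro c hc
    obtain ⟨v, hv, hva, hvc⟩ := hC.exists_bad_pair a c (Ne.symm hc)
    exact ⟨v, hv.mul_self, hv.ne_one, hva, hvc⟩

end Cfsg.Agent.AschCrit.ThreeHyp
end

-- part: AschCrit/ThreeTor
section
/-!
# Aschbacher's criterion, commutative case, unital type: the torus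

`exists_tor` : for every point `a` there are a point `b` and a cyclic group `H` of odd order with
`ThreeGeo.Tor a b V_a H`.  `H` is a lift of the two-point stabiliser `L_{ab}` of the group `L ≅ L₂(q)`
induced by `⟨D ∩ C(u)⟩` on `Fix u`, `u` a bad involution of `G_a`.
-/

set_option autoImplicit false

universe u

namespace Cfsg.Agent.AschCrit.ThreeTor

open Cfsg MulAction Subgroup
open Cfsg.Agent.TwoFusion.StronglyEmbeddedBasic Cfsg.Agent.AschCrit.Basic
open Cfsg.Agent.AschCrit.Basic.Setup Cfsg.Agent.AschCrit.Closed Cfsg.Agent.AschCrit.Descent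
open Cfsg.Agent.AschCrit.NonIso Cfsg.Agent.AschCrit.BGroup Cfsg.Agent.AschCrit.InductLine
open Cfsg.Agent.AschCrit.RankOneTypes Cfsg.Agent.LieRecognition
open Cfsg.Agent.AschCrit.CommTypes Cfsg.Agent.AschCrit.CommFrame Cfsg.Agent.AschCrit.CommCase
open Cfsg.Agent.AschCrit.CommFour.Adapter Cfsg.Agent.AschCrit.CommFour.AdapterHyp

variable {G Ω : Type u} [Group G] [Finite G] [MulAction G Ω] {z : G} {k : ℕ}

/-- `V_a` -/
abbrev VV (hC : CaseHyp G Ω z k 1) (a : Ω) : Subgroup G := vGrp hC.setup hC.faithful hC.comm a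

theorem mem_VV (hC : CaseHyp G Ω z k 1) {a : Ω} {x : G} : x ∈ VV hC a ↔ x = 1 ∨ x ∈ At z a :=
  Iff.rfl

theorem smul_self (hC : CaseHyp G Ω z k 1) {a : Ω} {x : G} (hx : x ∈ VV hC a) : x • a = a := by
  rcases hx with rfl | hx
  · exact one_smul _ _
  · exact hx.2

theorem conjV (hC : CaseHyp G Ω z k 1) {g : G} {e e' : Ω} (hg : g • e = e') {x : G}
    (hx : x ∈ VV hC e) : g * x * g⁻¹ ∈ VV hC e' := by
  rcases hx with rfl | hx
  · left; group
  · right
    rw [← hg]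
    exact conj_mem_At g hx

theorem free (hC : CaseHyp G Ω z k 1) {e c : Ω} (hce : c ≠ e) {x y : G} (hx : x ∈ VV hC e)
    (hy : y ∈ VV hC e) (hxy : x • c = y • c) : x = y := by
  have h1 : y⁻¹ * x ∈ VV hC e := (VV hC e).mul_mem ((VV hC e).inv_mem hy) hx
  have h2 : (y⁻¹ * x) • c = c := by rw [mul_smul, hxy, inv_smul_smul]
  rcases h1 with h1 | h1
  · exact (inv_mul_eq_one.mp h1).symm
  · exact absurd (hC.setup.uniq h1.1 h2 h1.2) hce

theorem card_VV (hC : CaseHyp G Ω z k 1) (hat : ∀ a : Ω, Nat.card (At z a) + 1 = 2 ^ k) (a : Ω) :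
    Nat.card (VV hC a) = 2 ^ k := by
  rw [card_V hC.setup (fun x => mem_VV hC), hat]

theorem commV (hC : CaseHyp G Ω z k 1) (hat : ∀ a : Ω, Nat.card (At z a) + 1 = 2 ^ k) {u : G}
    (hu : Bad Ω u) {c : Ω} (hc : u • c = c) {x : G} (hx : x ∈ VV hC c) : u * x = x * u :=
  (commute_of_card hC.setup (fun x => mem_VV hC) (card_VV hC hat c)
    (hC.card_atC u hu c hc) x hx).symm.eq

theorem fix_iff (hC : CaseHyp G Ω z k 1) (hat : ∀ a : Ω, Nat.card (At z a) + 1 = 2 ^ k) {u : G}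
    (hu : Bad Ω u) {a b : Ω} (hba : b ≠ a) (ha : u • a = a) (hb : u • b = b) (c : Ω) :
    u • c = c ↔ c = a ∨ ∃ x ∈ VV hC a, x • b = c := by
  have hfin := hC.setup.finite_points
  have hinj : Function.Injective (fun x : VV hC a => (x : G) • b) := by
    intro x y hxy
    exact Subtype.ext (free hC hba x.2 y.2 hxy)
  have hnot : a ∉ Set.range (fun x : VV hC a => (x : G) • b) := by
    rintro ⟨x, hx⟩
    apply hba
    have h1 : (x : G) • b = (x : G) • a := by
      rw [smul_self hC x.2]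
      exact hx
    exact smul_left_cancel (x : G) h1
  have h1 : (insert a (Set.range (fun x : VV hC a => (x : G) • b))).ncard = 2 ^ k + 1 := by
    rw [Set.ncard_insert_of_notMem hnot (Set.toFinite _), ← Nat.card_coe_set_eq,
      Nat.card_range_of_injective hinj, card_VV hC hat]
  have h2 : {c : Ω | u • c = c}.ncard = 2 ^ k + 1 := by
    have := hC.card_fix u hu
    rw [pow_one] at this
    exact this
  have h3 : insert a (Set.range (fun x : VV hC a => (x : G) • b)) ⊆ {c : Ω | u • c = c} := by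
    rintro c (rfl | ⟨x, rfl⟩)
    · exact ha
    · show u • (x : G) • b = (x : G) • b
      rw [smul_smul, commV hC hat hu ha x.2, mul_smul, hb]
  have h4 := Set.eq_of_subset_of_ncard_le h3 (by rw [h1, h2]) (Set.toFinite _)
  have h5 : c ∈ {c : Ω | u • c = c} ↔ c ∈ insert a (Set.range (fun x : VV hC a => (x : G) • b)) := by
    rw [h4]
  rw [Set.mem_ofPred_eq] at h5
  rw [h5, Set.mem_insert_iff]
  constructor
  · rintro (h6 | ⟨x, hx⟩)
    · exact Or.inl h6
    · exact Or.inr ⟨x, x.2, hx⟩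
  · rintro (h6 | ⟨x, hx, hxc⟩)
    · exact Or.inl h6
    · exact Or.inr ⟨⟨x, hx⟩, hxc⟩

/-- the elements of `V_e`, `e ∈ Fix u`, lie in `dGen z (C(u))` -/
theorem mem_dGen_of (hC : CaseHyp G Ω z k 1) (hat : ∀ a : Ω, Nat.card (At z a) + 1 = 2 ^ k) {u : G}
    (hu : Bad Ω u) {e : Ω} (he : u • e = e) {x : G} (hx : x ∈ VV hC e) :
    x ∈ dGen z (centralizer ({u} : Set G)) := by
  have h1 := commV hC hat hu he hx
  rcases hx with rfl | hx
  · exact one_mem _
  · exact mem_dGen hx.1 (mem_centralizer_singleton_iff.mpr h1.symm)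

/-- an element fixing `Fix u` pointwise and centralising `V_a` commutes with `dGen z (C(u))` -/
theorem commute_all (hC : CaseHyp G Ω z k 1) (_hat : ∀ a : Ω, Nat.card (At z a) + 1 = 2 ^ k)
    {u : G} (_hu : Bad Ω u) {a : Ω} (ha : u • a = a) {w : G} (hw : ∀ c : Ω, u • c = c → w • c = c)
    (hwV : ∀ x ∈ VV hC a, w * x = x * w) :
    ∀ g ∈ dGen z (centralizer ({u} : Set G)), g * w = w * g := by
  have hle : dGen z (centralizer ({u} : Set G)) ≤ centralizer ({w} : Set G) := by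
    rw [dGen, closure_le]
    rintro d ⟨hd, hdu⟩
    rw [SetLike.mem_coe, mem_centralizer_singleton_iff]
    have hdu' : d * u = u * d := mem_centralizer_singleton_iff.mp hdu
    obtain ⟨e, he⟩ := hC.setup.ex hd
    have heu : u • e = e := hC.setup.fix_of_commute hd hdu'.symm he
    by_cases hea : e = a
    · subst hea
      exact (hwV d (Or.inr ⟨hd, he⟩)).symm
    · have h1 : w * d * w⁻¹ ∈ VV hC e := conjV hC (hw e heu) (Or.inr ⟨hd, he⟩)
      have h2 : u • d • a = d • a := by rw [smul_smul, ← hdu', mul_smul, ha]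
      have h3 : (w * d * w⁻¹) • a = d • a := by
        rw [mul_smul, mul_smul]
        have h4 : w⁻¹ • a = a := by rw [inv_smul_eq_iff, hw a ha]
        rw [h4, hw _ h2]
      have h4 := free hC (Ne.symm hea) h1 (Or.inr ⟨hd, he⟩) h3
      calc d * w = w * d * w⁻¹ * w := by rw [h4]
        _ = w * d := by group
  intro g hg
  exact mem_centralizer_singleton_iff.mp (hle hg)

/-- for `c ∉ Fix u` there is exactly one `d ∈ D ∩ C(u)` with `d c = u c` -/
theorem exists_sw (hC : CaseHyp G Ω z k 1) (hat : ∀ a : Ω, Nat.card (At z a) + 1 = 2 ^ k)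
    {u : G} (hu : Bad Ω u) {a : Ω} (ha : u • a = a) {c : Ω} (hc : u • c ≠ c) :
    ∃ d ∈ SwC z u c, ∀ d' ∈ SwC z u c, d' = d := by
  have := hC.simple
  have hR1 : ∀ y : G, IsConj z y → Commute y u → IsConj u (u * y) :=
    fun y hy hyu => isConj_mul hC.setup hC.faithful hC.nonIso hu hy hyu
  have h1 := Count.card_at_eq_mul hC.setup hu.mul_self hR1 ha hc
  have h2 := hC.card_atC u hu a ha
  have h3 := hat c
  have h4 : 0 < Nat.card (AtC z u a) := by
    have : 4 ≤ 2 ^ k := by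
      calc 4 = 2 ^ 2 := by norm_num
        _ ≤ 2 ^ k := Nat.pow_le_pow_right (by norm_num) hC.two_le
    omega
  have h5 : Nat.card (SwC z u c) = 1 := by
    have h6 : 1 * Nat.card (AtC z u a) = Nat.card (SwC z u c) * Nat.card (AtC z u a) := by
      rw [← h1, one_mul]
      omega
    exact (Nat.eq_of_mul_eq_mul_right h4 h6).symm
  obtain ⟨h6, ⟨d⟩⟩ := Nat.card_eq_one_iff_unique.mp h5
  exact ⟨d.1, d.2, fun d' hd' => congrArg Subtype.val (h6.elim ⟨d', hd'⟩ d)⟩

/-- the point `b` and the group `H` -/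
theorem exists_tor (hC : CaseHyp G Ω z k 1) (hat : ∀ a : Ω, Nat.card (At z a) + 1 = 2 ^ k)
    (hΩ : Nat.card Ω = (2 ^ k) ^ 3 + 1) (a : Ω) :
    ∃ (b : Ω) (H : Subgroup G), ThreeGeo.Tor a b (vGrp hC.setup hC.faithful hC.comm a) H := by
  have hsim := hC.simple
  have h := hC.setup
  obtain ⟨c₀, hc₀⟩ : ∃ c : Ω, c ≠ a := by
    obtain ⟨p, q, hpq⟩ := h.nontriv
    by_cases hp : p = a
    · exact ⟨q, by rw [← hp]; exact hpq.symm⟩
    · exact ⟨p, hp⟩
  obtain ⟨u, hu, -, hua⟩ := hC.exists_bad_pair c₀ a hc₀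
  obtain ⟨X, iX, iA, φ, hL⟩ := exists_line_bad hC hu
  have hXf := hL.finite
  have hXa := hL.faithful
  have hXs := hL.simple
  have hpts := mem_pts_centralizer_singleton h hu.mul_self
  obtain ⟨t, Q, hS, -, hQc, hinv⟩ := hL.rank ⟨a, (hpts a).mpr hua⟩
  set a' : pts Ω z (centralizer ({u} : Set G)) := ⟨a, (hpts a).mpr hua⟩ with ha'
  set b' : pts Ω z (centralizer ({u} : Set G)) := t • a' with hb'
  have hba' : b' ≠ a' := RankOneBasic.t_smul_ne hS
  have hub : u • (b' : Ω) = (b' : Ω) := (hpts _).mp b'.2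
  have hba : (b' : Ω) ≠ a := fun hh => hba' (Subtype.ext hh)
  have hi : (1 : ℕ) ≤ 2 := one_le_two
  have hcyc := isCyclic_of_le_two hS hL.four hinv hQc hC.two_le hi
  have hcardD := card_stab2_eq hS hL.four hinv hQc hC.two_le hi
  set D₀ : Subgroup X := stabilizer X a' ⊓ stabilizer X (t • a') with hD₀
  obtain ⟨y, hy⟩ := hcyc.exists_generator
  obtain ⟨g, hg⟩ := hL.surj (y : X)
  -- the odd part
  obtain ⟨e, m, hm, hem⟩ : ∃ e m : ℕ, Odd m ∧ orderOf (g : G) = 2 ^ e * m :=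
    Nat.exists_eq_two_pow_mul_odd (orderOf_pos (g : G)).ne'
  have hodd : Odd (2 ^ k - 1) :=
    Nat.Even.sub_odd Nat.one_le_two_pow ((Nat.even_pow' (by have := hC.two_le; omega)).mpr even_two)
      odd_one
  have hyodd : Nat.Coprime (Nat.card D₀) (2 ^ e) := by
    rw [hcardD]
    exact (Nat.Coprime.pow_left e (Nat.coprime_two_left.mpr hodd)).symm
  set h₀ : dGen z (centralizer ({u} : Set G)) := g ^ 2 ^ e with hh₀
  have hφ₀ : φ h₀ = ((y ^ 2 ^ e : D₀) : X) := by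
    rw [hh₀, map_pow, hg]
    rfl
  have hord : orderOf (h₀ : G) = m := by
    rw [hh₀, SubmonoidClass.coe_pow, orderOf_pow, hem]
    rw [Nat.gcd_eq_right (Dvd.intro _ rfl), Nat.mul_div_cancel_left _ (by positivity)]
  -- every element of `D₀` is the image of an element of `H`
  set H : Subgroup G := zpowers (h₀ : G) with hH
  have hHle : H ≤ dGen z (centralizer ({u} : Set G)) := by
    rw [hH, zpowers_le]
    exact h₀.2
  have hHD : ∀ x : G, ∀ hx : x ∈ H, φ ⟨x, hHle hx⟩ ∈ D₀ := by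
    intro x hx
    obtain ⟨n, hn⟩ := mem_zpowers_iff.mp hx
    have h1 : (⟨x, hHle hx⟩ : dGen z (centralizer ({u} : Set G))) = h₀ ^ n := by
      apply Subtype.ext
      rw [SubgroupClass.coe_zpow]
      exact hn.symm
    rw [h1, map_zpow, hφ₀]
    exact (((y ^ 2 ^ e) ^ n : D₀)).2
  have hsur : ∀ x ∈ D₀, ∃ g' : G, ∃ hg' : g' ∈ H, φ ⟨g', hHle hg'⟩ = x := by
    intro x hx
    obtain ⟨w, hw⟩ := (powCoprime hyodd).surjective ⟨x, hx⟩
    obtain ⟨n, hn⟩ := mem_zpowers_iff.mp (hy w)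
    refine ⟨(h₀ : G) ^ n, mem_zpowers_iff.mpr ⟨n, rfl⟩, ?_⟩
    have h1 : (⟨(h₀ : G) ^ n, hHle (mem_zpowers_iff.mpr ⟨n, rfl⟩)⟩ : dGen z (centralizer ({u} : Set G))) = h₀ ^ n := by
      apply Subtype.ext
      rw [SubgroupClass.coe_zpow]
    rw [h1, map_zpow, hφ₀]
    have h2 : (w ^ 2 ^ e : D₀) = ⟨x, hx⟩ := hw
    have h3 : ((y ^ 2 ^ e) ^ n : D₀) = ⟨x, hx⟩ := by
      rw [← h2, ← hn, ← zpow_natCast, ← zpow_natCast, ← zpow_mul, ← zpow_mul, mul_comm]
    exact congrArg Subtype.val h3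
  have hHa : ∀ x ∈ H, x • a = a := by
    intro x hx
    have h1 := (mem_inf.mp (hHD x hx)).1
    exact (map_smul_eq_iff hL ⟨x, hHle hx⟩ a'.2 a'.2).mp h1
  have hHb : ∀ x ∈ H, x • (b' : Ω) = b' := by
    intro x hx
    have h1 := (mem_inf.mp (hHD x hx)).2
    exact (map_smul_eq_iff hL ⟨x, hHle hx⟩ b'.2 b'.2).mp h1
  have hfix := fix_iff hC hat hu hba hua hub
  -- an element of `H` with three fixed points in `Fix u` centralises `V`
  have hthree : ∀ x ∈ H, ∀ c : Ω, u • c = c → c ≠ a → c ≠ (b' : Ω) → x • c = c →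
      ∀ v ∈ VV hC a, x * v = v * x := by
    intro x hx c huc hca hcb hxc v hv
    have h1 : φ ⟨x, hHle hx⟩ = 1 := by
      refine eq_one_of_le_two hS hL.four hinv hQc hC.two_le hi (b := a') (c := b')
        (d := ⟨c, (hpts c).mpr huc⟩) hba'.symm ?_ ?_ (mem_inf.mp (hHD x hx)).1
        (mem_inf.mp (hHD x hx)).2 ?_
      · exact fun hh => hca (congrArg Subtype.val hh).symm
      · exact fun hh => hcb (congrArg Subtype.val hh).symm
      · exact (map_smul_eq_iff hL ⟨x, hHle hx⟩ _ _).mpr hxc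
    have h2 := (_root_.Cfsg.Agent.AschCrit.CommFour.Adapter.map_eq_one_iff hL _).mp h1
    have h3 : x * v * x⁻¹ ∈ VV hC a := conjV hC (hHa x hx) hv
    have h4 : (x * v * x⁻¹) • (b' : Ω) = v • (b' : Ω) := by
      have h5 : x⁻¹ • (b' : Ω) = b' := by rw [inv_smul_eq_iff, hHb x hx]
      rw [mul_smul, mul_smul, h5]
      exact h2 _ ((hpts _).mpr ((hfix _).mpr (Or.inr ⟨v, hv, rfl⟩)))
    have h5 := free hC hba h3 hv h4
    calc x * v = x * v * x⁻¹ * x := by group
      _ = v * x := by rw [h5]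
  refine ⟨b', H, ?_⟩
  refine
    { ne := hba
      H_a := hHa
      H_b := hHb
      H_odd := by rw [hH, Nat.card_zpowers, hord]; exact hm
      H_cyc := inferInstance
      H_comm := ?_
      H_trans := ?_
      H_out := ?_
      H_norm := ?_ }
  · intro x hx w hwa hwb hwV
    refine commute_all hC hat hu hua ?_ hwV x (hHle hx)
    intro c hc
    rcases (hfix c).mp hc with rfl | ⟨v, hv, rfl⟩
    · exact hwa
    · rw [smul_smul, hwV v hv, mul_smul, hwb]
  · intro x hx hx1 y' hy' hy1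
    -- the involutions of `X_a`
    have hinvol : ∀ v : G, ∀ hv : v ∈ VV hC a, v ≠ 1 →
        φ ⟨v, mem_dGen_of hC hat hu hua hv⟩ ∈ involutionsIn (stabilizer X a' : Set X) := by
      intro v hv hv1
      refine ⟨?_, ?_, ?_⟩
      · exact (map_smul_eq_iff hL ⟨v, mem_dGen_of hC hat hu hua hv⟩ a'.2 a'.2).mpr
          (smul_self hC hv)
      · intro hh
        have h1 := (_root_.Cfsg.Agent.AschCrit.CommFour.Adapter.map_eq_one_iff hL _).mp hh b' b'.2
        exact hv1 (free hC hba hv (one_mem _) (by rw [one_smul]; exact h1))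
      · rw [← map_mul]
        have h1 : (⟨v, mem_dGen_of hC hat hu hua hv⟩ : dGen z (centralizer ({u} : Set G))) *
            ⟨v, mem_dGen_of hC hat hu hua hv⟩ = 1 := by
          apply Subtype.ext
          rcases hv with rfl | hv
          · exact mul_one 1
          · exact h.mul_self hv.1
        rw [h1, map_one]
    obtain ⟨d, hd, hdx⟩ := RankOneTypes.exists_conj hS (hinvol x hx hx1) (hinvol y' hy' hy1)
    obtain ⟨g', hg', rfl⟩ := hsur d hd
    refine ⟨g', hg', ?_⟩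
    refine free hC hba (conjV hC (hHa g' hg') hx) hy' ?_
    have h1 : φ ⟨g' * x * g'⁻¹, mul_mem (mul_mem (hHle hg') (mem_dGen_of hC hat hu hua hx))
        (inv_mem (hHle hg'))⟩ = φ ⟨y', mem_dGen_of hC hat hu hua hy'⟩ := by
      rw [← hdx, ← map_inv, ← map_mul, ← map_mul]
      rfl
    have h2 := hL.compat ⟨g' * x * g'⁻¹, mul_mem (mul_mem (hHle hg') (mem_dGen_of hC hat hu hua hx))
        (inv_mem (hHle hg'))⟩ b'
    have h3 := hL.compat ⟨y', mem_dGen_of hC hat hu hua hy'⟩ b'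
    rw [h1, h3] at h2
    exact h2.symm
  · intro x hx c hca hcV hxc v hv
    have huc : u • c ≠ c := by
      intro hh
      rcases (hfix c).mp hh with h1 | ⟨v', hv', h1⟩
      · exact hca h1
      · exact hcV v' hv' h1
    have hxu : x * u = u * x := mem_centralizer_singleton_iff.mp (dGen_le z _ (hHle hx))
    obtain ⟨d, ⟨⟨hd, hdc⟩, hdu⟩, hduniq⟩ := exists_sw hC hat hu hua huc
    have h1 : x * d * x⁻¹ ∈ SwC z u c := by
      refine ⟨⟨conj_mem hd x, ?_⟩, ?_⟩
      · have h2 : x⁻¹ • c = c := by rw [inv_smul_eq_iff, hxc]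
        rw [mul_smul, mul_smul, h2, hdc, smul_smul, hxu, mul_smul, hxc]
      · show x * d * x⁻¹ * u = u * (x * d * x⁻¹)
        have h2 : x⁻¹ * u = u * x⁻¹ := by
          rw [inv_mul_eq_iff_eq_mul, ← mul_assoc, hxu]; group
        calc x * d * x⁻¹ * u = x * d * (x⁻¹ * u) := by group
          _ = x * (d * u) * x⁻¹ := by rw [h2]; group
          _ = x * u * d * x⁻¹ := by rw [hdu.eq]; group
          _ = u * (x * d * x⁻¹) := by rw [hxu]; group
    have h2 := hduniq _ h1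
    have hxd : x * d = d * x := by
      calc x * d = x * d * x⁻¹ * x := by group
        _ = d * x := by rw [h2]
    obtain ⟨e', he'⟩ := h.ex hd
    have hue' : u • e' = e' := h.fix_of_commute hd hdu.symm he'
    have hxe' : x • e' = e' := h.fix_of_commute hd hxd he'
    have hfixd : ∀ p : Ω, u • p = p → u • d • p = d • p := by
      intro p hp
      rw [smul_smul, ← hdu.eq, mul_smul, hp]
    by_cases hea : e' = a
    · subst hea
      refine hthree x hx (d • (b' : Ω)) (hfixd _ hub) ?_ ?_ ?_ v hv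
      · intro hh
        apply hba
        have h3 : d • (b' : Ω) = d • e' := by rw [hh, he']
        exact smul_left_cancel d h3
      · intro hh
        exact hba (h.uniq hd hh he')
      · rw [smul_smul, hxd, mul_smul, hHb x hx]
    · by_cases heb : e' = (b' : Ω)
      · refine hthree x hx (d • a) (hfixd _ hua) ?_ ?_ ?_ v hv
        · intro hh
          exact hea (h.uniq hd he' hh)
        · intro hh
          apply hea
          have h3 : d • a = d • e' := by rw [hh, he', heb]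
          exact (smul_left_cancel d h3).symm
        · rw [smul_smul, hxd, mul_smul, hHa x hx]
      · exact hthree x hx e' hue' hea heb hxe' v hv
  · intro g' hg'a hg'b x hx
    -- `g'` normalises `dGen`
    have hgfix : ∀ c : Ω, u • c = c → u • g' • c = g' • c := by
      intro c hc
      rcases (hfix c).mp hc with rfl | ⟨v, hv, rfl⟩
      · rw [hg'a]; exact hua
      · refine (hfix _).mpr (Or.inr ⟨g' * v * g'⁻¹, conjV hC hg'a hv, ?_⟩)
        have h1 : g'⁻¹ • (b' : Ω) = b' := by rw [inv_smul_eq_iff, hg'b]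
        rw [mul_smul, mul_smul, h1]
    have hnorm : ∀ x ∈ dGen z (centralizer ({u} : Set G)), g' * x * g'⁻¹ ∈ dGen z (centralizer ({u} : Set G)) := by
      have hle : dGen z (centralizer ({u} : Set G)) ≤ (dGen z (centralizer ({u} : Set G))).comap (MulAut.conj g').toMonoidHom := by
        conv_lhs => rw [dGen]
        rw [closure_le]
        rintro d ⟨hd, hdC⟩
        have hdu : d * u = u * d := mem_centralizer_singleton_iff.mp hdC
        obtain ⟨e', he'⟩ := h.ex hd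
        have hue' : u • e' = e' := h.fix_of_commute hd hdu.symm he'
        show g' * d * g'⁻¹ ∈ dGen z (centralizer ({u} : Set G))
        exact mem_dGen_of hC hat hu (hgfix e' hue') (conjV hC rfl (Or.inr ⟨hd, he'⟩))
      intro x hx
      exact hle hx
    have h1 := hnorm x (hHle hx)
    have hxa : (g' * x * g'⁻¹) • a = a := by
      have h2 : g'⁻¹ • a = a := by rw [inv_smul_eq_iff, hg'a]
      rw [mul_smul, mul_smul, h2, hHa x hx, hg'a]
    have hxb : (g' * x * g'⁻¹) • (b' : Ω) = b' := by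
      have h2 : g'⁻¹ • (b' : Ω) = b' := by rw [inv_smul_eq_iff, hg'b]
      rw [mul_smul, mul_smul, h2, hHb x hx, hg'b]
    have h2 : φ ⟨g' * x * g'⁻¹, h1⟩ ∈ D₀ := by
      refine mem_inf.mpr ⟨?_, ?_⟩
      · exact (map_smul_eq_iff hL ⟨g' * x * g'⁻¹, h1⟩ a'.2 a'.2).mpr hxa
      · exact (map_smul_eq_iff hL ⟨g' * x * g'⁻¹, h1⟩ b'.2 b'.2).mpr hxb
    obtain ⟨h', hh', hφh'⟩ := hsur _ h2
    refine ⟨h', hh', ?_⟩
    intro v hv
    refine free hC hba (conjV hC hxa hv) (conjV hC (hHa h' hh') hv) ?_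
    have hpv : v • (b' : Ω) ∈ pts Ω z (centralizer ({u} : Set G)) :=
      (hpts _).mpr ((hfix _).mpr (Or.inr ⟨v, hv, rfl⟩))
    have h3 := hL.compat ⟨g' * x * g'⁻¹, h1⟩ ⟨v • (b' : Ω), hpv⟩
    have h4 := hL.compat ⟨h', hHle hh'⟩ ⟨v • (b' : Ω), hpv⟩
    rw [hφh', h3] at h4
    have h5 : (g' * x * g'⁻¹)⁻¹ • (b' : Ω) = b' := by rw [inv_smul_eq_iff, hxb]
    have h6 : h'⁻¹ • (b' : Ω) = b' := by rw [inv_smul_eq_iff, hHb h' hh']
    have h7 : (h' * v * h'⁻¹) • (b' : Ω) = h' • v • (b' : Ω) := by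
      rw [mul_smul, mul_smul, h6]
    rw [mul_smul, mul_smul, h5, h7]
    exact h4

end Cfsg.Agent.AschCrit.ThreeTor
end

-- part: AschCrit/CommThree
section
/-!
# Aschbacher's criterion: the commutative case (c3), unital type
-/

set_option autoImplicit false

universe u

open Subgroup

namespace Cfsg.Agent.AschCrit.CommThree

open Cfsg.Agent.TwoFusion.StronglyEmbeddedBasic Cfsg.Agent.AschCrit.Basic
open Cfsg.Agent.AschCrit.Basic.Setup Cfsg.Agent.AschCrit.Closed Cfsg.Agent.AschCrit.Descent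
open Cfsg.Agent.AschCrit.NonIso Cfsg.Agent.AschCrit.BGroup Cfsg.Agent.AschCrit.CommTypes
open Cfsg.Agent.AschCrit.CommFrame Cfsg.Agent.AschCrit.CommCase
open Cfsg.Agent.AschCrit.ThreeGeo Cfsg.Agent.AschCrit.ThreeLam

/-- a Sylow 2-subgroup of `G` in `G_a`, containing a given 2-subgroup of `G_a` -/
theorem odd_case {G Ω : Type*} [Group G] [Finite G] [MulAction G Ω] {a b : Ω} {V H : Subgroup G}
    {k : ℕ} (hG : Geo a V (2 ^ k)) (hT : Tor a b V H) (hk : Odd k)
    (hcl : (hG.cl b).ncard = 2 ^ k * 2 ^ k) (hodd : Odd (MulAction.stabilizer G a).index) :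
    ∃ M : Subgroup G, M.Normal ∧ M.index = 2 := by
  have hf2 : Fact (Nat.Prime 2) := ⟨Nat.prime_two⟩
  obtain ⟨u, hu, hu1, hua, hub⟩ := hG.pair b hT.ne
  have huV := not_mem_V hG hT.ne hu1 hub
  -- a Sylow subgroup of `stabilizer a` containing `u`
  have hz : IsPGroup 2 (zpowers (⟨u, hua⟩ : MulAction.stabilizer G a)) := by
    rintro ⟨x, n, rfl⟩
    refine ⟨1, ?_⟩
    apply Subtype.ext
    show ((⟨u, hua⟩ : MulAction.stabilizer G a) ^ n) ^ 2 ^ 1 = 1
    have h2 : (⟨u, hua⟩ : MulAction.stabilizer G a) ^ 2 = 1 := Subtype.ext (by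
      show u ^ 2 = 1
      rw [pow_two, hu])
    rw [pow_one, ← zpow_natCast, ← zpow_mul, mul_comm, zpow_mul]
    simp [h2]
  obtain ⟨P, hP⟩ := hz.exists_le_sylow
  -- as a Sylow subgroup of `G`
  have hPG : IsPGroup 2 ((P : Subgroup (MulAction.stabilizer G a)).map
      (MulAction.stabilizer G a).subtype) := P.2.map _
  have hPi : ¬ 2 ∣ ((P : Subgroup (MulAction.stabilizer G a)).map
      (MulAction.stabilizer G a).subtype).index := by
    rw [Subgroup.index_map_subtype]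
    intro h1
    rcases (Nat.Prime.dvd_mul Nat.prime_two).mp h1 with h2 | h2
    · exact P.not_dvd_index h2
    · exact (Nat.not_even_iff_odd.mpr hodd) (even_iff_two_dvd.mpr h2)
  let S : Sylow 2 G := hPG.toSylow hPi
  have hSP : (S : Subgroup G) = (P : Subgroup (MulAction.stabilizer G a)).map
      (MulAction.stabilizer G a).subtype := rfl
  have hSa : ∀ s ∈ (S : Subgroup G), s • a = a := by
    intro s hs
    rw [hSP] at hs
    obtain ⟨t, -, rfl⟩ := hs
    exact t.2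
  have huS : u ∈ (S : Subgroup G) := by
    rw [hSP]
    exact ⟨⟨u, hua⟩, hP (mem_zpowers _), rfl⟩
  have hSK : (S : Subgroup G) ≤ MulAction.stabilizer G a := hSa
  have hV2 : IsPGroup 2 V := by
    intro x
    exact ⟨1, by rw [pow_one, pow_two]; exact Subtype.ext (hG.V_sq x x.2)⟩
  have hVS : V ≤ (S : Subgroup G) := by
    have h1 : (S : Subgroup G) ≤ normalizer (V : Set G) := by
      rw [le_normalizer_iff]
      intro g hg x hx
      exact hG.V_conj g (hSa g hg) x hx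
    have h2 : IsPGroup 2 ((S : Subgroup G) ⊔ V : Subgroup G) := S.2.to_sup_of_normal_right' hV2 h1
    have h3 := S.3 h2 le_sup_left
    exact le_sup_right.trans h3.le
  have hoddS : Odd ((S : Subgroup G).relIndex (MulAction.stabilizer G a)) := by
    have h1 := relIndex_mul_index hSK
    rw [← Nat.not_even_iff_odd, even_iff_two_dvd]
    intro h2
    exact S.not_dvd_index (h1 ▸ h2.mul_right _)
  have hStr : ∀ c, c ≠ a → ∃ s ∈ (S : Subgroup G), s • b = c := by
    intro c hc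
    obtain ⟨g, hga, hgb⟩ := hG.trans b c hT.ne hc
    obtain ⟨s, hs, hsb⟩ := trans_of_odd (S : Subgroup G) (MulAction.stabilizer G a) hSK hoddS b
      (k * 3) (by rw [hG.relIndex_stab_a hT.ne, pow_mul]) g hga
    exact ⟨s, hs, hsb.trans hgb⟩
  have hS2 : ∀ s ∈ (S : Subgroup G), ∃ n : ℕ, s ^ 2 ^ n = 1 := by
    intro s hs
    obtain ⟨n, hn⟩ := S.2 ⟨s, hs⟩
    exact ⟨n, Subtype.ext_iff.mp hn⟩
  obtain ⟨hI, hK⟩ := ThreeOddA.odd_count hG hT.ne (S : Subgroup G) hSa hVS hS2 hStr hcl huS hu hu1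
    hub
  have c : ThreeOddB.Ctx a b V (S : Subgroup G) k u :=
    { geo := hG, hb := hT.ne, hSa := hSa, hVS := hVS, hS2 := hS2, hStr := hStr, hcl := hcl,
      huS := huS, hu := hu, hu1 := hu1, hub := hub, hI := hI, hK := hK,
      hTh := Th_eq_cl hG hT hu hu1 hua hub hcl,
      hconj := fun g hg => conj_smul_b hG hT hu hu1 hua hub hcl hg }
  exact ThreeOddC.odd_end hG hk hT.ne S hSa huS hu hu1 hub c.Q (fun g hg => hg.1)
    (fun s hs g hg => c.Q_conj hs hg) (fun g hg g' hg' => c.Q_comm hg hg') c.card_Q c.V_le_Q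
    (fun g hg => c.Q_sq hg) (fun g hg h1 => c.Q_mem_V hg h1)
    (fun t ht ht2 htV g hg => c.Q_inv ⟨ht, ht2, htV⟩ hg)

/-- **Case (c3)** -/
theorem caseThree : ∀ (G Ω : Type u) [Group G] [Finite G] [MulAction G Ω] (z : G) (k : ℕ),
    CaseHyp G Ω z k 1 → (∀ a : Ω, Nat.card (At z a) + 1 = 2 ^ k) →
    Nat.card Ω = (2 ^ k) ^ 3 + 1 → False := by
  intro G Ω _ _ _ z k hC hat hΩ
  have hf2 : Fact (Nat.Prime 2) := ⟨Nat.prime_two⟩
  haveI : IsSimpleGroup G := hC.simple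
  obtain ⟨a, -⟩ := hC.setup.exists_fix
  have hG := ThreeHyp.geo hC hat hΩ a
  obtain ⟨b, H, hT⟩ := ThreeTor.exists_tor hC hat hΩ a
  have hodd := Cfsg.Agent.AschCrit.Transfer.odd_index_stabilizer hC.setup a
  have hna := Cfsg.Agent.AschCrit.Transfer.exists_noncomm hC.setup
  have hidx : ¬ ∃ M : Subgroup G, M.Normal ∧ M.index = 2 := by
    rintro ⟨M, hM, hM2⟩
    rcases hM.eq_bot_or_eq_top with h1 | h1
    · rw [h1, index_bot] at hM2
      obtain ⟨x, y, hxy⟩ := hna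
      apply hxy
      haveI : IsCyclic G := isCyclic_of_prime_card hM2
      exact (IsCyclic.commGroup (α := G)).mul_comm x y
    · rw [h1, index_top] at hM2
      exact absurd hM2 (by norm_num)
  rcases lam_cases hG hT with h1 | h1 | h1
  · exact ne_q hG hT.ne h1
  · rcases Nat.even_or_odd k with hk | hk
    · exact ThreeMid.even_false hG hT hk h1
    · exact hidx (odd_case hG hT hk h1 hodd)
  · -- `W` is transitive on the points `≠ a`
    haveI := hG.finite
    have h2 : hG.cl b = {c : Ω | c ≠ a} := by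
      have hsub : hG.cl b ⊆ {c : Ω | c ≠ a} := fun c hc => cl_ne_a hG hT.ne hc
      exact Set.eq_of_subset_of_ncard_le hsub (by rw [h1, hG.card_pts]) (Set.toFinite _)
    -- a Sylow subgroup in the stabiliser of `a`
    obtain ⟨P⟩ : Nonempty (Sylow 2 (MulAction.stabilizer G a)) := inferInstance
    have hPG : IsPGroup 2 ((P : Subgroup (MulAction.stabilizer G a)).map
        (MulAction.stabilizer G a).subtype) := P.2.map _
    have hPi : ¬ 2 ∣ ((P : Subgroup (MulAction.stabilizer G a)).map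
        (MulAction.stabilizer G a).subtype).index := by
      rw [Subgroup.index_map_subtype]
      intro h1
      rcases (Nat.Prime.dvd_mul Nat.prime_two).mp h1 with h2 | h2
      · exact P.not_dvd_index h2
      · exact (Nat.not_even_iff_odd.mpr hodd) (even_iff_two_dvd.mpr h2)
    let S : Sylow 2 G := hPG.toSylow hPi
    have hSP : (S : Subgroup G) = (P : Subgroup (MulAction.stabilizer G a)).map
        (MulAction.stabilizer G a).subtype := rfl
    have hSa : ∀ s ∈ S, s • a = a := by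
      intro s hs
      have hs' : s ∈ (S : Subgroup G) := hs
      rw [hSP] at hs'
      obtain ⟨t, -, rfl⟩ := hs'
      exact t.2
    refine ThreeFull.full_false hG hT S hSa ?_ ?_ hidx
    · intro c hc
      have h3 : c ∈ hG.cl b := by rw [h2]; exact hc
      exact h3
    · intro A _ hA φ
      exact Cfsg.Agent.AschCrit.Transfer.hom_stabilizer_eq_one hC.setup hA φ

end Cfsg.Agent.AschCrit.CommThree
end

private theorem dce_ecdfda7f86a8 : _root_.True := by
  try have : _root_.True := by simp only [_root_.Cfsg.Agent.AschCrit.CommFive.EndAlg.step.congr_simp]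
  exact _root_.True.intro
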